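import Cfsg.Agent.Lib.LinearGroup.TorusSylow
import Cfsg.Agent.Lib.LinearGroup.SylowChar
import Mathlib.GroupTheory.SpecificGroups.KleinFour

/-!
Noncyclic subgroups of generalised quaternion groups, and the Klein four Sylow subgroup of
`PSL₂(q)` for `q ≡ 3, 5 mod 8` (helper10).
-/

set_option autoImplicit false

namespace Cfsg.Agent.Classical10

open QuaternionGroup

theorem not_isCyclic_quaternion {n : ℕ} (hn : 2 ≤ n) : ¬ IsCyclic (QuaternionGroup n) := by
  intro h
  haveI : NeZero n := ⟨by omega⟩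
  have h1 := mul_comm' (a (1 : ZMod (2 * n))) (xa 0)
  rw [a_mul_xa, xa_mul_a, QuaternionGroup.xa.injEq, zero_sub, zero_add] at h1
  have h2 : ((2 : ℕ) : ZMod (2 * n)) = 0 := by push_cast; linear_combination -h1
  rw [ZMod.natCast_eq_zero_iff] at h2
  have := Nat.le_of_dvd two_pos h2
  omega

theorem xa_mul_self' {n : ℕ} (i : ZMod (2 * n)) : xa i * xa i = (a (n : ZMod (2 * n)) : QuaternionGroup n) := by
  simp [xa_mul_xa]

theorem exists_a_of_mem {n : ℕ} {y : QuaternionGroup n}
    (hy : y ∈ Subgroup.zpowers (a 1 : QuaternionGroup n)) : ∃ j, y = a j := by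
  let φ : Multiplicative (ZMod (2 * n)) →* QuaternionGroup n :=
    MonoidHom.mk' (fun i => a i.toAdd) fun i j => (a_mul_a i.toAdd j.toAdd).symm
  obtain ⟨j, hj⟩ := Subgroup.zpowers_le.2 (show (a 1 : QuaternionGroup n) ∈ φ.range from
    ⟨Multiplicative.ofAdd 1, rfl⟩) hy
  exact ⟨j.toAdd, hj.symm⟩

theorem exists_equiv_of_not_isCyclic {G : Type*} [Group G] {n : ℕ} [NeZero n]
    (f : G →* QuaternionGroup n) (hf : Function.Injective f) (hG : ¬ IsCyclic G) :
    ∃ m : ℕ, 2 ≤ m ∧ m ∣ n ∧ Nonempty (G ≃* QuaternionGroup m) := by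
  classical
  set A := Subgroup.zpowers (a 1 : QuaternionGroup n)
  set T := f.range
  have hT : ¬ IsCyclic T := fun h => hG ((MonoidHom.ofInjective hf).isCyclic.2 h)
  have haA : ∀ i, (a i : QuaternionGroup n) ∈ A := fun i =>
    ⟨(i.val : ℤ), by
      show (a 1 : QuaternionGroup n) ^ ((i.val : ℕ) : ℤ) = a i
      rw [zpow_natCast, a_one_pow, ZMod.natCast_zmod_val]⟩
  obtain ⟨i, hi⟩ : ∃ i, (xa i : QuaternionGroup n) ∈ T := by
    by_contra hcon
    refine hT ?_
    have hle : T ≤ A := by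
      rintro (j | j) hj
      · exact haA j
      · exact absurd ⟨j, hj⟩ hcon
    exact isCyclic_of_injective _ (Subgroup.inclusion_injective hle)
  haveI : IsCyclic A := inferInstance
  haveI : IsCyclic (A ⊓ T : Subgroup (QuaternionGroup n)) :=
    isCyclic_of_injective _ (Subgroup.inclusion_injective inf_le_left)
  obtain ⟨⟨c, hcA, hcT⟩, hgen⟩ := IsCyclic.exists_generator (α := (A ⊓ T : Subgroup (QuaternionGroup n)))
  obtain ⟨j, rfl⟩ : ∃ j, c = a j := exists_a_of_mem hcA
  have hjA : (a j : QuaternionGroup n) ∈ A := hcA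
  have hjT : (a j : QuaternionGroup n) ∈ T := hcT
  have hpow : ∀ y ∈ A ⊓ T, y ∈ Subgroup.zpowers (a j : QuaternionGroup n) := by
    intro y hy
    obtain ⟨k, hk⟩ := hgen ⟨y, hy⟩
    exact ⟨k, congrArg Subtype.val hk⟩
  have hxx : (a (n : ZMod (2 * n)) : QuaternionGroup n) ∈ Subgroup.zpowers (a j) :=
    hpow _ ⟨haA _, by rw [← xa_mul_self' i]; exact mul_mem hi hi⟩
  have hor2 : orderOf (a (n : ZMod (2 * n)) : QuaternionGroup n) = 2 := by
    refine orderOf_eq_prime (by rw [sq, a_mul_a, ← Nat.cast_add, ← two_mul, ZMod.natCast_self, a_zero]) ?_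
    intro h
    rw [one_def, QuaternionGroup.a.injEq, ZMod.natCast_eq_zero_iff] at h
    have := Nat.le_of_dvd (Nat.pos_of_ne_zero (NeZero.ne n)) h
    have := NeZero.ne n
    omega
  obtain ⟨m, hm⟩ : 2 ∣ orderOf (a j : QuaternionGroup n) := by
    rw [← hor2]
    exact orderOf_dvd_of_mem_zpowers hxx
  have hm0 : 0 < m := by
    have := orderOf_pos (a j : QuaternionGroup n); omega
  have hjn : (a j : QuaternionGroup n) ^ m = a (n : ZMod (2 * n)) := by
    obtain ⟨k, hk⟩ := hxx
    set g : QuaternionGroup n := a j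
    have h2 : g ^ (k * 2) = 1 := by
      rw [zpow_mul, show g ^ k = a (n : ZMod (2 * n)) from hk, zpow_two, ← sq]
      exact orderOf_dvd_iff_pow_eq_one.1 hor2.dvd
    rw [← orderOf_dvd_iff_zpow_eq_one, hm] at h2
    obtain ⟨l, rfl⟩ : (m : ℤ) ∣ k := by
      push_cast at h2
      rw [mul_comm k 2] at h2
      exact Int.dvd_of_mul_dvd_mul_left two_ne_zero h2
    have hodd : Odd l := by
      rcases Int.even_or_odd l with ⟨r, rfl⟩ | h
      · exfalso
        have h1 : g ^ ((m : ℤ) * (r + r)) = 1 := by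
          rw [← orderOf_dvd_iff_zpow_eq_one, hm]
          exact ⟨r, by push_cast; ring⟩
        rw [show g ^ ((m : ℤ) * (r + r)) = a (n : ZMod (2 * n)) from hk] at h1
        rw [h1, orderOf_one] at hor2
        omega
      · exact h
    obtain ⟨r, rfl⟩ := hodd
    rw [← show g ^ ((m : ℤ) * (2 * r + 1)) = a (n : ZMod (2 * n)) from hk, mul_add, mul_one, zpow_add,
      zpow_natCast, show (m : ℤ) * (2 * r) = ((2 * m : ℕ) : ℤ) * r by push_cast; ring, zpow_mul,
      zpow_natCast, ← hm, pow_orderOf_eq_one, one_zpow, one_mul]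
  have hsub : ∀ y ∈ T, y ∈ Subgroup.zpowers (a j : QuaternionGroup n) ∨
      (xa i)⁻¹ * y ∈ Subgroup.zpowers (a j : QuaternionGroup n) := by
    rintro (l | l) hy
    · exact Or.inl (hpow _ ⟨haA l, hy⟩)
    · have hi' : (xa i : QuaternionGroup n)⁻¹ * xa l ∈ T := mul_mem (inv_mem hi) hy
      refine Or.inr (hpow _ ⟨?_, hi'⟩)
      have hinv : (xa i : QuaternionGroup n)⁻¹ = xa ((n : ZMod (2 * n)) + i) := rfl
      rw [hinv, xa_mul_xa]
      exact haA _
  have hm2 : 2 ≤ m := by
    by_contra hcon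
    obtain rfl : m = 1 := by omega
    rw [pow_one] at hjn
    refine hT (isCyclic_iff_exists_zpowers_eq_top.2 ⟨⟨xa i, hi⟩, ?_⟩)
    rw [eq_top_iff]
    rintro ⟨y, hy⟩ -
    have hsq : (a j : QuaternionGroup n) = xa i * xa i := by rw [xa_mul_self', hjn]
    have key : ∀ z ∈ Subgroup.zpowers (a j : QuaternionGroup n), z ∈ Subgroup.zpowers (xa i : QuaternionGroup n) := by
      intro z hz
      refine Subgroup.zpowers_le.2 ?_ hz
      rw [hsq]
      exact mul_mem (Subgroup.mem_zpowers _) (Subgroup.mem_zpowers _)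
    have hmem : y ∈ Subgroup.zpowers (xa i : QuaternionGroup n) := by
      rcases hsub y hy with h | h
      · exact key y h
      · simpa using mul_mem (Subgroup.mem_zpowers (xa i : QuaternionGroup n)) (key _ h)
    obtain ⟨k, hk⟩ := hmem
    exact ⟨k, Subtype.ext (by simpa using hk)⟩
  haveI : NeZero m := ⟨by omega⟩
  have hmn : m ∣ n := by
    have h := orderOf_dvd_natCard (⟨a j, hjA⟩ : A)
    rw [← Subgroup.orderOf_coe, Nat.card_zpowers, orderOf_a_one, hm] at h
    exact Nat.dvd_of_mul_dvd_mul_left two_pos h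
  have hcomm : (xa i : QuaternionGroup n) * a j = (a j)⁻¹ * xa i := by
    have hinv : (a j : QuaternionGroup n)⁻¹ = a (-j) := rfl
    rw [hinv, xa_mul_a, a_mul_xa, sub_neg_eq_add]
  obtain ⟨φ, -, -, hφa, hφx⟩ := LinearGroup.exists_quaternion_hom (n := m) (a j) (xa i)
    (hm ▸ pow_orderOf_eq_one _) (by rw [xa_mul_self', hjn]) hcomm
  have hinj : Function.Injective φ := by
    refine (injective_iff_map_eq_one φ).mpr ?_
    rintro (l | l) hl
    · rw [hφa] at hl
      have h0 : l.val = 0 := by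
        by_contra h
        exact absurd (orderOf_le_of_pow_eq_one (Nat.pos_of_ne_zero h) hl)
          (by rw [hm]; have := ZMod.val_lt l; omega)
      rw [(ZMod.val_eq_zero l).mp h0]
      exact QuaternionGroup.a_zero
    · rw [hφx] at hl
      exfalso
      obtain ⟨k, hk⟩ : ∃ k, (a j : QuaternionGroup n) ^ l.val = a k :=
        exists_a_of_mem (pow_mem (haA j) l.val)
      rw [hk, xa_mul_a, one_def] at hl
      cases hl
  have hrange : φ.range = T := by
    refine le_antisymm ?_ ?_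
    · rintro _ ⟨l | l, rfl⟩
      · rw [hφa]; exact pow_mem hjT _
      · rw [hφx]; exact mul_mem hi (pow_mem hjT _)
    · intro y hy
      have hg : (a j : QuaternionGroup n) ∈ φ.range := by
        haveI : Fact (1 < 2 * m) := ⟨by omega⟩
        exact ⟨a 1, by rw [hφa, ZMod.val_one, pow_one]⟩
      have hx : (xa i : QuaternionGroup n) ∈ φ.range := ⟨xa 0, by rw [hφx, ZMod.val_zero, pow_zero, mul_one]⟩
      rcases hsub y hy with h | h
      · exact Subgroup.zpowers_le.2 hg h
      · simpa using mul_mem hx (Subgroup.zpowers_le.2 hg h)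
  exact ⟨m, hm2, hmn, ⟨(MonoidHom.ofInjective hf).trans
    ((MulEquiv.subgroupCongr hrange.symm).trans (MonoidHom.ofInjective hinj).symm)⟩⟩

/-- For `q ≡ ±3 mod 8` the Sylow 2-subgroups of `PSL₂(q)` are four-groups. -/
theorem isKleinFour_sylow_PSL {F : Type*} [Field F] [Fintype F] {q : ℕ}
    (hF : Fintype.card F = q) (hq : q % 8 = 3 ∨ q % 8 = 5)
    (P : Sylow 2 (Matrix.ProjectiveSpecialLinearGroup (Fin 2) F)) :
    IsKleinFour (P : Subgroup (Matrix.ProjectiveSpecialLinearGroup (Fin 2) F)) := by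
  have hqN : Nat.card F = q := by rw [Nat.card_eq_fintype_card, hF]
  have hodd : Odd (Nat.card F) := by rw [hqN, Nat.odd_iff]; omega
  obtain ⟨w, hw⟩ : ∃ w, q ^ 2 - 1 = 8 * (2 * w + 1) := by
    rcases hq with h | h
    · obtain ⟨r, rfl⟩ : ∃ r, q = 8 * r + 3 := ⟨q / 8, by omega⟩
      refine ⟨4 * r * r + 3 * r, ?_⟩
      rw [show (8 * r + 3) ^ 2 = 8 * (2 * (4 * r * r + 3 * r) + 1) + 1 by ring, Nat.add_sub_cancel]
    · obtain ⟨r, rfl⟩ : ∃ r, q = 8 * r + 5 := ⟨q / 8, by omega⟩
      refine ⟨4 * r * r + 5 * r + 1, ?_⟩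
      rw [show (8 * r + 5) ^ 2 = 8 * (2 * (4 * r * r + 5 * r + 1) + 1) + 1 by ring, Nat.add_sub_cancel]
  have hnd : ¬ 2 ∣ q * (2 * w + 1) :=
    Odd.not_two_dvd_nat ((hqN ▸ hodd).mul ⟨w, rfl⟩)
  haveI : Fact (Nat.Prime 2) := ⟨Nat.prime_two⟩
  have hcard : Nat.card P = 4 := by
    rw [P.card_eq_multiplicity]
    refine LinearGroup.ordProj_eq_of_coprime 2 (e := 2) hnd ?_
    have h := LinearGroup.gcd_mul_card_PSL_two (F := F)
    rw [hqN, Nat.gcd_eq_left (by omega : 2 ∣ q - 1), hw] at h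
    refine Nat.eq_of_mul_eq_mul_left two_pos (h.trans ?_)
    ring
  set π := QuotientGroup.mk' (Subgroup.center (Matrix.SpecialLinearGroup (Fin 2) F))
  have hπ : Function.Surjective π := QuotientGroup.mk'_surjective _
  obtain ⟨R, hR⟩ := Sylow.mapSurjective_surjective hπ 2 P
  obtain ⟨k, hk, ⟨e⟩⟩ := LinearGroup.quaternion_sylow_SL_two hodd R
  have hRcard : Nat.card R = 8 := by
    rw [R.card_eq_multiplicity]
    refine LinearGroup.ordProj_eq_of_coprime 2 (e := 3) hnd ?_
    rw [LinearGroup.card_SL_two, hqN, hw]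
    ring
  haveI : NeZero (2 ^ k) := ⟨by positivity⟩
  have hk1 : k = 1 := by
    rw [Nat.card_congr e.toEquiv, Nat.card_eq_fintype_card, QuaternionGroup.card] at hRcard
    have h21 : 2 ^ k = 2 ^ 1 := by omega
    exact Nat.pow_right_injective le_rfl h21
  have h4 : ∀ y : Matrix.SpecialLinearGroup (Fin 2) F, y ∈ R → y ^ 4 = 1 := by
    intro y hy
    subst hk1
    have h : ∀ z : QuaternionGroup (2 ^ 1), z ^ 4 = 1 := by decide
    have := congrArg Subtype.val (e.injective (a₁ := (⟨y, hy⟩ : (R : Subgroup _)) ^ 4) (a₂ := 1)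
      (by rw [map_pow, h, map_one]))
    simpa using this
  have h2 : (2 : F) ≠ 0 := Ring.two_ne_zero fun e2 => by
    have := FiniteField.even_card_of_char_two e2
    rw [hF] at this
    omega
  have hexp : ∀ x ∈ (P : Subgroup (Matrix.ProjectiveSpecialLinearGroup (Fin 2) F)), x ^ 2 = 1 := by
    intro x hx
    rw [← hR, Sylow.coe_mapSurjective] at hx
    obtain ⟨y, hy, rfl⟩ := hx
    rw [← map_pow, ← MonoidHom.mem_ker, QuotientGroup.ker_mk', Subgroup.mem_center_iff]
    intro g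
    by_cases hy2 : y ^ 2 = 1
    · rw [hy2, mul_one, one_mul]
    · have hneg := LinearGroup.eq_neg_one_of_sq_eq_one h2 (y ^ 2)
        (by rw [← pow_add]; exact h4 y hy) hy2
      refine Subtype.ext ?_
      rw [Matrix.SpecialLinearGroup.coe_mul, Matrix.SpecialLinearGroup.coe_mul, hneg]
      simp
  refine ⟨hcard, ?_⟩
  have hd : Monoid.exponent (P : Subgroup (Matrix.ProjectiveSpecialLinearGroup (Fin 2) F)) ∣ 2 :=
    Monoid.exponent_dvd_iff_forall_pow_eq_one.2 fun x => Subtype.ext (by simpa using hexp x.1 x.2)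
  rcases (Nat.dvd_prime Nat.prime_two).1 hd with h | h
  · rw [Monoid.exp_eq_one_iff] at h
    have : Nat.card P ≤ 1 := Finite.card_le_one_iff_subsingleton.2 h
    omega
  · exact h

end Cfsg.Agent.Classical10
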