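import Cfsg.Agent.PLocalB.SL2Dickson
import Cfsg.Agent.Classical10.SL2Sylow

/-!
Dickson's theorem for subgroups of `SL₂(q)` with several Sylow `p`-subgroups, and the quaternion
Sylow 2-subgroups of such subgroups (helper10).
-/

set_option autoImplicit false
set_option linter.style.haveILetI false

open scoped MatrixGroups
open Matrix

namespace Cfsg.Agent.Classical10

open Cfsg.Agent.PLocalB (upper diagOne primeEmb)

variable {k : Type*} [Field k] {p : ℕ} [Fact p.Prime] [CharP k p]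

theorem entries_sum_eq_two {x : SL(2, k)} {n : ℕ} (hpow : x ^ p ^ n = 1) : x 0 0 + x 1 1 = 2 := by
  have h : ((x : Matrix (Fin 2) (Fin 2) k) - 1) ^ p ^ n = 0 := by
    rw [sub_pow_char_pow_of_commute p n (Commute.one_right _), one_pow,
      ← Matrix.SpecialLinearGroup.coe_pow, hpow, Matrix.SpecialLinearGroup.coe_one, sub_self]
  have h2 : ((x : Matrix (Fin 2) (Fin 2) k) - 1).det = 0 := by
    have h3 := congrArg Matrix.det h
    rw [Matrix.det_pow, Matrix.det_zero] at h3
    exact eq_zero_of_pow_eq_zero h3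
  have hd := PLocalB.det_entries x
  rw [Matrix.det_fin_two] at h2
  simp at h2
  linear_combination hd - h2

theorem eq_upper_of_pow {x : SL(2, k)} {n : ℕ} (hpow : x ^ p ^ n = 1) (h10 : x 1 0 = 0) :
    x = upper (x 0 1) := by
  refine PLocalB.eq_upper_of_entries x h10 ?_
  have hd := PLocalB.det_entries x
  rw [h10, mul_zero, sub_zero] at hd
  have hs := entries_sum_eq_two hpow
  have h : (x 0 0 - 1) ^ 2 = 0 := by linear_combination (x 0 0) * hs - hd
  exact sub_eq_zero.1 ((pow_eq_zero_iff two_ne_zero).1 h)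

theorem exists_conj_upper_one [IsAlgClosed k] {x : SL(2, k)} (hx : x ≠ 1) {n : ℕ}
    (hpow : x ^ p ^ n = 1) : ∃ t : SL(2, k), t * x * t⁻¹ = upper 1 := by
  have caseA : ∀ y : SL(2, k), y ≠ 1 → y ^ p ^ n = 1 → y 1 0 = 0 →
      ∃ t : SL(2, k), t * y * t⁻¹ = upper 1 := by
    intro y hy hp h10
    have he := eq_upper_of_pow hp h10
    set b := y 0 1 with hb
    have hb0 : b ≠ 0 := fun h => hy (by rw [he, h, PLocalB.upper_zero])
    obtain ⟨s, hs⟩ := IsAlgClosed.exists_eq_mul_self b⁻¹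
    have hs0 : s ≠ 0 := fun h => by rw [h, mul_zero] at hs; exact inv_ne_zero hb0 hs
    refine ⟨diagOne s hs0, ?_⟩
    rw [mul_inv_eq_iff_eq_mul, he]
    apply Subtype.ext
    have hsb : s * b = s⁻¹ :=
      eq_inv_of_mul_eq_one_right (by rw [← mul_assoc, ← hs, inv_mul_cancel₀ hb0])
    simp [Matrix.mul_fin_two, hsb]
  by_cases h10 : x 1 0 = 0
  · exact caseA x hx hpow h10
  · obtain ⟨t₀, ht₀⟩ : ∃ t₀ : SL(2, k), (t₀ : Matrix (Fin 2) (Fin 2) k) =
        !![0, -(x 1 0)⁻¹; x 1 0, -(x 0 0 - 1)] :=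
      ⟨⟨!![0, -(x 1 0)⁻¹; x 1 0, -(x 0 0 - 1)], by simp [Matrix.det_fin_two, h10]⟩, rfl⟩
    have hs := entries_sum_eq_two hpow
    have hd := PLocalB.det_entries x
    have hr0 : (t₀ * x) 1 0 = t₀ 1 0 := by
      rw [Matrix.SpecialLinearGroup.coe_mul, Matrix.mul_apply, Fin.sum_univ_two, ht₀]
      simp
      ring
    have hr1 : (t₀ * x) 1 1 = t₀ 1 1 := by
      rw [Matrix.SpecialLinearGroup.coe_mul, Matrix.mul_apply, Fin.sum_univ_two, ht₀]
      simp
      linear_combination -hd + hs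
    have hy10 : (t₀ * x * t₀⁻¹) 1 0 = 0 := by
      rw [Matrix.SpecialLinearGroup.coe_mul, Matrix.mul_apply, Fin.sum_univ_two, hr0, hr1]
      have h := congrArg (fun M : SL(2, k) => M 1 0) (mul_inv_cancel t₀)
      rw [Matrix.SpecialLinearGroup.coe_mul, Matrix.mul_apply, Fin.sum_univ_two] at h
      exact h.trans (by simp)
    obtain ⟨t, ht⟩ := caseA (t₀ * x * t₀⁻¹) (PLocalB.conj_ne_one' hx)
      (by rw [conj_pow, hpow, mul_one, mul_inv_cancel]) hy10
    exact ⟨t * t₀, by rw [← ht]; group⟩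

/-- **Dickson.** -/
theorem exists_subgroup_equiv_SL_two_prime {F : Type*} [Field F] [Finite F] (p : ℕ) [Fact p.Prime]
    [CharP F p] (hp : p ≠ 2) (H : Subgroup SL(2, F)) (hH : 1 < Nat.card (Sylow p H)) :
    ∃ K : Subgroup SL(2, F), K ≤ H ∧ Nonempty (K ≃* SL(2, ZMod p)) := by
  classical
  let k := AlgebraicClosure F
  haveI : CharP k p := charP_of_injective_algebraMap (algebraMap F k).injective p
  let ι : SL(2, F) →* SL(2, k) := Matrix.SpecialLinearGroup.map (algebraMap F k)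
  have hι : Function.Injective ι := by
    intro A B h
    ext i j
    exact (algebraMap F k).injective (congrArg (fun M : SL(2, k) => M i j) h)
  haveI : Nontrivial (Sylow p H) := Finite.one_lt_card_iff_nontrivial.1 hH
  obtain ⟨P₀, P₁, hne⟩ := exists_pair_ne (Sylow p H)
  obtain ⟨x, hxP, hx1⟩ : ∃ x ∈ (P₀ : Subgroup H), x ≠ 1 := by
    by_contra hcon
    push Not at hcon
    have hbot : (P₀ : Subgroup H) = ⊥ := (Subgroup.eq_bot_iff_forall _).2 hcon
    exact hne (Sylow.ext (P₀.is_maximal' P₁.isPGroup' (by rw [hbot]; exact bot_le))).symm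
  obtain ⟨n, hn⟩ := P₀.isPGroup' ⟨x, hxP⟩
  have hn' : (x : H) ^ p ^ n = 1 := congrArg Subtype.val hn
  let ψ₀ : H →* SL(2, k) := ι.comp H.subtype
  have hψ₀ : Function.Injective ψ₀ := hι.comp H.subtype_injective
  obtain ⟨t, ht⟩ := exists_conj_upper_one (p := p) (x := ψ₀ x)
    (fun h => hx1 (hψ₀ (h.trans (map_one ψ₀).symm))) (n := n) (by rw [← map_pow, hn', map_one])
  let ψ : H →* SL(2, k) := (MulAut.conj t).toMonoidHom.comp ψ₀
  have hψ : Function.Injective ψ := (MulAut.conj t).injective.comp hψ₀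
  have hxu : upper (1 : k) ∈ ψ.range := ⟨x, ht⟩
  have hmove : ∃ g ∈ ψ.range, g 1 0 ≠ 0 := by
    by_contra hcon
    push Not at hcon
    let U : Subgroup SL(2, k) :=
      { carrier := Set.range upper
        one_mem' := ⟨0, PLocalB.upper_zero⟩
        mul_mem' := by rintro _ _ ⟨a, rfl⟩ ⟨b, rfl⟩; exact ⟨a + b, (PLocalB.upper_mul a b).symm⟩
        inv_mem' := by rintro _ ⟨a, rfl⟩; exact ⟨-a, (PLocalB.upper_inv a).symm⟩ }
    have hU : IsPGroup p (U.comap ψ) := by
      rintro ⟨y, hy⟩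
      obtain ⟨a, ha⟩ := Subgroup.mem_comap.1 hy
      refine ⟨1, Subtype.ext (hψ ?_)⟩
      change ψ (y ^ p ^ 1) = ψ 1
      rw [map_pow, ← ha, pow_one, PLocalB.upper_pow, CharP.cast_eq_zero, zero_mul,
        PLocalB.upper_zero, map_one]
    have hle : ∀ P : Sylow p H, (P : Subgroup H) ≤ U.comap ψ := by
      intro P y hy
      obtain ⟨m, hm⟩ := P.isPGroup' ⟨y, hy⟩
      have hm' : y ^ p ^ m = 1 := congrArg Subtype.val hm
      exact ⟨_, (eq_upper_of_pow (p := p) (n := m) (by rw [← map_pow, hm', map_one])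
        (hcon _ ⟨y, rfl⟩)).symm⟩
    exact hne (Sylow.ext ((P₀.is_maximal' hU (hle P₀)).symm.trans (P₁.is_maximal' hU (hle P₁))))
  haveI : Finite ψ.range := Finite.of_surjective ψ.rangeRestrict ψ.rangeRestrict_surjective
  obtain ⟨u, hu⟩ := PLocalB.containsPrimeSL_of_upper hp ψ.range hxu hmove
  let ρ : SL(2, ZMod p) →* SL(2, k) := (MulAut.conj u⁻¹).toMonoidHom.comp (primeEmb p k)
  have hρ : Function.Injective ρ := (MulAut.conj u⁻¹).injective.comp PLocalB.primeEmb_injective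
  have hρr : ρ.range ≤ ψ.range := by
    rintro _ ⟨M, rfl⟩
    simpa [ρ] using hu M
  refine ⟨(ρ.range.comap ψ).map H.subtype, Subgroup.map_subtype_le _, ⟨?_⟩⟩
  refine ((Subgroup.equivMapOfInjective _ _ H.subtype_injective).symm.trans
    (Subgroup.equivMapOfInjective _ ψ hψ)).trans ?_
  exact (MulEquiv.subgroupCongr (Subgroup.map_comap_eq_self hρr)).trans
    (MonoidHom.ofInjective hρ).symm

/-- The Sylow 2-subgroups of a subgroup of `SL₂(q)` with several Sylow `p`-subgroups are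
generalised quaternion. -/
theorem quaternion_sylow_two {F : Type*} [Field F] [Finite F] (p : ℕ) [Fact p.Prime] [CharP F p]
    (hp : p ≠ 2) (H : Subgroup SL(2, F)) (hH : 1 < Nat.card (Sylow p H)) (S : Sylow 2 H) :
    ∃ k : ℕ, 1 ≤ k ∧ Nonempty ((S : Subgroup H) ≃* QuaternionGroup (2 ^ k)) := by
  obtain ⟨K, hKH, ⟨e⟩⟩ := exists_subgroup_equiv_SL_two_prime p hp H hH
  have hoddF : Odd (Nat.card F) := by
    obtain ⟨m, hm, hq⟩ := LinearGroup.exists_natCard_eq_pow (F := F) p
    rw [hq]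
    exact ((Fact.out : p.Prime).odd_of_ne_two hp).pow
  obtain ⟨R⟩ := (inferInstance : Nonempty (Sylow 2 SL(2, ZMod p)))
  obtain ⟨a, ha, ⟨eR⟩⟩ := LinearGroup.quaternion_sylow_SL_two
    (by rw [Nat.card_zmod]; exact (Fact.out : p.Prime).odd_of_ne_two hp) R
  let f : (R : Subgroup SL(2, ZMod p)) →* H :=
    ((Subgroup.inclusion hKH).comp e.symm.toMonoidHom).comp (R : Subgroup SL(2, ZMod p)).subtype
  have hf : Function.Injective f :=
    ((Subgroup.inclusion_injective hKH).comp e.symm.injective).comp Subtype.val_injective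
  obtain ⟨S', hS'⟩ := IsPGroup.exists_le_sylow
    ((R.isPGroup'.of_equiv (MonoidHom.ofInjective hf)) : IsPGroup 2 f.range)
  have hnc : ¬ IsCyclic (S : Subgroup H) := by
    intro h
    haveI : IsCyclic (S' : Subgroup H) := (Sylow.equiv S S').isCyclic.1 h
    haveI : IsCyclic f.range := isCyclic_of_injective _ (Subgroup.inclusion_injective hS')
    refine not_isCyclic_quaternion (n := 2 ^ a) ?_
      ((((MonoidHom.ofInjective hf).symm.trans eR)).isCyclic.1 inferInstance)
    calc 2 = 2 ^ 1 := rfl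
      _ ≤ 2 ^ a := Nat.pow_le_pow_right (by norm_num) ha
  let g : (S : Subgroup H) →* SL(2, F) := H.subtype.comp (S : Subgroup H).subtype
  have hg : Function.Injective g := H.subtype_injective.comp Subtype.val_injective
  obtain ⟨Q, hQ⟩ := IsPGroup.exists_le_sylow
    ((S.isPGroup'.of_equiv (MonoidHom.ofInjective hg)) : IsPGroup 2 g.range)
  obtain ⟨b, hb, ⟨eQ⟩⟩ := LinearGroup.quaternion_sylow_SL_two hoddF Q
  haveI : NeZero (2 ^ b) := ⟨by positivity⟩
  let h : (S : Subgroup H) →* QuaternionGroup (2 ^ b) :=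
    (eQ.toMonoidHom.comp (Subgroup.inclusion hQ)).comp (MonoidHom.ofInjective hg).toMonoidHom
  have hinj : Function.Injective h :=
    (eQ.injective.comp (Subgroup.inclusion_injective hQ)).comp (MonoidHom.ofInjective hg).injective
  obtain ⟨m, hm2, hmd, hiso⟩ := exists_equiv_of_not_isCyclic h hinj hnc
  obtain ⟨c, -, rfl⟩ := (Nat.dvd_prime_pow Nat.prime_two).1 hmd
  refine ⟨c, ?_, hiso⟩
  rcases c with _ | c
  · simp at hm2
  · omega

end Cfsg.Agent.Classical10
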