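import Cfsg.Agent.Lib.Unitary.Count
import Cfsg.Agent.Lib.Forms.Symp

/-!
The stabiliser of a non-degenerate subspace in `GU_n(q)` (helper10).
-/

set_option autoImplicit false

namespace Cfsg.Agent.Classical10

open Cfsg.Agent.Unitary Matrix
open Module (finrank)

variable {F : Type*} [Field F] [Fintype F] {q : ℕ} (hF : Fintype.card F = q ^ 2)

include hF

omit hF in
theorem smul_eq_zero_GU {n : ℕ} (g : GU n F q) {v : Fin n → F} (h : g • v = 0) : v = 0 := by
  rwa [smul_eq_zero_iff_eq] at h

theorem exists_GU_of_endo {n : ℕ} (L : (Fin n → F) →ₗ[F] (Fin n → F))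
    (h : ∀ x y, herm q (L x) (L y) = herm q x y) : ∃ g : GU n F q, ∀ x, g • x = L x :=
  ⟨mkGU hF (LinearMap.toMatrix' L) (fun x y => by
    rw [LinearMap.toMatrix'_mulVec, LinearMap.toMatrix'_mulVec]; exact h x y),
    fun x => LinearMap.toMatrix'_mulVec L x⟩

theorem stabilizer_equiv_prod {n k : ℕ} (hk : k ≤ n) (W : Submodule F (Fin n → F))
    (hWk : finrank F W = k) (hW : ∀ u ∈ W, (∀ v ∈ W, hermForm n F q u v = 0) → u = 0) :
    Nonempty (((Cfsg.stabilizing (Cfsg.glToMat (Fin n) F) (W : Set (Fin n → F))).subgroupOf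
      (GU n F q)) ≃* GU k F q × GU (n - k) F q) := by
  classical
  obtain ⟨m, rfl⟩ : ∃ m, n = k + m := ⟨n - k, by omega⟩
  rw [Nat.add_sub_cancel_left]
  have hW' : ∀ w ∈ W, (∀ v ∈ W, hermB hF (k + m) w v = 0) → w = 0 := fun w hw h =>
    hW w hw fun v hv => (herm_eq_zero_comm hF).1 (h v hv)
  obtain ⟨b, hbW, hb⟩ := Forms.exists_orthonormal_family (σ := conjHom hF) (conjHom_ne_id hF)
    (pow_q_pow_q hF) (hermB hF (k + m)) ⟨fun x y => (herm_swap hF y x).symm⟩ k W hW' hWk
  have hbo : ∀ i j, herm q (b i) (b j) = if i = j then 1 else 0 := fun i j => by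
    have := hb j i
    rw [hermB_apply] at this
    simp only [this, eq_comm]
  let X : Submodule F (Fin (k + m) → F) :=
    { carrier := {v | ∀ j : Fin m, v (Fin.natAdd k j) = 0}
      add_mem' := fun hx hy j => by simp [hx j, hy j]
      zero_mem' := fun j => rfl
      smul_mem' := fun c x hx j => by simp [hx j] }
  let f : (Fin (k + m) → F) →ₗ[F] (Fin (k + m) → F) :=
    { toFun := fun v => ∑ i : Fin k, v (Fin.castAdd m i) • b i
      map_add' := fun x y => by simp [add_smul, Finset.sum_add_distrib]
      map_smul' := fun c x => by simp [Finset.smul_sum, smul_smul] }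
  have hf : ∀ u ∈ X, ∀ v ∈ X, herm q (f u) (f v) = herm q u v := by
    intro u hu v hv
    show herm q (∑ i, u (Fin.castAdd m i) • b i) (∑ i, v (Fin.castAdd m i) • b i) = _
    rw [herm_sum_left]
    simp only [herm_smul_left]
    rw [herm, hermForm, Fin.sum_univ_add]
    simp only [hu _, hv _, zero_mul, Finset.sum_const_zero, add_zero]
    refine Finset.sum_congr rfl fun i _ => ?_
    congr 1
    rw [← hermB_apply hF, map_sum, LinearMap.sum_apply]
    simp [hermB_apply, hbo, conjHom_apply]
  have hinj : ∀ v ∈ X, f v = 0 → v = 0 := by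
    intro v hv h0
    refine eq_zero_of_herm hF fun y => ?_
    have hvi : ∀ i, v (Fin.castAdd m i) = 0 := fun i => by
      have h1 : herm q (f v) (b i) = 0 := by rw [h0, herm_zero_left]
      change herm q (∑ j, v (Fin.castAdd m j) • b j) (b i) = 0 at h1
      simpa [herm_sum_left, herm_smul_left, hbo] using h1
    rw [show v = 0 from funext fun l => Fin.addCases hvi (hv) l, herm_zero_left]
  obtain ⟨g, -, hg⟩ := exists_fixGU_of_map hF ∅ X f (by simp) (by simp) hinj hf
  let mg : (Fin k → F) → (Fin m → F) → (Fin (k + m) → F) := Fin.append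
  have hmgL : ∀ v : Fin (k + m) → F, mg (fun i => v (Fin.castAdd m i)) (fun j => v (Fin.natAdd k j)) = v :=
    fun v => funext fun l => Fin.addCases (fun i => by simp [mg]) (fun j => by simp [mg]) l
  have hherm : ∀ x x' y y', herm q (mg x y) (mg x' y') = herm q x x' + herm q y y' := by
    intro x x' y y'
    simp [herm, hermForm, Fin.sum_univ_add, mg]
  have hadd : ∀ x x' y y', mg (x + x') (y + y') = mg x y + mg x' y' := fun x x' y y' =>
    funext fun l => Fin.addCases (fun i => by simp [mg]) (fun j => by simp [mg]) l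
  have hsmul : ∀ (c : F) x y, mg (c • x) (c • y) = c • mg x y := fun c x y =>
    funext fun l => Fin.addCases (fun i => by simp [mg]) (fun j => by simp [mg]) l
  have hmem : ∀ w, w ∈ W ↔ ∃ x, w = g • mg x 0 := by
    have hle : X.map f ≤ W := by
      rintro _ ⟨v, -, rfl⟩
      show ∑ i, v (Fin.castAdd m i) • b i ∈ W
      exact sum_mem fun i _ => W.smul_mem _ (hbW i)
    intro w
    constructor
    · intro hw
      set x : Fin k → F := fun i => herm q w (b i)
      refine ⟨x, ?_⟩
      rw [hg (mg x 0) (fun j => by simp [mg])]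
      show w = ∑ i, mg x 0 (Fin.castAdd m i) • b i
      simp only [mg, Fin.append_left]
      refine sub_eq_zero.1 (hW _ (sub_mem hw (sum_mem fun i _ => W.smul_mem _ (hbW i))) ?_)
      intro v hv
      have hli : ∀ j, herm q (w - ∑ i, x i • b i) (b j) = 0 := fun j => by
        simp [herm_sub_left, herm_sum_left, herm_smul_left, hbo, x]
      have hspan : Submodule.span F (Set.range b) = W := by
        refine Submodule.eq_of_le_of_finrank_eq (Submodule.span_le.2 (by rintro _ ⟨i, rfl⟩; exact hbW i)) ?_
        rw [hWk, _root_.finrank_span_eq_card, Fintype.card_fin]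
        rw [Fintype.linearIndependent_iff]
        intro c hc i
        have := congrArg (fun z => herm q z (b i)) hc
        simpa [herm_sum_left, herm_smul_left, hbo, herm_zero_left] using this
      rw [← hspan] at hv
      show herm q (w - ∑ i, x i • b i) v = 0
      induction hv using Submodule.span_induction with
      | mem z hz => obtain ⟨j, rfl⟩ := hz; exact hli j
      | zero => exact herm_zero_right hF _
      | add y z _ _ hy hz => rw [herm_add_right hF, hy, hz, add_zero]
      | smul c y _ hy => rw [herm_smul_right hF, hy, mul_zero]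
    · rintro ⟨x, rfl⟩
      have hx : mg x 0 ∈ X := fun j => by simp [mg]
      rw [hg _ hx]
      exact hle ⟨_, hx, rfl⟩
  -- the embedding
  have hex : ∀ p : GU k F q × GU m F q, ∃ G : GU (k + m) F q,
      ∀ x y, G • (g • mg x y) = g • mg (p.1 • x) (p.2 • y) := by
    intro p
    let L : (Fin (k + m) → F) →ₗ[F] (Fin (k + m) → F) :=
      { toFun := fun v => mg (p.1 • fun i => v (Fin.castAdd m i)) (p.2 • fun j => v (Fin.natAdd k j))
        map_add' := fun u v => by
          rw [← hadd, ← smul_add, ← smul_add]; rfl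
        map_smul' := fun c v => by
          rw [RingHom.id_apply, ← hsmul, ← smul_comm p.1, ← smul_comm p.2]; rfl }
    obtain ⟨G, hG⟩ := exists_GU_of_endo hF L fun u v => by
      show herm q (mg _ _) (mg _ _) = _
      rw [hherm, herm_smul_GU, herm_smul_GU, ← hherm, hmgL, hmgL]
    refine ⟨g * G * g⁻¹, fun x y => ?_⟩
    rw [mul_smul, mul_smul, inv_smul_smul, hG]
    simp [L, mg]
  choose ψ hψ using hex
  have hall : ∀ v : Fin (k + m) → F, ∃ x y, v = g • mg x y := fun v =>
    ⟨_, _, by rw [hmgL (g⁻¹ • v), smul_inv_smul]⟩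
  let φ : GU k F q × GU m F q →* GU (k + m) F q := MonoidHom.mk' ψ fun p p' =>
    eq_of_smul_eq_GU fun v => by
      obtain ⟨x, y, rfl⟩ := hall v
      rw [hψ, mul_smul (ψ p), hψ, hψ, Prod.fst_mul, Prod.snd_mul, mul_smul, mul_smul]
  have hφi : Function.Injective φ := by
    rw [injective_iff_map_eq_one]
    intro p hp
    have h1 : ∀ x y, mg (p.1 • x) (p.2 • y) = mg x y := fun x y => by
      have := hψ p x y
      rw [show ψ p = 1 from hp, one_smul] at this
      exact (smul_left_cancel g this).symm
    refine Prod.ext (eq_of_smul_eq_GU fun x => ?_) (eq_of_smul_eq_GU fun y => ?_)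
    · funext i
      simpa [mg] using congrFun (h1 x 0) (Fin.castAdd m i)
    · funext j
      simpa [mg] using congrFun (h1 0 y) (Fin.natAdd k j)
  have hrange : φ.range = (Cfsg.stabilizing (Cfsg.glToMat (Fin (k + m)) F)
      (W : Set (Fin (k + m) → F))).subgroupOf (GU (k + m) F q) := by
    refine le_antisymm ?_ fun G hG => ?_
    · rintro _ ⟨p, rfl⟩
      rw [Subgroup.mem_subgroupOf]
      refine (Forms.mem_stabilizing_submodule_iff _ W _).2 fun w hw => ?_
      obtain ⟨x, rfl⟩ := (hmem w).1 hw
      refine (hmem _).2 ⟨p.1 • x, ?_⟩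
      have h0 : (p.2 • (0 : Fin m → F)) = 0 := smul_zero _
      have := hψ p x 0
      rw [h0] at this
      exact this
    · have hGW : ∀ w ∈ W, G • w ∈ W :=
        (Forms.mem_stabilizing_submodule_iff _ W _).1 (Subgroup.mem_subgroupOf.1 hG)
      set H : GU (k + m) F q := g⁻¹ * G * g with hH
      have h1 : ∀ x, ∀ j : Fin m, (H • mg x 0) (Fin.natAdd k j) = 0 := fun x j => by
        obtain ⟨x', hx'⟩ := (hmem _).1 (hGW _ ((hmem _).2 ⟨x, rfl⟩))
        rw [hH, mul_smul, mul_smul, hx', inv_smul_smul]
        simp [mg]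
      set A : (Fin k → F) →ₗ[F] (Fin k → F) :=
        { toFun := fun x i => (H • mg x 0) (Fin.castAdd m i)
          map_add' := fun x x' => funext fun i => by
            rw [show mg (x + x') 0 = mg x 0 + mg x' 0 by rw [← hadd, add_zero], smul_add]; rfl
          map_smul' := fun c x => funext fun i => by
            rw [show mg (c • x) 0 = c • mg x 0 by rw [← hsmul, smul_zero], smul_comm]; rfl } with hA
      have hA1 : ∀ x, H • mg x 0 = mg (A x) 0 := fun x => funext fun l => Fin.addCases
        (fun i => by simp [mg, hA]) (fun j => by simp [mg, h1]) l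
      obtain ⟨a, ha⟩ := exists_GU_of_endo hF A fun x x' => by
        have := herm_smul_GU H (mg x 0) (mg x' 0)
        rwa [hA1, hA1, hherm, hherm, herm_zero_left, add_zero, add_zero] at this
      have h2 : ∀ y, ∀ i : Fin k, (H • mg 0 y) (Fin.castAdd m i) = 0 := by
        intro y
        have key : ∀ x, herm q (fun i => (H • mg 0 y) (Fin.castAdd m i)) (a • x) = 0 := fun x => by
          have := herm_smul_GU H (mg 0 y) (mg x 0)
          rw [hA1, ← ha, hherm, herm_zero_left, herm_zero_right hF, add_zero] at this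
          rw [← hmgL (H • mg 0 y), hherm, herm_zero_right hF, add_zero] at this
          exact this
        intro i
        refine congrFun (eq_zero_of_herm hF (x := fun i => (H • mg 0 y) (Fin.castAdd m i)) fun z => ?_) i
        have := key (a⁻¹ • z)
        rwa [smul_inv_smul] at this
      set D : (Fin m → F) →ₗ[F] (Fin m → F) :=
        { toFun := fun y j => (H • mg 0 y) (Fin.natAdd k j)
          map_add' := fun y y' => funext fun j => by
            rw [show mg 0 (y + y') = mg 0 y + mg 0 y' by rw [← hadd, add_zero], smul_add]; rfl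
          map_smul' := fun c y => funext fun j => by
            rw [show mg 0 (c • y) = c • mg 0 y by rw [← hsmul, smul_zero], smul_comm]; rfl } with hD
      have hD1 : ∀ y, H • mg 0 y = mg 0 (D y) := fun y => funext fun l => Fin.addCases
        (fun i => by simp [mg, h2]) (fun j => by simp [mg, hD]) l
      obtain ⟨d, hd⟩ := exists_GU_of_endo hF D fun y y' => by
        have := herm_smul_GU H (mg 0 y) (mg 0 y')
        rwa [hD1, hD1, hherm, hherm, herm_zero_left, zero_add, zero_add] at this
      refine ⟨(a, d), eq_of_smul_eq_GU fun v => ?_⟩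
      obtain ⟨x, y, rfl⟩ := hall v
      show ψ (a, d) • _ = _
      rw [hψ, ha, hd]
      have : H • mg x y = mg (A x) (D y) := by
        have e : mg x y = mg x 0 + mg 0 y := by rw [← hadd, add_zero, zero_add]
        rw [e, smul_add, hA1, hD1, ← hadd, add_zero, zero_add]
      rw [← this, hH, mul_smul, mul_smul, smul_inv_smul]
  exact ⟨(MulEquiv.subgroupCongr hrange.symm).trans (MonoidHom.ofInjective hφi).symm⟩

end Cfsg.Agent.Classical10
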