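import Cfsg.Agent.Lib.Unitary.Moves
import Cfsg.Agent.Lib.Forms.SpParabolic

/-!
Orders of parabolic subgroups of `GU_n(q)` and `SU_n(q)` (helper10).
-/

set_option autoImplicit false

namespace Cfsg.Agent.Classical10

open Cfsg.Agent.Unitary Matrix
open Module (finrank)

variable {F : Type*} [Field F] [Fintype F] {q : ℕ} (hF : Fintype.card F = q ^ 2)

include hF

/-- Independent families with the same Gram matrix are conjugate under `GU`. -/
theorem exists_smul_gram {n : ℕ} {κ : Type*} [Fintype κ] (b b' : κ → Fin n → F)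
    (hb : LinearIndependent F b) (hb' : LinearIndependent F b')
    (hi : ∀ i j, herm q (b i) (b j) = herm q (b' i) (b' j)) :
    ∃ g : GU n F q, ∀ i, g • b i = b' i := by
  classical
  set X := Submodule.span F (Set.range b)
  let bb := Module.Basis.span hb
  obtain ⟨f, hf⟩ := LinearMap.exists_extend (bb.constr F b')
  have hfb : ∀ i, f (b i) = b' i := fun i => by
    have h := LinearMap.congr_fun hf (bb i)
    rw [LinearMap.comp_apply, Module.Basis.constr_basis, Submodule.subtype_apply] at h
    simpa only [bb, Module.Basis.span_apply] using h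
  have hmap : ∀ u ∈ X, ∃ c : κ → F, u = ∑ i, c i • b i ∧ f u = ∑ i, c i • b' i := by
    intro u hu
    obtain ⟨c, rfl⟩ := (Submodule.mem_span_range_iff_exists_fun F).mp hu
    exact ⟨c, rfl, by simp [hfb]⟩
  obtain ⟨g, -, hg⟩ := exists_fixGU_of_map hF ∅ X f (by simp) (by simp) (fun v hv h => by
      obtain ⟨c, rfl, e⟩ := hmap v hv
      rw [h] at e
      have := Fintype.linearIndependent_iff.1 hb' c e.symm
      simp [this])
    (fun u hu v hv => by
      obtain ⟨c, rfl, e⟩ := hmap u hu
      obtain ⟨d, rfl, e'⟩ := hmap v hv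
      rw [e, e']
      simp only [← hermB_apply hF, map_sum, LinearMap.sum_apply,
        map_smulₛₗ, LinearMap.smul_apply, smul_eq_mul]
      simp only [hermB_apply, hi])
  exact ⟨g, fun i => by rw [hg _ (Submodule.subset_span ⟨i, rfl⟩), hfb]⟩

theorem exists_smul_isotropic_tuple {n k : ℕ} (b b' : Fin k → Fin n → F)
    (hb : LinearIndependent F b) (hb' : LinearIndependent F b')
    (hi : ∀ i j, herm q (b i) (b j) = 0) (hi' : ∀ i j, herm q (b' i) (b' j) = 0) :
    ∃ g : GU n F q, ∀ i, g • b i = b' i :=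
  exists_smul_gram hF b b' hb hb' fun i j => by rw [hi, hi']

theorem card_isotropic_extensions (k r : ℕ) (b : Fin k → Fin (k + k + r) → F)
    (hb : LinearIndependent F b) (hi : ∀ i j, herm q (b i) (b j) = 0) :
    Nat.card {v : Fin (k + k + r) → F // (∀ i, herm q v (b i) = 0) ∧ herm q v v = 0 ∧
      v ∉ Submodule.span F (Set.range b)} = q ^ (2 * k) * (nvec r F q 0 - 1) := by
  classical
  obtain ⟨c, hc⟩ : ∃ c : F, c ^ (q + 1) = -1 := exists_norm_eq hF (by rw [neg_pow_q hF, one_pow])
  let mk3 : (Fin k → F) → (Fin k → F) → (Fin r → F) → (Fin (k + k + r) → F) :=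
    fun x y z => Fin.append (Fin.append x y) z
  have hherm : ∀ x y z x' y' z', herm q (mk3 x y z) (mk3 x' y' z') =
      herm q x x' + herm q y y' + herm q z z' := by
    intro x y z x' y' z'
    simp [-Fin.natAdd_eq_addNat, herm, hermForm, Fin.sum_univ_add, mk3]
  let u : Fin k → Fin (k + k + r) → F := fun i => mk3 (Pi.single i 1) (Pi.single i c) 0
  have hcc : c * c ^ q = -1 := by rw [← pow_succ', hc]
  have hui : ∀ i j, herm q (u i) (u j) = 0 := fun i j => by
    rw [hherm, herm_zero_left, add_zero]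
    simp only [herm, hermForm]
    by_cases hij : i = j
    · subst hij
      simp [Pi.single_apply, ite_pow, zero_pow_q hF, hcc]
    · simp [Pi.single_apply, ite_pow, zero_pow_q hF, hij, Ne.symm hij]
  have hu : LinearIndependent F u := by
    rw [Fintype.linearIndependent_iff]
    intro a ha i
    have := congrFun ha (Fin.castAdd r (Fin.castAdd k i))
    simpa [-Fin.natAdd_eq_addNat, u, mk3, Pi.single_apply] using this
  obtain ⟨g, hg⟩ := exists_smul_isotropic_tuple hF u b hu hb hui hi
  have hspan : ∀ v, (g • v ∈ Submodule.span F (Set.range b) ↔ v ∈ Submodule.span F (Set.range u)) := by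
    intro v
    simp only [Submodule.mem_span_range_iff_exists_fun]
    refine exists_congr fun a => ?_
    rw [← smul_left_cancel_iff g (x := ∑ i, a i • u i), Finset.smul_sum]
    simp only [smul_comm g, hg]
  have hperp : ∀ x y z, (∀ i, herm q (mk3 x y z) (u i) = 0) ↔ x = -(c ^ q) • y := by
    intro x y z
    have e : ∀ i, herm q (mk3 x y z) (u i) = x i + c ^ q * y i := fun i => by
      rw [hherm, herm_zero_right hF, add_zero]
      simp [herm, hermForm, Pi.single_apply, ite_pow, zero_pow_q hF, mul_comm]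
    simp only [e, funext_iff, Pi.smul_apply, smul_eq_mul, Pi.neg_apply, neg_mul]
    exact forall_congr' fun i => eq_neg_iff_add_eq_zero.symm
  have hnorm : ∀ y z, herm q (mk3 (-(c ^ q) • y) y z) (mk3 (-(c ^ q) • y) y z) = herm q z z := by
    intro y z
    rw [hherm, herm_smul_left, herm_smul_right hF]
    have : (-(c ^ q)) * (-(c ^ q)) ^ q = -1 := by
      rw [neg_pow_q hF, pow_q_pow_q hF, neg_mul_neg, mul_comm, hcc]
    linear_combination (herm q y y) * this
  have hin : ∀ y z, mk3 (-(c ^ q) • y) y z ∈ Submodule.span F (Set.range u) ↔ z = 0 := by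
    intro y z
    rw [Submodule.mem_span_range_iff_exists_fun]
    constructor
    · rintro ⟨a, ha⟩
      funext j
      have := congrFun ha (Fin.natAdd (k + k) j)
      simpa [-Fin.natAdd_eq_addNat, u, mk3, eq_comm] using this
    · rintro rfl
      refine ⟨-(c ^ q) • y, funext fun l => ?_⟩
      induction l using Fin.addCases with
      | right j => simp [-Fin.natAdd_eq_addNat, u, mk3, Finset.sum_apply]
      | left l' =>
        induction l' using Fin.addCases with
        | left i => simp [-Fin.natAdd_eq_addNat, u, mk3, Finset.sum_apply, Pi.single_apply]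
        | right i =>
          simp [-Fin.natAdd_eq_addNat, u, mk3, Finset.sum_apply, Pi.single_apply]
          linear_combination (-y i) * hcc
  let Φ : (Fin k → F) × {z : Fin r → F // herm q z z = 0 ∧ z ≠ 0} →
      {v : Fin (k + k + r) → F // (∀ i, herm q v (u i) = 0) ∧ herm q v v = 0 ∧
        v ∉ Submodule.span F (Set.range u)} := fun p => ⟨mk3 (-(c ^ q) • p.1) p.1 p.2.1,
    (hperp _ _ _).2 rfl, by rw [hnorm]; exact p.2.2.1, fun hm => p.2.2.2 ((hin _ _).1 hm)⟩
  have hΦ : Function.Bijective Φ := by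
    refine ⟨fun p p' e => ?_, fun v => ?_⟩
    · have e' : mk3 (-(c ^ q) • p.1) p.1 p.2.1 = mk3 (-(c ^ q) • p'.1) p'.1 p'.2.1 :=
        congrArg Subtype.val e
      refine Prod.ext (funext fun i => ?_) (Subtype.ext (funext fun j => ?_))
      · simpa [-Fin.natAdd_eq_addNat, mk3] using congrFun e' (Fin.castAdd r (Fin.natAdd k i))
      · simpa [-Fin.natAdd_eq_addNat, mk3] using congrFun e' (Fin.natAdd (k + k) j)
    · obtain ⟨v, h1, h2, h3⟩ := v
      obtain ⟨x, y, z, rfl⟩ : ∃ x y z, v = mk3 x y z :=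
        ⟨fun i => v (Fin.castAdd r (Fin.castAdd k i)), fun i => v (Fin.castAdd r (Fin.natAdd k i)),
          fun j => v (Fin.natAdd (k + k) j), funext fun l => Fin.addCases
            (fun l' => Fin.addCases (fun i => by simp [-Fin.natAdd_eq_addNat, mk3])
              (fun i => by simp [-Fin.natAdd_eq_addNat, mk3]) l')
            (fun j => by simp [-Fin.natAdd_eq_addNat, mk3]) l⟩
      obtain rfl : x = -(c ^ q) • y := (hperp x y z).1 h1
      exact ⟨(y, ⟨z, by rw [hnorm] at h2; exact h2, fun h0 => h3 ((hin _ _).2 h0)⟩), Subtype.ext rfl⟩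
  calc Nat.card {v : Fin (k + k + r) → F // (∀ i, herm q v (b i) = 0) ∧ herm q v v = 0 ∧
        v ∉ Submodule.span F (Set.range b)}
      = Nat.card {v : Fin (k + k + r) → F // (∀ i, herm q v (u i) = 0) ∧ herm q v v = 0 ∧
        v ∉ Submodule.span F (Set.range u)} := (Nat.card_congr (Equiv.subtypeEquiv
          (MulAction.toPerm g) fun v => by
            simp only [MulAction.toPerm_apply]
            rw [hspan, herm_smul_GU]
            simp only [← hg, herm_smul_GU])).symm
    _ = Nat.card ((Fin k → F) × {z : Fin r → F // herm q z z = 0 ∧ z ≠ 0}) :=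
      (Nat.card_congr (Equiv.ofBijective Φ hΦ)).symm
    _ = q ^ (2 * k) * (nvec r F q 0 - 1) := by
      rw [Nat.card_prod, Nat.card_fun, Nat.card_eq_fintype_card (α := F), hF, Nat.card_fin, pow_mul]
      congr 1
      show Nat.card {z : Fin r → F | herm q z z = 0 ∧ z ≠ 0} = _
      rw [show {z : Fin r → F | herm q z z = 0 ∧ z ≠ 0} = {z | herm q z z = 0} \ {0} from by
          ext z; simp, Nat.card_coe_set_eq,
        Set.ncard_sdiff_singleton_of_mem (show (0 : Fin r → F) ∈ {z | herm q z z = 0} from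
          herm_zero_left _)]
      rfl

theorem card_GU_add_two (r : ℕ) : Nat.card (GU (r + 2) F q) =
    q ^ (2 * r + 1) * (nvec (r + 2) F q 0 - 1) * Nat.card (GU r F q) := by
  rw [card_GU hF, card_GU hF, nvec_zero_formula hF (r + 2), Nat.add_sub_cancel,
    Finset.prod_range_succ, Finset.prod_range_succ]
  obtain ⟨s, hs⟩ : ∃ s, (r + 2) * (r + 2 - 1) / 2 = r * (r - 1) / 2 + (2 * r + 1) ∧ s = r :=
    ⟨r, by
      have e : (r + 2) * (r + 2 - 1) = r * (r - 1) + 2 * (2 * r + 1) := by
        rcases r with _ | t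
        · rfl
        · simp only [Nat.add_sub_cancel, show t + 1 + 2 - 1 = t + 2 by omega]; ring
      rw [e, Nat.add_mul_div_left _ _ two_pos], rfl⟩
  rw [hs.1, pow_add, show r + 2 - 1 = r + 1 by omega]
  rcases Nat.even_or_odd r with he | ho
  · rw [if_pos he, if_neg (by simp [Nat.even_add_one, he]), if_pos (he.add even_two)]
    ring
  · rw [if_neg (Nat.not_even_iff_odd.2 ho),
      if_pos (by simp [Nat.even_add_one, Nat.not_even_iff_odd.2 ho]),
      if_neg (by simp [Nat.even_add, Nat.not_even_iff_odd.2 ho])]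
    ring

theorem card_fix_isotropic_tuple : ∀ (k : ℕ) {n r : ℕ}, n = k + k + r → ∀ b : Fin k → Fin n → F,
    LinearIndependent F b → (∀ i j, herm q (b i) (b j) = 0) →
    Nat.card (MulAction.stabilizer (GU n F q) b) = q ^ (k * (k + 2 * r)) * Nat.card (GU r F q) := by
  classical
  intro k
  induction k with
  | zero =>
    intro n r hn b _ _
    obtain rfl : n = r := by omega
    have : MulAction.stabilizer (GU n F q) b = ⊤ := eq_top_iff.mpr fun g _ => Subsingleton.elim _ _
    rw [this, Subgroup.card_top]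
    simp
  | succ k ih =>
    intro n r hn b hb hiso
    obtain ⟨b₀, v, rfl⟩ : ∃ b₀ v, b = Fin.snoc b₀ v :=
      ⟨Fin.init b, b (Fin.last k), (Fin.snoc_init_self b).symm⟩
    obtain ⟨hb₀, hv⟩ := linearIndependent_finSnoc.mp hb
    have hiso₀ : ∀ i j, herm q (b₀ i) (b₀ j) = 0 := fun i j => by
      simpa using hiso i.castSucc j.castSucc
    set K := MulAction.stabilizer (GU n F q) b₀ with hK
    have hmemK : ∀ g : GU n F q, g ∈ K ↔ ∀ i, g • b₀ i = b₀ i := fun g => by
      rw [hK, MulAction.mem_stabilizer_iff, funext_iff]; rfl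
    have hspan : ∀ g : K, ∀ w ∈ Submodule.span F (Set.range b₀), (g : GU n F q) • w = w := by
      intro g w hw
      obtain ⟨c, rfl⟩ := (Submodule.mem_span_range_iff_exists_fun F).mp hw
      rw [Finset.smul_sum]
      exact Finset.sum_congr rfl fun i _ => by rw [smul_comm, (hmemK g).mp g.2]
    have horb : MulAction.orbit K v =
        {w : Fin n → F | (∀ i, herm q w (b₀ i) = 0) ∧ herm q w w = 0 ∧
          w ∉ Submodule.span F (Set.range b₀)} := by
      ext w
      constructor
      · rintro ⟨g, rfl⟩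
        refine ⟨fun i => ?_, ?_, fun hmem => hv ?_⟩
        · show herm q ((g : GU n F q) • v) (b₀ i) = 0
          rw [← (hmemK g).mp g.2 i, herm_smul_GU]
          simpa using hiso (Fin.last k) i.castSucc
        · show herm q ((g : GU n F q) • v) ((g : GU n F q) • v) = 0
          rw [herm_smul_GU]
          simpa using hiso (Fin.last k) (Fin.last k)
        · have h := hspan g⁻¹ _ hmem
          change ((g⁻¹ : K) : GU n F q) • ((g : GU n F q) • v) = (g : GU n F q) • v at h
          rw [InvMemClass.coe_inv, inv_smul_smul] at h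
          rw [h]
          exact hmem
      · rintro ⟨hw1, hw2, hw3⟩
        obtain ⟨g, hg⟩ := exists_smul_isotropic_tuple hF (Fin.snoc b₀ v) (Fin.snoc b₀ w) hb
          (linearIndependent_finSnoc.mpr ⟨hb₀, hw3⟩) hiso (fun i j => by
            cases i using Fin.lastCases <;> cases j using Fin.lastCases <;>
              simp [hw1, hw2, hiso₀]
            exact (herm_eq_zero_comm hF).1 (hw1 _))
        exact ⟨⟨g, (hmemK g).mpr fun i => by simpa using hg i.castSucc⟩, by
          simpa using hg (Fin.last k)⟩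
    have hstab : Nat.card (MulAction.stabilizer K v) =
        Nat.card (MulAction.stabilizer (GU n F q) (Fin.snoc b₀ v : Fin (k + 1) → Fin n → F)) := by
      refine Nat.card_congr
        ⟨fun g => ⟨(g.1 : GU n F q), ?_⟩, fun g => ⟨⟨g.1, ?_⟩, ?_⟩, fun _ => rfl, fun _ => rfl⟩
      · rw [MulAction.mem_stabilizer_iff]
        funext i
        cases i using Fin.lastCases
        · have h2 : (g.1 : GU n F q) • v = v := g.2
          simpa using h2
        · simpa using (hmemK _).mp g.1.2 _
      · exact (hmemK _).mpr fun i => by simpa using congrFun g.2 i.castSucc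
      · show g.1 • v = v
        simpa using congrFun g.2 (Fin.last k)
    have h := Forms.card_orbit_mul_card_stab (G := K) v
    have hn' : n = k + k + (r + 2) := by omega
    rw [hstab, horb, ih hn' b₀ hb₀ hiso₀, card_GU_add_two hF] at h
    obtain rfl := hn'
    have hc := card_isotropic_extensions hF k (r + 2) b₀ hb₀ hiso₀
    change Nat.card {w : Fin (k + k + (r + 2)) → F | _} = _ at hc
    rw [hc] at h
    refine Nat.eq_of_mul_eq_mul_left (n := q ^ (2 * k) * (nvec (r + 2) F q 0 - 1)) ?_ ?_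
    · refine Nat.mul_pos (Nat.pow_pos (q_pos hF)) ?_
      have h1 : 0 < Nat.card (GU (r + 2) F q) := Nat.card_pos
      rw [card_GU_add_two hF] at h1
      exact Nat.pos_of_mul_pos_left (Nat.pos_of_mul_pos_right h1)
    rw [h, show q ^ ((k + 1) * (k + 1 + 2 * r)) = q ^ (k * (k + 2 * r)) * q ^ (2 * k + 2 * r + 1) by
        rw [← pow_add]; ring_nf,
      show q ^ (k * (k + 2 * (r + 2))) = q ^ (k * (k + 2 * r)) * q ^ (4 * k) by
        rw [← pow_add]; ring_nf,
      show q ^ (4 * k) = q ^ (2 * k) * q ^ (2 * k) by rw [← pow_add]; ring_nf,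
      show q ^ (2 * k + 2 * r + 1) = q ^ (2 * k) * q ^ (2 * r + 1) by rw [← pow_add]; ring_nf]
    ring

/-- The map scaling a hyperbolic pair by `α` and `(α ^ q)⁻¹`. -/
theorem exists_pair_scale {n : ℕ} {u v : Fin n → F} (hu : herm q u u = 0) (hv : herm q v v = 0)
    (huv : herm q u v = 1) {α : F} (hα : α ≠ 0) :
    ∃ g : GU n F q, (∀ z : Fin n → F, g • z =
      z + ((α - 1) * herm q z v) • u + (((α ^ q)⁻¹ - 1) * herm q z u) • v) ∧
      (detGU g : F) = α * (α ^ q)⁻¹ := by
  classical
  have hvu := herm_one_swap hF huv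
  set β := (α ^ q)⁻¹ with hβ
  have hαq : α ^ q ≠ 0 := pow_ne_zero _ hα
  let U : Matrix (Fin n) (Fin 2) F := Matrix.of fun i j => (![u, v] j) i
  let V : Matrix (Fin 2) (Fin n) F :=
    Matrix.of fun j i => (![α - 1, β - 1] j) * (![v, u] j) i ^ q
  have hmul : ∀ z : Fin n → F, (1 + U * V) *ᵥ z =
      z + ((α - 1) * herm q z v) • u + ((β - 1) * herm q z u) • v := by
    intro z
    rw [Matrix.add_mulVec, Matrix.one_mulVec, ← Matrix.mulVec_mulVec, add_assoc]
    congr 1
    funext i
    simp [Matrix.mulVec, dotProduct, Fin.sum_univ_two, U, V, herm, hermForm, Finset.mul_sum,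
      Finset.sum_mul, mul_comm, mul_left_comm, mul_assoc]
  have hβq : β ^ q = α⁻¹ := by rw [hβ, inv_pow, pow_q_pow_q hF]
  have hform : ∀ x y : Fin n → F, herm q ((1 + U * V) *ᵥ x) ((1 + U * V) *ᵥ y) = herm q x y := by
    intro x y
    rw [hmul, hmul]
    simp only [herm_add_left, herm_add_right hF, herm_smul_left, herm_smul_right hF, hu, hv, huv,
      hvu, mul_zero, zero_add, add_zero, mul_one, mul_pow, sub_pow_q hF, one_pow, hβq]
    rw [← herm_swap hF y v, ← herm_swap hF y u]
    have e1 : α * α⁻¹ = 1 := mul_inv_cancel₀ hα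
    have e2 : β * α ^ q = 1 := inv_mul_cancel₀ hαq
    linear_combination (herm q x v * herm q u y) * e1 + (herm q x u * herm q v y) * e2
  refine ⟨mkGU hF _ hform, fun z => hmul z, ?_⟩
  · show (1 + U * V).det = α * β
    rw [Matrix.det_one_add_mul_comm, Matrix.det_fin_two]
    have h11 : (V * U) 0 0 = (α - 1) * herm q u v := by
      simp [Matrix.mul_apply, U, V, herm, hermForm, Finset.mul_sum, mul_comm, mul_left_comm, mul_assoc]
    have h12 : (V * U) 0 1 = (α - 1) * herm q v v := by
      simp [Matrix.mul_apply, U, V, herm, hermForm, Finset.mul_sum, mul_comm, mul_left_comm, mul_assoc]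
    have h21 : (V * U) 1 0 = (β - 1) * herm q u u := by
      simp [Matrix.mul_apply, U, V, herm, hermForm, Finset.mul_sum, mul_comm, mul_left_comm, mul_assoc]
    have h22 : (V * U) 1 1 = (β - 1) * herm q v u := by
      simp [Matrix.mul_apply, U, V, herm, hermForm, Finset.mul_sum, mul_comm, mul_left_comm, mul_assoc]
    simp only [Matrix.add_apply, h11, h12, h21, h22, huv, hvu, hu, hv, Matrix.one_apply_eq,
      Matrix.one_apply_ne (show (0 : Fin 2) ≠ 1 by decide),
      Matrix.one_apply_ne (show (1 : Fin 2) ≠ 0 by decide), mul_one, mul_zero, add_zero]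
    rw [add_sub_cancel, add_sub_cancel, sub_zero]

/-- A member of `GU` fixing a totally isotropic subspace with given determinant. -/
theorem exists_det_stab {n : ℕ} (hn : 1 ≤ n) (W : Submodule F (Fin n → F))
    (hW : ∀ u ∈ W, ∀ v ∈ W, herm q u v = 0) {a : F} (ha : a ^ (q + 1) = 1) :
    ∃ g : GU n F q, (∀ w ∈ W, g • w ∈ W) ∧ (detGU g : F) = a := by
  classical
  rcases eq_or_ne W ⊥ with rfl | hW0
  · obtain ⟨g, hg⟩ := exists_det_eq hF hn ha
    exact ⟨g, fun w hw => by rw [(Submodule.mem_bot F).1 hw, smul_zero]; exact zero_mem _, hg⟩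
  obtain ⟨u, huW, hu0⟩ := (Submodule.ne_bot_iff W).1 hW0
  obtain ⟨v, -, hv, huv⟩ := exists_partner hF (S := ∅) (u := u) (by simp [supp_empty])
    (hW u huW u huW) hu0
  have hu := hW u huW u huW
  obtain ⟨α, hα, hαa⟩ : ∃ α : F, α ≠ 0 ∧ α = a * α ^ q := by
    by_cases h : a = -1
    · obtain ⟨c, hc, hc'⟩ := exists_trace_zero_ne_zero hF
      exact ⟨c, hc, by rw [h]; linear_combination hc'⟩
    · refine ⟨1 + a, fun e => h (eq_neg_of_add_eq_zero_right e), ?_⟩
      rw [add_pow_q hF, one_pow]
      linear_combination -ha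
  obtain ⟨g, hg, hgd⟩ := exists_pair_scale hF hu hv huv hα
  refine ⟨g, fun w hw => ?_, ?_⟩
  · rw [hg, hW w hw u huW, mul_zero, zero_smul, add_zero]
    exact add_mem hw (W.smul_mem _ huW)
  · rw [hgd, ← div_eq_mul_inv, div_eq_iff (pow_ne_zero _ hα), ← hαa]

theorem card_stab_isotropic {n k : ℕ} (hn : 1 ≤ n) (hk : 2 * k ≤ n) (W : Submodule F (Fin n → F))
    (hWk : finrank F W = k) (hW : ∀ u ∈ W, ∀ v ∈ W, herm q u v = 0) :
    (q + 1) * Nat.card ↥((Cfsg.stabilizing (Cfsg.slToMat n F) (W : Set (Fin n → F))).subgroupOf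
      (SU n F q)) = q ^ (k * (2 * n - 3 * k)) * (∏ i : Fin k, ((q ^ 2) ^ k - (q ^ 2) ^ (i : ℕ))) *
        (q ^ ((n - 2 * k) * ((n - 2 * k) - 1) / 2) * ∏ i ∈ Finset.range (n - 2 * k),
          (if Even i then q ^ (i + 1) + 1 else q ^ (i + 1) - 1)) := by
  classical
  set S := (Cfsg.stabilizing (Cfsg.slToMat n F) (W : Set (Fin n → F))).subgroupOf (SU n F q)
  set K := (Cfsg.stabilizing (Cfsg.glToMat (Fin n) F) (W : Set (Fin n → F))).subgroupOf (GU n F q)
  have memK : ∀ g : GU n F q, g ∈ K ↔ ∀ w ∈ W, g • w ∈ W := fun g =>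
    Subgroup.mem_subgroupOf.trans (Forms.mem_stabilizing_submodule_iff _ W _)
  have memS : ∀ g : SU n F q, g ∈ S ↔ ∀ w ∈ W, g • w ∈ W := fun g =>
    Subgroup.mem_subgroupOf.trans (Forms.mem_stabilizing_submodule_iff _ W _)
  -- `(q + 1) |S| = |K|`
  let d : K →* Fˣ := detGU.comp K.subtype
  have hr : d.range = (powMonoidHom (q + 1) : Fˣ →* Fˣ).ker := by
    ext a
    constructor
    · rintro ⟨g, rfl⟩
      exact Units.ext (det_norm hF _)
    · intro ha
      obtain ⟨g, hgW, hg⟩ := exists_det_stab hF hn W hW (a := (a : F)) (congrArg Units.val ha)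
      exact ⟨⟨g, (memK g).2 hgW⟩, Units.ext hg⟩
  have hker : Nat.card d.ker = Nat.card S := by
    let Ψ : S → d.ker := fun s => ⟨⟨toGU s.1, (memK _).2 fun w hw => by
      rw [toGU_smul]; exact (memS s.1).1 s.2 w hw⟩, by
      show toGU s.1 ∈ (detGU : GU n F q →* Fˣ).ker
      rw [← range_toGU]; exact ⟨_, rfl⟩⟩
    refine (Nat.card_congr (Equiv.ofBijective Ψ ⟨?_, ?_⟩)).symm
    · intro s s' e
      exact Subtype.ext (toGU_injective (congrArg (fun x : d.ker => x.1.1) e))
    · rintro ⟨⟨g, hgK⟩, hg⟩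
      have : g ∈ (detGU : GU n F q →* Fˣ).ker := hg
      rw [← range_toGU] at this
      obtain ⟨s, rfl⟩ := this
      exact ⟨⟨s, (memS s).2 fun w hw => by rw [← toGU_smul]; exact (memK _).1 hgK w hw⟩, rfl⟩
  have hK : (q + 1) * Nat.card S = Nat.card K := by
    rw [← d.ker.card_mul_index, Subgroup.index_ker, hr, card_norm_one_units hF, hker, mul_comm]
  rw [hK]
  -- orbit of a basis
  let b : Fin k → (Fin n → F) := fun i => (Module.finBasisOfFinrankEq F W hWk i : _)
  have hbW : ∀ i, b i ∈ W := fun i => SetLike.coe_mem _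
  have hb : LinearIndependent F b :=
    (Module.finBasisOfFinrankEq F W hWk).linearIndependent.map' W.subtype W.ker_subtype
  have hspan : Submodule.span F (Set.range b) = W := by
    apply Submodule.eq_of_le_of_finrank_eq
    · rw [Submodule.span_le]; rintro _ ⟨i, rfl⟩; exact hbW i
    · rw [finrank_span_eq_card hb, Fintype.card_fin, hWk]
  have hmap : ∀ g : GU n F q, (∀ i, g • b i ∈ W) → g ∈ K := fun g hg => (memK g).2 fun w hw => by
    rw [← hspan] at hw
    obtain ⟨c, rfl⟩ := (Submodule.mem_span_range_iff_exists_fun F).mp hw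
    rw [Finset.smul_sum]
    exact sum_mem fun i _ => by rw [smul_comm]; exact W.smul_mem _ (hg i)
  have hstab : Nat.card (MulAction.stabilizer K b) = Nat.card (MulAction.stabilizer (GU n F q) b) :=
    Nat.card_congr ⟨fun g => ⟨g.1.1, g.2⟩, fun g => ⟨⟨g.1, hmap g.1 fun i => by
      rw [show g.1 • b i = b i from congrFun g.2 i]; exact hbW i⟩, g.2⟩, fun _ => rfl, fun _ => rfl⟩
  have horb : Nat.card (MulAction.orbit K b) = ∏ i : Fin k, ((q ^ 2) ^ k - (q ^ 2) ^ (i : ℕ)) := by
    have h := card_linearIndependent (K := F) (V := W) (k := k) hWk.ge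
    rw [hWk, hF] at h
    rw [← h]
    refine Nat.card_congr (Equiv.ofBijective (fun t => ⟨fun i => ⟨t.1 i, ?_⟩, ?_⟩) ⟨?_, ?_⟩)
    · obtain ⟨g, hg⟩ := t.2
      rw [← hg]
      exact (memK _).1 g.2 _ (hbW i)
    · obtain ⟨g, hg⟩ := t.2
      refine LinearIndependent.of_comp W.subtype ?_
      show LinearIndependent F t.1
      rw [← hg]
      exact hb.map' (DistribSMul.toLinearMap F (Fin n → F) g.1)
        (LinearMap.ker_eq_bot.mpr fun x y h => MulAction.injective g.1 h)
    · intro s t h
      exact Subtype.ext (funext fun i => congrArg Subtype.val (congrFun (congrArg Subtype.val h) i))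
    · rintro ⟨t, ht⟩
      have ht' : LinearIndependent F (fun i => (t i : Fin n → F)) := ht.map' W.subtype W.ker_subtype
      obtain ⟨g, hg⟩ := exists_smul_isotropic_tuple hF b (fun i => (t i : Fin n → F)) hb ht'
        (fun i j => hW _ (hbW i) _ (hbW j)) (fun i j => hW _ (t i).2 _ (t j).2)
      exact ⟨⟨fun i => (t i : Fin n → F), ⟨⟨g, hmap g fun i => by rw [hg]; exact (t i).2⟩,
        funext hg⟩⟩, rfl⟩
  rw [← Forms.card_orbit_mul_card_stab (G := K) b, horb, hstab,
    card_fix_isotropic_tuple hF k (n := n) (r := n - 2 * k) (by omega) b hb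
      (fun i j => hW _ (hbW i) _ (hbW j)), card_GU hF,
    show k + 2 * (n - 2 * k) = 2 * n - 3 * k by omega]
  ring

end Cfsg.Agent.Classical10
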