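import Mathlib.LinearAlgebra.Matrix.GeneralLinearGroup.Card
import Mathlib.LinearAlgebra.Matrix.GeneralLinearGroup.Basic
import Mathlib.GroupTheory.Sylow
import Mathlib.Algebra.CharP.Basic
import Mathlib.FieldTheory.Finite.Basic
import Mathlib.Tactic

/-!
The unitriangular Sylow subgroup of `GL₂(q)`: its normaliser and centralisers (helper10).
-/

set_option autoImplicit false

namespace Cfsg.Agent.Classical10

open Matrix
open scoped Pointwise

variable {F : Type*} [Field F]

/-- An upper triangular element of `GL₂`. -/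
def upperGL (a d : Fˣ) (b : F) : GL (Fin 2) F :=
  GeneralLinearGroup.mkOfDetNeZero !![(a : F), b; 0, (d : F)]
    (by simp [Matrix.det_fin_two, a.ne_zero, d.ne_zero])

theorem coe_upperGL (a d : Fˣ) (b : F) :
    (upperGL a d b : Matrix (Fin 2) (Fin 2) F) = !![(a : F), b; 0, (d : F)] := rfl

theorem upperGL_mul (a d a' d' : Fˣ) (b b' : F) :
    upperGL a d b * upperGL a' d' b' = upperGL (a * a') (d * d') (a * b' + b * d') := by
  apply Units.ext
  ext i j
  rw [Units.val_mul, coe_upperGL, coe_upperGL, coe_upperGL]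
  fin_cases i <;> fin_cases j <;> simp [Matrix.mul_apply, Fin.sum_univ_two]

theorem upperGL_one : upperGL (1 : Fˣ) 1 0 = 1 := by
  apply Units.ext
  ext i j
  fin_cases i <;> fin_cases j <;> simp [coe_upperGL]

theorem upperGL_injective {a d a' d' : Fˣ} {b b' : F} (h : upperGL a d b = upperGL a' d' b') :
    a = a' ∧ d = d' ∧ b = b' := by
  have h' := congrArg Units.val h
  rw [coe_upperGL, coe_upperGL] at h'
  exact ⟨Units.ext (by simpa using congrFun (congrFun h' 0) 0),
    Units.ext (by simpa using congrFun (congrFun h' 1) 1), by simpa using congrFun (congrFun h' 0) 1⟩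

theorem exists_upperGL {g : GL (Fin 2) F} (h : (g : Matrix (Fin 2) (Fin 2) F) 1 0 = 0) :
    ∃ (a d : Fˣ) (b : F), upperGL a d b = g := by
  have hd : (g : Matrix (Fin 2) (Fin 2) F).det ≠ 0 := (GeneralLinearGroup.det g).ne_zero
  rw [Matrix.det_fin_two, h, mul_zero, sub_zero] at hd
  refine ⟨Units.mk0 _ (left_ne_zero_of_mul hd), Units.mk0 _ (right_ne_zero_of_mul hd),
    (g : Matrix (Fin 2) (Fin 2) F) 0 1, ?_⟩
  apply Units.ext
  ext i j
  fin_cases i <;> fin_cases j <;> simp [coe_upperGL, h]

/-- The subgroup of upper unitriangular matrices. -/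
def unipotent (F : Type*) [Field F] : Subgroup (GL (Fin 2) F) where
  carrier := Set.range fun b : F => upperGL (1 : Fˣ) 1 b
  mul_mem' := by rintro _ _ ⟨b, rfl⟩ ⟨b', rfl⟩; exact ⟨b' + b, by simp [upperGL_mul]⟩
  one_mem' := ⟨0, upperGL_one⟩
  inv_mem' := by
    rintro _ ⟨b, rfl⟩
    exact ⟨-b, (inv_eq_of_mul_eq_one_right (by simp [upperGL_mul, upperGL_one])).symm⟩

theorem mem_unipotent {g : GL (Fin 2) F} :
    g ∈ unipotent F ↔ ∃ b, upperGL (1 : Fˣ) 1 b = g := Iff.rfl

theorem card_unipotent : Nat.card (unipotent F) = Nat.card F :=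
  (Nat.card_congr (Equiv.ofInjective _ fun _ _ h => (upperGL_injective h).2.2)).symm

theorem mem_normalizer_unipotent {g : GL (Fin 2) F} :
    g ∈ Subgroup.normalizer (unipotent F : Set (GL (Fin 2) F)) ↔
      (g : Matrix (Fin 2) (Fin 2) F) 1 0 = 0 := by
  rw [Subgroup.mem_normalizer_iff]
  constructor
  · intro h
    obtain ⟨b, hb⟩ := (h (upperGL 1 1 1)).1 ⟨1, rfl⟩
    simp only at hb
    have e : g * upperGL 1 1 1 = upperGL 1 1 b * g := by rw [hb]; group
    have := congrArg (fun m : GL (Fin 2) F => (m : Matrix (Fin 2) (Fin 2) F) 1 1) e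
    simp [coe_upperGL, Matrix.mul_apply, Fin.sum_univ_two] at this
    exact this
  · intro h k
    obtain ⟨a, d, c, rfl⟩ := exists_upperGL h
    constructor
    · rintro ⟨b, rfl⟩
      refine ⟨a * b * (d : F)⁻¹, eq_mul_inv_of_mul_eq ?_⟩
      simp only [upperGL_mul, one_mul, mul_one]
      congr 1
      field_simp
      simp
      ring
    · rintro ⟨b, hb⟩
      refine ⟨b * d * (a : F)⁻¹, mul_left_cancel (a := upperGL a d c) ?_⟩
      simp only at hb
      have hb' : upperGL 1 1 b * upperGL a d c = upperGL a d c * k := by rw [hb]; group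
      rw [← hb']
      simp only [upperGL_mul, one_mul, mul_one]
      congr 1
      field_simp
      simp
      ring

theorem card_normalizer_unipotent [Finite F] :
    Nat.card (Subgroup.normalizer (unipotent F : Set (GL (Fin 2) F))) =
      Nat.card F * (Nat.card F - 1) ^ 2 := by
  have e : (Fˣ × Fˣ) × F ≃ Subgroup.normalizer (unipotent F : Set (GL (Fin 2) F)) := by
    refine Equiv.ofBijective (fun p => ⟨upperGL p.1.1 p.1.2 p.2,
      mem_normalizer_unipotent.2 (by simp [coe_upperGL])⟩) ⟨?_, ?_⟩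
    · intro p p' h
      obtain ⟨h1, h2, h3⟩ := upperGL_injective (congrArg Subtype.val h)
      exact Prod.ext (Prod.ext h1 h2) h3
    · rintro ⟨g, hg⟩
      obtain ⟨a, d, b, h⟩ := exists_upperGL (mem_normalizer_unipotent.1 hg)
      exact ⟨((a, d), b), Subtype.ext h⟩
  rw [← Nat.card_congr e, Nat.card_prod, Nat.card_prod, Nat.card_units]
  ring

theorem card_centralizer_unipotent [Finite F] {b : F} (hb : b ≠ 0) :
    Nat.card (Subgroup.centralizer ({upperGL (1 : Fˣ) 1 b} : Set (GL (Fin 2) F))) =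
      Nat.card F * (Nat.card F - 1) := by
  have e : Fˣ × F ≃ Subgroup.centralizer ({upperGL (1 : Fˣ) 1 b} : Set (GL (Fin 2) F)) := by
    refine Equiv.ofBijective (fun p => ⟨upperGL p.1 p.1 p.2,
      Subgroup.mem_centralizer_singleton_iff.2 ?_⟩) ⟨?_, ?_⟩
    · simp only [upperGL_mul, one_mul, mul_one]
      congr 1
      simp
      ring
    · intro p p' h
      obtain ⟨h1, -, h3⟩ := upperGL_injective (congrArg Subtype.val h)
      exact Prod.ext h1 h3
    · rintro ⟨g, hg⟩
      have h : ((_ : GL (Fin 2) F) : Matrix (Fin 2) (Fin 2) F) = _ :=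
        congrArg Units.val (Subgroup.mem_centralizer_singleton_iff.1 hg)
      have h00 := congrFun (congrFun h 0) 0
      simp [coe_upperGL, Matrix.mul_apply, Fin.sum_univ_two, hb] at h00
      obtain ⟨a, d, c, rfl⟩ := exists_upperGL h00
      have h01 := congrFun (congrFun h 0) 1
      simp [coe_upperGL, Matrix.mul_apply, Fin.sum_univ_two] at h01
      have had : a = d := by
        refine Units.ext (mul_left_cancel₀ hb ?_)
        linear_combination h01
      subst had
      exact ⟨(a, c), rfl⟩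
  rw [← Nat.card_congr e, Nat.card_prod, Nat.card_units, mul_comm]

theorem card_GL_two [Fintype F] :
    Nat.card (GL (Fin 2) F) = Nat.card F * ((Nat.card F - 1) ^ 2 * (Nat.card F + 1)) := by
  obtain ⟨r, hr⟩ := Nat.exists_eq_add_one_of_ne_zero (Nat.card_pos (α := F)).ne'
  rw [Matrix.card_GL_field, Fin.prod_univ_two, ← Nat.card_eq_fintype_card]
  simp only [Fin.val_zero, Fin.val_one, pow_zero, pow_one, hr, Nat.add_sub_cancel]
  rw [show (r + 1) ^ 2 = (r + 1) * r + (r + 1) by ring, Nat.add_sub_cancel,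
    show (r + 1) * r + (r + 1) - 1 = r * (r + 2) by
      rw [show (r + 1) * r + (r + 1) = r * (r + 2) + 1 by ring, Nat.add_sub_cancel]]
  ring

/-- Every Sylow subgroup in the characteristic is conjugate to the unitriangular group. -/
theorem exists_conj_unipotent [Fintype F] (p : ℕ) [Fact p.Prime] [CharP F p]
    (P : Sylow p (GL (Fin 2) F)) :
    ∃ g : GL (Fin 2) F, (P : Subgroup (GL (Fin 2) F)) =
      (unipotent F).map (MulAut.conj g).toMonoidHom := by
  obtain ⟨n, -, hn⟩ := FiniteField.card F p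
  have hcard : Nat.card (unipotent F) = p ^ (n : ℕ) := by
    rw [card_unipotent, Nat.card_eq_fintype_card, hn]
  have hindex : ¬ p ∣ (unipotent F).index := by
    have h := (unipotent F).card_mul_index
    rw [card_unipotent, card_GL_two] at h
    rw [Nat.eq_of_mul_eq_mul_left Nat.card_pos h, Nat.card_eq_fintype_card, hn]
    intro hd
    have hp := (Fact.out : p.Prime)
    have hpn : p ∣ p ^ (n : ℕ) := dvd_pow_self p n.pos.ne'
    rcases (Nat.Prime.dvd_mul hp).1 hd with h1 | h1
    · have h2 := hp.dvd_of_dvd_pow h1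
      have : p ∣ 1 := by
        have := Nat.dvd_sub hpn h2
        rwa [Nat.sub_sub_self (Nat.one_le_pow _ _ hp.pos)] at this
      exact hp.one_lt.not_ge (Nat.le_of_dvd one_pos this)
    · exact hp.one_lt.not_ge (Nat.le_of_dvd one_pos ((Nat.dvd_add_right hpn).1 h1))
  obtain ⟨g, hg⟩ := MulAction.exists_smul_eq (GL (Fin 2) F)
    ((IsPGroup.of_card hcard).toSylow hindex) P
  exact ⟨g, by rw [← hg]; rfl⟩

end Cfsg.Agent.Classical10
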