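import Cfsg.Agent.Classical10.SpInvolTwo.Classes
import Cfsg.Agent.Lib.Reflections.CharTwo
import Cfsg.Agent.Lib.Reflections.NegOne

/-!
Centralisers of involutions in the orthogonal groups of plus type in characteristic two, from
those in the symplectic group (helper10).
-/

set_option autoImplicit false
set_option maxHeartbeats 1600000

namespace Cfsg.Agent.Classical10.OPlusInvolTwo

open Cfsg.Agent.Symplectic
open QuadraticMap (polar)
open Module (finrank)
open Cfsg.Agent.Reflections (qPlus mat act resSp)

variable {F : Type*} [Field F] {m : ℕ}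

section Char

variable [Fintype F] [CharP F 2]

/-- `b ↦ b² + b`. -/
def asHom (F : Type*) [Field F] [CharP F 2] : F →+ F where
  toFun b := b ^ 2 + b
  map_zero' := by simp
  map_add' a b := by rw [CharTwo.add_sq]; ring

theorem index_asHom_range : (asHom F).range.index = 2 := by
  have hk : Nat.card (asHom F).ker = 2 := by
    have e : ((asHom F).ker : Set F) = {0, 1} := by
      ext b
      simp only [SetLike.mem_coe, AddMonoidHom.mem_ker, Set.mem_insert_iff, Set.mem_singleton_iff]
      show b ^ 2 + b = 0 ↔ _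
      rw [show b ^ 2 + b = b * (b + 1) by ring, mul_eq_zero, CharTwo.add_eq_zero]
    rw [← SetLike.coe_sort_coe, e, Nat.card_coe_set_eq, Set.ncard_pair zero_ne_one]
  have h1 := AddSubgroup.card_mul_index (asHom F).ker
  rw [AddSubgroup.index_ker, hk] at h1
  have h2 := AddSubgroup.card_mul_index (asHom F).range
  have hpos : 0 < Nat.card (asHom F).range := Nat.card_pos
  rw [← h1, mul_comm 2] at h2
  exact Nat.eq_of_mul_eq_mul_left hpos h2

open Classical in
/-- The non-trivial additive character with kernel `{b² + b}`. -/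
noncomputable def chi (t : F) : ℤ := if t ∈ (asHom F).range then 1 else -1

theorem chi_add (s t : F) : chi (s + t) = chi s * chi t := by
  classical
  unfold chi
  have h := AddSubgroup.add_mem_iff_of_index_two (index_asHom_range (F := F)) (a := s) (b := t)
  by_cases hs : s ∈ (asHom F).range <;> by_cases ht : t ∈ (asHom F).range <;> simp [hs, ht, h]

theorem chi_zero : chi (0 : F) = 1 := by
  classical
  exact if_pos (zero_mem _)

theorem chi_sq (t : F) : chi (t ^ 2) = chi t := by
  classical
  have h : chi (t ^ 2 + t) = 1 := if_pos ⟨t, rfl⟩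
  rw [chi_add] at h
  unfold chi at h ⊢
  split_ifs at h ⊢ <;> simp_all

theorem chi_mul_self (t : F) : chi t * chi t = 1 := by
  rw [← chi_add, CharTwo.add_self_eq_zero, chi_zero]

theorem chi_cases (t : F) : chi t = 1 ∨ chi t = -1 := by
  classical
  unfold chi; split_ifs <;> simp

theorem exists_chi_neg : ∃ t : F, chi t = -1 := by
  classical
  obtain ⟨t, ht⟩ : ∃ t, t ∉ (asHom F).range := by
    by_contra h
    push Not at h
    have := index_asHom_range (F := F)
    rw [(AddSubgroup.eq_top_iff' _).2 h, AddSubgroup.index_top] at this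
    omega
  exact ⟨t, if_neg ht⟩

/-- Translation kills a character sum. -/
theorem sum_eq_zero {A : Type*} [AddCommGroup A] [Fintype A] (φ : A → ℤ) (a₀ : A)
    (h : ∀ a, φ (a + a₀) = -φ a) : ∑ a, φ a = 0 := by
  have h1 := Equiv.sum_comp (Equiv.addRight a₀) φ
  simp only [Equiv.coe_addRight, h, Finset.sum_neg_distrib] at h1
  omega

end Char

theorem qPlus_apply (v : Vec m F) : qPlus m F v = ∑ i, v (Sum.inl i) * v (Sum.inr i) :=
  congrFun (Reflections.coe_qPlus m F) v

theorem qPlus_smul (c : F) (v : Vec m F) : qPlus m F (c • v) = c ^ 2 * qPlus m F v := by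
  rw [QuadraticMap.map_smul, smul_eq_mul, sq]

variable [CharP F 2]

theorem polar_eq (u v : Vec m F) : polar (⇑(qPlus m F)) u v = Cfsg.sympForm m F u v := by
  rw [polar, qPlus_apply, qPlus_apply, qPlus_apply, sympForm_eq_sum, ← Finset.sum_sub_distrib,
    ← Finset.sum_sub_distrib]
  refine Finset.sum_congr rfl fun i _ => ?_
  simp only [Pi.add_apply]
  rw [CharTwo.sub_eq_add (u (Sum.inr i) * v (Sum.inl i))]
  ring

theorem nondeg : (qPlus m F).polarBilin.Nondegenerate := by
  refine ⟨fun u hu => ?_, fun v hv => ?_⟩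
  · exact Invol2.eq_zero_of_sympForm fun v => by
      rw [sympForm_swap, ← polar_eq, CharTwo.neg_eq]; exact hu v
  · exact Invol2.eq_zero_of_sympForm fun u => by rw [← polar_eq]; exact hv u

theorem qPlus_add (u v : Vec m F) :
    qPlus m F (u + v) = qPlus m F u + qPlus m F v + Cfsg.sympForm m F u v := by
  rw [← polar_eq, polar]; ring

theorem sympForm_comm (u v : Vec m F) : Cfsg.sympForm m F u v = Cfsg.sympForm m F v u := by
  rw [sympForm_swap, CharTwo.neg_eq]

/-- An isometry as an element of the symplectic group. -/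
def toSp : ↥(Cfsg.isometryGroup F ⇑(qPlus m F)) →* Sp m F where
  toFun g := ⟨mat g, (mem_iff_form _).2 fun u v => by
    rw [← polar_eq, ← polar_eq]; exact Reflections.act_polar g u v⟩
  map_one' := rfl
  map_mul' _ _ := rfl

theorem toSp_smul (g : ↥(Cfsg.isometryGroup F ⇑(qPlus m F))) (v : Vec m F) :
    toSp g • v = act g v := rfl

theorem toSp_injective : Function.Injective (toSp (F := F) (m := m)) := fun _ _ h =>
  Reflections.eq_of_mat (congrArg Subtype.val h)

theorem nil_toSp (g : ↥(Cfsg.isometryGroup F ⇑(qPlus m F))) (v : Vec m F) :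
    Invol2.nil (toSp g) v = act g v - v := Invol2.nil_apply _ v

theorem qPlus_nil (g : ↥(Cfsg.isometryGroup F ⇑(qPlus m F))) (v : Vec m F) :
    qPlus m F (Invol2.nil (toSp g) v) = Invol2.formB (toSp g) v v := by
  have h := Reflections.act_Q g v
  have e : act g v = v + Invol2.nil (toSp g) v := by rw [nil_toSp]; abel
  rw [e, qPlus_add] at h
  rw [Invol2.formB_apply, ← CharTwo.add_eq_zero]
  linear_combination h

variable [Fintype F]

theorem sum_chi_qPlus : ∑ v : Vec m F, chi (qPlus m F v) = (Fintype.card F : ℤ) ^ m := by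
  classical
  rw [← Equiv.sum_comp (Equiv.sumArrowEquivProdArrow (Fin m) (Fin m) F).symm, Fintype.sum_prod_type,
    Finset.sum_eq_single 0]
  · simp [qPlus_apply, chi_zero, Equiv.sumArrowEquivProdArrow]
  · intro x _ hx
    obtain ⟨i, hi⟩ := Function.ne_iff.1 hx
    obtain ⟨t, ht⟩ := exists_chi_neg (F := F)
    refine sum_eq_zero _ (Pi.single i (t / x i)) fun y => ?_
    have e : qPlus m F ((Equiv.sumArrowEquivProdArrow (Fin m) (Fin m) F).symm
        (x, y + Pi.single i (t / x i))) =
        qPlus m F ((Equiv.sumArrowEquivProdArrow (Fin m) (Fin m) F).symm (x, y)) + t := by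
      simp only [qPlus_apply, Equiv.sumArrowEquivProdArrow, Equiv.coe_fn_symm_mk, Sum.elim_inl,
        Sum.elim_inr, Pi.add_apply, mul_add, Finset.sum_add_distrib]
      congr 1
      rw [Finset.sum_eq_single i (fun j _ hj => by rw [Pi.single_eq_of_ne hj, mul_zero]) (by simp),
        Pi.single_eq_same, mul_div_cancel₀ _ hi]
    rw [e, chi_add, ht, mul_neg_one]
  · simp

variable (x : ↥(Cfsg.isometryGroup F ⇑(qPlus m F)))

/-- `ker (x - 1)`. -/
noncomputable abbrev fixK : Submodule F (Vec m F) := LinearMap.ker (Invol2.nil (toSp x))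

theorem mem_fixK {y : ↥(Cfsg.isometryGroup F ⇑(qPlus m F))} {v : Vec m F} :
    v ∈ fixK y ↔ toSp y • v = v := by
  rw [LinearMap.mem_ker, SpInvolTwo.nil_eq, sub_eq_zero]

noncomputable local instance fintypeFixK : Fintype (fixK x) := Fintype.ofFinite _

/-- Orthogonality between the image and the kernel of `a - 1`. -/
theorem nil_orth (a : Sp m F) (v : Vec m F) {w : Vec m F} (hw : a • w = w) :
    Cfsg.sympForm m F (Invol2.nil a v) w = 0 := by
  rw [SpInvolTwo.nil_eq, sympForm_sub_left]
  conv_lhs => arg 1; rw [← hw]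
  rw [sympForm_smul_smul, sub_self]

/-- The centraliser of `x` inside the symplectic group is an orbit times the orthogonal one. -/
theorem card_mul_card (x : ↥(Cfsg.isometryGroup F ⇑(qPlus m F))) (hx : x * x = 1) :
    Nat.card (Subgroup.centralizer ({x} : Set ↥(Cfsg.isometryGroup F ⇑(qPlus m F)))) *
      Nat.card {w : fixK x // chi (qPlus m F w) = 1} =
      Nat.card (Subgroup.centralizer ({toSp x} : Set (Sp m F))) := by
  classical
  set C := Subgroup.centralizer ({toSp x} : Set (Sp m F)) with hC
  letI : MulAction C (Vec m F → F) := arrowAction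
  have hsmul : ∀ (c : C) (φ : Vec m F → F) (v : Vec m F), (c • φ) v = φ ((c : Sp m F)⁻¹ • v) :=
    fun _ _ _ => rfl
  have haa : toSp x * toSp x = 1 := by rw [← map_mul, hx, map_one]
  -- the stabiliser
  have hst : Nat.card (MulAction.stabilizer C ⇑(qPlus m F)) =
      Nat.card (Subgroup.centralizer ({x} : Set ↥(Cfsg.isometryGroup F ⇑(qPlus m F)))) := by
    refine (Nat.card_eq_of_bijective (fun g => (⟨⟨toSp g.1, ?_⟩, ?_⟩ : MulAction.stabilizer C ⇑(qPlus m F))) ?_).symm
    · rw [hC, Subgroup.mem_centralizer_singleton_iff, ← map_mul, ← map_mul,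
        Subgroup.mem_centralizer_singleton_iff.1 g.2]
    · refine funext fun v => ?_
      rw [hsmul]
      show qPlus m F ((toSp g.1)⁻¹ • v) = qPlus m F v
      rw [← map_inv, toSp_smul]
      exact Reflections.act_Q _ v
    refine ⟨fun g g' h => Subtype.ext (toSp_injective (congrArg (fun z => z.1.1) h)), ?_⟩
    rintro ⟨⟨c, hc⟩, hcQ⟩
    have hQc : ∀ v, qPlus m F (c • v) = qPlus m F v := fun v => by
      have := congrFun hcQ (c • v)
      rw [hsmul] at this
      simp only [inv_smul_smul] at this
      exact this.symm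
    obtain ⟨g, hg⟩ : ∃ g, toSp g = c := by
      exact ⟨Reflections.mkIsom (qPlus m F) (c : Matrix (Fin m ⊕ Fin m) (Fin m ⊕ Fin m) F)
        (SymplecticGroup.symplectic_det c.2).ne_zero hQc, Subtype.ext rfl⟩
    subst hg
    refine ⟨⟨g, ?_⟩, rfl⟩
    rw [Subgroup.mem_centralizer_singleton_iff]
    apply toSp_injective
    rw [map_mul, map_mul]
    exact Subgroup.mem_centralizer_singleton_iff.1 hc
  -- the orbit
  have horb : Nat.card (MulAction.orbit C ⇑(qPlus m F)) = Nat.card {w : fixK x // chi (qPlus m F w) = 1} := by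
    let tr : Vec m F → Vec m F → F := fun w v => qPlus m F v + Cfsg.sympForm m F v w ^ 2
    refine (Nat.card_eq_of_bijective (fun w => (⟨tr w.1.1, ?_⟩ : MulAction.orbit C ⇑(qPlus m F))) ?_).symm
    · obtain ⟨c, hc⟩ : ∃ c : F, c ^ 2 * qPlus m F w.1.1 + c = 1 := by
        by_cases h0 : qPlus m F w.1.1 = 0
        · exact ⟨1, by rw [h0]; ring⟩
        obtain ⟨b, hb⟩ : qPlus m F w.1.1 ∈ (asHom F).range := by
          have := w.2
          unfold chi at this
          split_ifs at this with h
          exact h
        refine ⟨b / qPlus m F w.1.1, ?_⟩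
        have hb' : b ^ 2 + b = qPlus m F w.1.1 := hb
        rw [show (b / qPlus m F w.1.1) ^ 2 * qPlus m F w.1.1 + b / qPlus m F w.1.1 =
          (b ^ 2 + b) / qPlus m F w.1.1 by field_simp, hb', div_self h0]
      refine ⟨⟨tv w.1.1 c, ?_⟩, funext fun v => ?_⟩
      · rw [hC, Subgroup.mem_centralizer_singleton_iff]
        have := conj_tv (toSp x) w.1.1 c
        rw [mem_fixK.1 w.1.2, mul_inv_eq_iff_eq_mul] at this
        exact this.symm
      · show qPlus m F ((tv w.1.1 c)⁻¹ • v) = tr w.1.1 v
        rw [tv_inv, CharTwo.neg_eq, tv_smul, qPlus_add, qPlus_smul, sympForm_smul_right]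
        linear_combination (Cfsg.sympForm m F v w.1.1) ^ 2 * hc
    refine ⟨fun w w' h => ?_, ?_⟩
    · refine Subtype.ext (Subtype.ext (sub_eq_zero.1 (Invol2.eq_zero_of_sympForm fun v => ?_)))
      have h1 : Cfsg.sympForm m F v w.1.1 ^ 2 = Cfsg.sympForm m F v w'.1.1 ^ 2 :=
        add_left_cancel (congrFun (congrArg Subtype.val h) v)
      rw [sympForm_sub_right, ← sq_eq_zero_iff, CharTwo.sub_eq_add, CharTwo.add_sq, h1,
        CharTwo.add_self_eq_zero]
    rintro ⟨φ, c, hcφ⟩
    subst hcφ
    set d := (c : Sp m F)⁻¹ with hd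
    let D : Vec m F → F := fun v => qPlus m F (d • v) + qPlus m F v
    have hDadd : ∀ u v, D (u + v) = D u + D v := fun u v => by
      simp only [D, smul_add, qPlus_add, sympForm_smul_smul]
      linear_combination CharTwo.add_self_eq_zero (Cfsg.sympForm m F u v)
    have hDsmul : ∀ (t : F) v, D (t • v) = t ^ 2 * D v := fun t v => by
      simp only [D, smul_comm d t v, qPlus_smul]; ring
    let σ := (frobeniusEquiv F 2).symm
    have hσ : ∀ t, σ t ^ 2 = t := fun t => by
      exact RingEquiv.apply_symm_apply (frobeniusEquiv F 2) t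
    let ℓ : Vec m F →ₗ[F] F :=
      { toFun := fun v => σ (D v)
        map_add' := fun u v => by rw [hDadd, map_add]
        map_smul' := fun t v => by
          rw [hDsmul, map_mul, RingHom.id_apply, smul_eq_mul]
          congr 1
          rw [show t ^ 2 = frobeniusEquiv F 2 t from rfl]
          exact RingEquiv.symm_apply_apply _ t }
    obtain ⟨w, hw⟩ : ∃ w, ∀ v, Cfsg.sympForm m F v w = ℓ v := by
      let L : Vec m F →ₗ[F] Module.Dual F (Vec m F) := (qPlus m F).polarBilin
      have hLi : Function.Injective L := (injective_iff_map_eq_zero L).2 fun u hu =>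
        Invol2.eq_zero_of_sympForm fun v => by
          rw [sympForm_comm, ← polar_eq]; exact LinearMap.congr_fun hu v
      obtain ⟨w, hw⟩ := (LinearMap.injective_iff_surjective_of_finrank_eq_finrank
        Subspace.dual_finrank_eq.symm).1 hLi ℓ
      exact ⟨w, fun v => by rw [sympForm_comm, ← polar_eq]; exact LinearMap.congr_fun hw v⟩
    have hφ : ∀ v, qPlus m F (d • v) = tr w v := fun v => by
      show _ = qPlus m F v + Cfsg.sympForm m F v w ^ 2
      rw [hw]
      show _ = qPlus m F v + σ (D v) ^ 2
      rw [hσ]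
      linear_combination -(CharTwo.add_self_eq_zero (qPlus m F v))
    have hdx : d * toSp x = toSp x * d := by
      rw [hd]
      exact (Commute.inv_left (Subgroup.mem_centralizer_singleton_iff.1 c.2)).eq
    have hwK : w ∈ fixK x := by
      rw [mem_fixK, ← sub_eq_zero]
      refine Invol2.eq_zero_of_sympForm fun v => ?_
      have h1 : tr w (toSp x • v) = tr w v := by
        rw [← hφ, ← hφ, smul_smul, hdx, ← smul_smul, toSp_smul x (d • v)]
        exact Reflections.act_Q x _
      have h2 : Cfsg.sympForm m F (toSp x • v) w = Cfsg.sympForm m F v w := by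
        have h3 : Cfsg.sympForm m F (toSp x • v) w ^ 2 = Cfsg.sympForm m F v w ^ 2 := by
          have e : qPlus m F (toSp x • v) = qPlus m F v := Reflections.act_Q x v
          simp only [tr, e] at h1
          exact add_left_cancel h1
        rw [← sub_eq_zero, ← sq_eq_zero_iff, CharTwo.sub_eq_add, CharTwo.add_sq, h3,
          CharTwo.add_self_eq_zero]
      rw [sympForm_sub_right, sub_eq_zero, ← h2]
      conv_lhs => rw [← sympForm_smul_smul (toSp x), smul_smul, haa, one_smul]
    refine ⟨⟨⟨w, hwK⟩, ?_⟩, Subtype.ext (funext fun v => (hφ v).symm)⟩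
    have h1 : ∑ v, chi (tr w v) = ∑ v, chi (qPlus m F v) := by
      simp only [← hφ]
      exact Equiv.sum_comp (MulAction.toPerm d) (fun v => chi (qPlus m F v))
    have h2 : ∀ v, chi (tr w v) = chi (qPlus m F w) * chi (qPlus m F (v + w)) := fun v => by
      simp only [tr, chi_add, chi_sq, qPlus_add]
      linear_combination (-(chi (qPlus m F v) * chi (Cfsg.sympForm m F v w))) * chi_mul_self (qPlus m F w)
    simp only [h2, ← Finset.mul_sum] at h1
    rw [show ∑ v, chi (qPlus m F (v + w)) = ∑ v, chi (qPlus m F v) from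
      Equiv.sum_comp (Equiv.addRight w) (fun v => chi (qPlus m F v))] at h1
    rw [sum_chi_qPlus] at h1
    have hne : (Fintype.card F : ℤ) ^ m ≠ 0 := pow_ne_zero _ (by
      exact_mod_cast Fintype.card_ne_zero)
    exact mul_right_cancel₀ hne (by rw [one_mul]; exact h1)
  rw [← hst, ← horb, Nat.card_congr (MulAction.orbitEquivQuotientStabilizer C ⇑(qPlus m F)), ← Subgroup.index,
    Subgroup.card_mul_index]

theorem two_mul_card_filter :
    2 * (Nat.card {w : fixK x // chi (qPlus m F w) = 1} : ℤ) =
      Nat.card (fixK x) + ∑ w : fixK x, chi (qPlus m F w) := by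
  classical
  have h : ∀ w : fixK x, 1 + chi (qPlus m F w) =
      if chi (qPlus m F w) = 1 then 2 else 0 := fun w => by
    rcases chi_cases (qPlus m F w) with h | h <;> rw [h] <;> norm_num
  rw [Nat.card_eq_fintype_card, Nat.card_eq_fintype_card, Fintype.card_subtype]
  have := Finset.sum_congr rfl (fun w (_ : w ∈ Finset.univ) => h w)
  rw [Finset.sum_add_distrib, Finset.sum_ite, Finset.sum_const_zero, add_zero,
    Finset.sum_const, Finset.sum_const, Finset.card_univ] at this
  simp only [nsmul_eq_mul, mul_one, Finset.card_univ] at this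
  linarith

theorem card_fixK : Nat.card (fixK x) = Fintype.card F ^ (2 * m - SpInvolTwo.rk (toSp x)) := by
  have h := LinearMap.finrank_range_add_finrank_ker (Invol2.nil (toSp x))
  rw [Module.finrank_fintype_fun_eq_card, Fintype.card_sum, Fintype.card_fin, ← two_mul] at h
  rw [Nat.card_eq_fintype_card, Module.card_eq_pow_finrank (K := F), SpInvolTwo.rk]
  congr 1
  exact (Nat.eq_sub_of_add_eq' h)

theorem sum_fixK_of_nonAlt (hx : x * x = 1) (h : ¬ SpInvolTwo.IsAltType (toSp x)) :
    ∑ w : fixK x, chi (qPlus m F w) = 0 := by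
  classical
  simp only [SpInvolTwo.IsAltType, not_forall] at h
  obtain ⟨v₀, hv₀⟩ := h
  have haa : toSp x * toSp x = 1 := by rw [← map_mul, hx, map_one]
  rw [← qPlus_nil] at hv₀
  set r := Invol2.nil (toSp x) v₀ with hr
  obtain ⟨t, ht⟩ := exists_chi_neg (F := F)
  haveI : PerfectRing F 2 := PerfectRing.ofFiniteOfIsReduced 2 F
  set c := (frobeniusEquiv F 2).symm (t / qPlus m F r)
  have hc : c ^ 2 = t / qPlus m F r := by
    exact RingEquiv.apply_symm_apply (frobeniusEquiv F 2) _
  have hrK : c • r ∈ fixK x := by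
    refine Submodule.smul_mem _ _ ?_
    rw [mem_fixK, hr, SpInvolTwo.nil_eq, smul_sub, smul_smul, haa, one_smul]
    ext i
    simp only [Pi.sub_apply, CharTwo.sub_eq_add]
    ring
  refine sum_eq_zero _ ⟨c • r, hrK⟩ fun w => ?_
  rw [Submodule.coe_add, qPlus_add, chi_add, chi_add, qPlus_smul, hc, div_mul_cancel₀ _ hv₀, ht,
    sympForm_comm, sympForm_smul_left, nil_orth _ _ (mem_fixK.1 w.2), mul_zero, chi_zero]
  ring

theorem sum_fixK_of_alt (h : SpInvolTwo.IsAltType (toSp x)) :
    ∑ w : fixK x, chi (qPlus m F w) = (Fintype.card F : ℤ) ^ m := by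
  classical
  set R := LinearMap.range (Invol2.nil (toSp x))
  have hR : ∀ r : R, qPlus m F r = 0 := by
    rintro ⟨_, v, rfl⟩; rw [qPlus_nil]; exact h v
  have hinner : ∀ v, ∑ r : R, chi (Cfsg.sympForm m F v r) =
      if v ∈ fixK x then (Fintype.card R : ℤ) else 0 := by
    intro v
    split_ifs with hv
    · have e : ∀ r : R, chi (Cfsg.sympForm m F v r) = 1 := by
        rintro ⟨_, u, rfl⟩
        rw [sympForm_comm, nil_orth _ _ (mem_fixK.1 hv), chi_zero]
      simp [e]
    · obtain ⟨r₀, hr₀, hne⟩ : ∃ r₀ ∈ R, Cfsg.sympForm m F v r₀ ≠ 0 := by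
        by_contra hcon
        push Not at hcon
        apply hv
        rw [mem_fixK, ← sub_eq_zero]
        refine Invol2.eq_zero_of_sympForm fun u => ?_
        have h1 : Cfsg.sympForm m F v ((toSp x)⁻¹ • u) = Cfsg.sympForm m F v u := by
          have := hcon _ ⟨(toSp x)⁻¹ • u, rfl⟩
          rw [SpInvolTwo.nil_eq, smul_inv_smul, sympForm_sub_right, sub_eq_zero] at this
          exact this.symm
        rw [sympForm_sub_right, sub_eq_zero, sympForm_comm u v, ← h1,
          ← sympForm_smul_smul (toSp x) v ((toSp x)⁻¹ • u), smul_inv_smul, sympForm_comm]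
      obtain ⟨t, ht⟩ := exists_chi_neg (F := F)
      refine sum_eq_zero _ ⟨(t / Cfsg.sympForm m F v r₀) • r₀, R.smul_mem _ hr₀⟩ fun r => ?_
      rw [Submodule.coe_add, sympForm_add_right, sympForm_smul_right, div_mul_cancel₀ _ hne,
        chi_add, ht, mul_neg_one]
  have h2 : (Fintype.card R : ℤ) * ∑ v, chi (qPlus m F v) =
      (Fintype.card R : ℤ) * ∑ w : fixK x, chi (qPlus m F w) := by
    calc (Fintype.card R : ℤ) * ∑ v, chi (qPlus m F v)
        = ∑ r : R, ∑ v, chi (qPlus m F (v + r)) := by
          have e : ∀ r : R, ∑ v, chi (qPlus m F (v + r)) = ∑ v, chi (qPlus m F v) := fun r =>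
            Equiv.sum_comp (Equiv.addRight (r : Vec m F)) (fun v => chi (qPlus m F v))
          simp only [e, Finset.sum_const, Finset.card_univ, nsmul_eq_mul]
      _ = ∑ v, chi (qPlus m F v) * ∑ r : R, chi (Cfsg.sympForm m F v r) := by
          rw [Finset.sum_comm]
          refine Finset.sum_congr rfl fun v _ => ?_
          rw [Finset.mul_sum]
          refine Finset.sum_congr rfl fun r _ => ?_
          rw [qPlus_add, hR, add_zero, chi_add]
      _ = _ := by
          simp only [hinner, mul_ite, mul_zero]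
          rw [← Finset.sum_filter, Finset.mul_sum]
          refine (Finset.sum_subtype (p := fun v => v ∈ fixK x) (F := fintypeFixK x) _
            (by simp) _).trans ?_
          exact Finset.sum_congr rfl fun w _ => mul_comm _ _
  rw [← sum_chi_qPlus (m := m)]
  exact (mul_left_cancel₀ (by exact_mod_cast Fintype.card_ne_zero) h2).symm

/-- An isometry fixing a totally singular Lagrangian has even residual dimension. -/
theorem even_of_fix (g : ↥(Cfsg.isometryGroup F ⇑(qPlus m F))) (R : Submodule F (Vec m F))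
    (hR : finrank F R = m) (hQR : ∀ r ∈ R, qPlus m F r = 0)
    (hg : ∀ r ∈ R, act g r ∈ R) : Even (finrank F (resSp g)) := by
  classical
  set L : Vec m F →ₗ[F] Vec m F := Invol2.nil (toSp g) with hLdef
  have hres : resSp g = LinearMap.range L := by
    refine Submodule.ext fun v => ?_
    rw [Reflections.mem_resSp, LinearMap.mem_range]
    simp only [hLdef, nil_toSp]
  rw [hres]
  set f : LinearMap.BilinForm F (Vec m F) := (qPlus m F).polarBilin with hf
  have hfv : ∀ u v, f u v = Cfsg.sympForm m F u v := fun u v => polar_eq u v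
  have hrefl : f.IsRefl := fun u v huv => by rw [hfv, sympForm_comm, ← hfv]; exact huv
  have hRR : ∀ r ∈ R, ∀ r' ∈ R, f r r' = 0 := fun r hr r' hr' => by
    have := hQR _ (add_mem hr hr')
    rw [qPlus_add, hQR r hr, hQR r' hr', add_zero, zero_add] at this
    rw [hfv]; exact this
  have hdim : finrank F (Vec m F) = 2 * m := by
    rw [Module.finrank_fintype_fun_eq_card, Fintype.card_sum, Fintype.card_fin, two_mul]
  have horth : ∀ W : Submodule F (Vec m F),
      finrank F ↥(LinearMap.BilinForm.orthogonal f W) = 2 * m - finrank F W := fun W => by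
    rw [LinearMap.BilinForm.finrank_orthogonal nondeg W, hdim]
  have hRperp : LinearMap.BilinForm.orthogonal f R = R := by
    refine (Submodule.eq_of_le_of_finrank_eq (fun r hr =>
      LinearMap.BilinForm.mem_orthogonal_iff.2 fun r' hr' => hRR r' hr' r hr) ?_).symm
    rw [horth, hR]; omega
  have hgR : R.map (DistribSMul.toLinearMap F (Vec m F) (toSp g)) = R := by
    refine Submodule.eq_of_le_of_finrank_eq (Submodule.map_le_iff_le_comap.2 hg) ?_
    exact (Submodule.equivMapOfInjective _ (MulAction.injective (toSp g)) R).finrank_eq.symm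
  set P := R.comap L with hP
  set LR := R.map L with hLR
  set LP := P.map L with hLP
  set K : Submodule F (Vec m F) := LinearMap.ker L with hK
  -- `LR^⊥ = P`
  have hperp : LinearMap.BilinForm.orthogonal f LR = P := by
    ext u
    rw [hP, Submodule.mem_comap, ← hRperp]
    simp only [LinearMap.BilinForm.mem_orthogonal_iff, LinearMap.BilinForm.IsOrtho, hfv]
    constructor
    · intro h r hr
      rw [← hgR] at hr
      obtain ⟨r', hr', rfl⟩ := hr
      have h1 := h _ (Submodule.mem_map_of_mem hr')
      simp only [SpInvolTwo.nil_eq, DistribSMul.toLinearMap_apply, hLdef, sympForm_sub_left,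
        sympForm_sub_right, sympForm_smul_smul] at h1 ⊢
      linear_combination -h1
    · rintro h _ ⟨r', hr', rfl⟩
      have h1 := h (toSp g • r') (hgR ▸ Submodule.mem_map_of_mem hr')
      simp only [SpInvolTwo.nil_eq, hLdef, sympForm_sub_left, sympForm_sub_right,
        sympForm_smul_smul] at h1 ⊢
      linear_combination -h1
  have hKP : K ≤ P := fun v hv => by
    rw [hP, Submodule.mem_comap, LinearMap.mem_ker.1 hv]; exact zero_mem _
  have hdomP : finrank F LP + finrank F K = finrank F P := by
    rw [← LinearMap.finrank_range_add_finrank_ker (L.domRestrict P), LinearMap.range_domRestrict,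
      LinearMap.ker_domRestrict, ← (Submodule.comapSubtypeEquivOfLe hKP).finrank_eq]
  have hdomR : finrank F LR + finrank F (R ⊓ K : Submodule F (Vec m F)) = finrank F R := by
    rw [← LinearMap.finrank_range_add_finrank_ker (L.domRestrict R), LinearMap.range_domRestrict,
      LinearMap.ker_domRestrict, show Submodule.comap R.subtype (LinearMap.ker L) =
        Submodule.comap R.subtype (R ⊓ K) by ext v; simp [hK],
      (Submodule.comapSubtypeEquivOfLe (inf_le_left (b := K))).finrank_eq]
  have hRP : R ≤ P := fun r hr => by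
    rw [hP, Submodule.mem_comap, hLdef, nil_toSp]; exact sub_mem (hg r hr) hr
  have hRK := Submodule.finrank_sup_add_finrank_inf_eq R K
  have hrank := LinearMap.finrank_range_add_finrank_ker L
  rw [hdim] at hrank
  rw [← hK] at hrank
  have hLR2 := horth LR
  rw [hperp] at hLR2
  have hLRle : finrank F LR ≤ 2 * m := hdim ▸ Submodule.finrank_le _
  -- the radical
  have hsupK : R ⊔ K ≤ LinearMap.BilinForm.orthogonal f LP := by
    rw [sup_le_iff]
    refine ⟨?_, ?_⟩
    · rintro r hr _ ⟨u, hu, rfl⟩
      exact hRR _ hu r hr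
    · rintro k hk _ ⟨u, hu, rfl⟩
      show f _ _ = 0
      rw [hfv]
      exact nil_orth _ _ (sub_eq_zero.1 ((SpInvolTwo.nil_eq _ _).symm.trans (LinearMap.mem_ker.1 hk)))
  have horthLP : LinearMap.BilinForm.orthogonal f LP = R ⊔ K := by
    refine (Submodule.eq_of_le_of_finrank_eq hsupK ?_).symm
    rw [horth]
    omega
  -- the alternating form on `P`
  let B : LinearMap.BilinForm F (Vec m F) := f.comp L LinearMap.id
  have hB : ∀ u v, B u v = Cfsg.sympForm m F (L u) v := fun u v => hfv _ _
  have hA : ∀ u ∈ P, B u u = 0 := fun u hu => by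
    rw [hB, sympForm_comm]
    have := qPlus_nil g u
    rw [Invol2.formB_apply, ← hLdef] at this
    rw [← this]; exact hQR _ hu
  let B' : LinearMap.BilinForm F P := B.restrict P
  have hA' : B'.IsAlt := fun u => hA u.1 u.2
  obtain ⟨W, hW⟩ := Submodule.exists_isCompl (Submodule.comap P.subtype (R ⊔ K))
  have hWn : ∀ w ∈ W, (∀ v ∈ W, B' w v = 0) → w = 0 := by
    intro w hw hv
    refine Submodule.disjoint_def.mp hW.disjoint w ?_ hw
    show (w : Vec m F) ∈ R ⊔ K
    rw [← horthLP]
    rintro _ ⟨u, hu, rfl⟩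
    obtain ⟨z, hz, w', hw', he⟩ := Submodule.mem_sup.mp
      (hW.sup_eq_top ▸ Submodule.mem_top : (⟨u, hu⟩ : P) ∈ Submodule.comap P.subtype (R ⊔ K) ⊔ W)
    have h1 : B' ⟨u, hu⟩ w = 0 := by
      rw [← he, map_add, LinearMap.add_apply, hA'.isRefl _ _ (hv w' hw'), add_zero]
      refine hA'.isRefl _ _ ?_
      show B w.1 z.1 = 0
      have hz' : (z : Vec m F) ∈ LinearMap.BilinForm.orthogonal f LP := hsupK hz
      exact hz' _ ⟨w.1, w.2, rfl⟩
    exact h1
  obtain ⟨k, e, e', he, he', hee', hee, hff, hspan⟩ := Forms.exists_symplectic_family B' hA' W hWn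
  have h1 := Forms.finrank_eq_of_symplectic_family B' hA' W e e' he he' hee' hee hff hspan
  have h2 := Submodule.finrank_add_eq_of_isCompl hW
  rw [(Submodule.comapSubtypeEquivOfLe (sup_le hRP hKP)).finrank_eq] at h2
  have horthLP' := congrArg (fun S : Submodule F (Vec m F) => finrank F S) horthLP
  simp only [horth] at horthLP'
  refine ⟨k + finrank F LR, ?_⟩
  have e1 : finrank F ↥(R ⊔ K) = finrank F ↥K + finrank F ↥LR := by linarith
  have e2 : finrank F ↥P + finrank F ↥LR = 2 * m := by omega
  linarith

end Cfsg.Agent.Classical10.OPlusInvolTwo
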