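import Cfsg.Agent.Classical10.OPlusInvolTwo

/-!
Centralisers in `Ω` of involutions of orthogonal groups of plus type in characteristic two
(helper10).
-/

set_option autoImplicit false
set_option maxHeartbeats 1600000

namespace Cfsg.Agent.Classical10.OPlusInvolTwo

open Cfsg.Agent.Symplectic
open Module (finrank)
open Cfsg.Agent.Reflections (qPlus act resSp refl dickson)

variable {F : Type*} [Field F] [Fintype F] [CharP F 2] {m : ℕ}

theorem exc_of (h : Fintype.card F ≠ 2 ∨ m ≠ 2) :
    (∃ c : F, c ≠ 0 ∧ c ≠ 1) ∨ Fintype.card (Fin m ⊕ Fin m) ≠ 4 := by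
  classical
  rcases h with h | h
  · refine Or.inl ?_
    by_contra hcon
    push Not at hcon
    refine h ?_
    have : (Finset.univ : Finset F) = {0, 1} := by
      ext c
      by_cases hc : c = 0
      · simp [hc]
      · simp [hc, hcon c hc]
    rw [← Finset.card_univ, this, Finset.card_pair zero_ne_one]
  · exact Or.inr (by simp; omega)

theorem one_le_of_ne {x : ↥(Cfsg.isometryGroup F ⇑(qPlus m F))}
    (h : ∃ v : Vec m F, Invol2.nil (toSp x) v ≠ 0) : 1 ≤ Fintype.card (Fin m ⊕ Fin m) := by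
  obtain ⟨v, hv⟩ := h
  obtain ⟨i, -⟩ := Function.ne_iff.1 hv
  exact Fintype.card_pos_iff.2 ⟨i⟩

variable (hexc : (∃ c : F, c ≠ 0 ∧ c ≠ 1) ∨ Fintype.card (Fin m ⊕ Fin m) ≠ 4)
include hexc

theorem notMem_omega_refl {v : Vec m F} (hv : qPlus m F v ≠ 0) :
    refl (qPlus m F) v ∉ Cfsg.Omega F ⇑(qPlus m F) := by
  intro h
  have hgen := Reflections.reflGroup_eq_top_of_char_two (Q := qPlus m F) nondeg hexc
  have h1 : dickson nondeg hgen (refl (qPlus m F) v) = 1 :=
    Abelianization.commutator_subset_ker _ h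
  rw [Reflections.dickson_refl nondeg hgen hv] at h1
  exact absurd h1 (by decide)

theorem mem_omega_of_even (hm : 1 ≤ Fintype.card (Fin m ⊕ Fin m))
    (g : ↥(Cfsg.isometryGroup F ⇑(qPlus m F))) (hg : Even (finrank F (resSp g))) :
    g ∈ Cfsg.Omega F ⇑(qPlus m F) := by
  have hgen := Reflections.reflGroup_eq_top_of_char_two (Q := qPlus m F) nondeg hexc
  set δ := dickson (Q := qPlus m F) nondeg hgen
  have hle : Cfsg.Omega F ⇑(qPlus m F) ≤ δ.ker := Abelianization.commutator_subset_ker δ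
  have hidx := Reflections.omega_index_two (Q := qPlus m F) nondeg hexc hm
  have hne : δ.ker.index ≠ 1 := by
    rw [Ne, Subgroup.index_eq_one]
    intro htop
    obtain ⟨v, hv⟩ : ∃ v : Vec m F, qPlus m F v ≠ 0 := by
      by_contra hcon
      push Not at hcon
      obtain ⟨i⟩ := Fintype.card_pos_iff.1 hm
      have : (Pi.single i 1 : Vec m F) = 0 := Reflections.eq_zero_of_polar_eq_zero
        (Q := qPlus m F) nondeg fun y => by simp [QuadraticMap.polar, hcon]
      exact one_ne_zero (α := F) (by simpa using congrFun this i)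
    have h1 : δ (refl (qPlus m F) v) = 1 := (htop ▸ Subgroup.mem_top _ : _ ∈ δ.ker)
    rw [Reflections.dickson_refl nondeg hgen hv] at h1
    exact absurd h1 (by decide)
  have h := Subgroup.relIndex_mul_index hle
  have hr : (Cfsg.Omega F ⇑(qPlus m F)).relIndex δ.ker = 1 := by
    rcases Nat.prime_two.eq_one_or_self_of_dvd δ.ker.index ((Subgroup.index_dvd_of_le hle).trans (dvd_of_eq hidx))
      with h1 | h1
    · exact absurd h1 hne
    · rw [hidx, h1] at h; omega
  refine Subgroup.relIndex_eq_one.mp hr ?_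
  rw [MonoidHom.mem_ker]
  show Multiplicative.ofAdd ((finrank F (resSp g) : ℕ) : ZMod 2) = 1
  rw [ofAdd_eq_one, ZMod.natCast_eq_zero_iff_even]
  exact hg

variable (x : ↥(Cfsg.isometryGroup F ⇑(qPlus m F)))

/-- The number of elements of `Ω` commuting with `x`. -/
noncomputable def cardOmegaZ : ℕ :=
  Nat.card {g : ↥(Cfsg.Omega F ⇑(qPlus m F)) // (g : ↥(Cfsg.isometryGroup F ⇑(qPlus m F))) * x =
    x * (g : ↥(Cfsg.isometryGroup F ⇑(qPlus m F)))}

omit hexc [Fintype F] [CharP F 2] in
theorem card_omega_eq :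
    cardOmegaZ x = Nat.card (Cfsg.Omega F ⇑(qPlus m F) ⊓
      Subgroup.centralizer ({x} : Set ↥(Cfsg.isometryGroup F ⇑(qPlus m F))) : Subgroup _) := by
  refine Nat.card_eq_of_bijective
    (fun g => ⟨g.1.1, g.1.2, Subgroup.mem_centralizer_singleton_iff.2 g.2⟩) ⟨?_, ?_⟩
  · intro g g' h
    exact Subtype.ext (Subtype.ext (congrArg Subtype.val h :))
  · rintro ⟨g, hg, hg'⟩
    exact ⟨⟨⟨g, hg⟩, Subgroup.mem_centralizer_singleton_iff.1 hg'⟩, rfl⟩

theorem card_omega_of_vector {v : Vec m F} (hv : v ∈ fixK x) (hQv : qPlus m F v ≠ 0) :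
    2 * cardOmegaZ x = Nat.card
      (Subgroup.centralizer ({x} : Set ↥(Cfsg.isometryGroup F ⇑(qPlus m F)))) := by
  set Z := Subgroup.centralizer ({x} : Set ↥(Cfsg.isometryGroup F ⇑(qPlus m F)))
  set Ω := Cfsg.Omega F ⇑(qPlus m F)
  have hrZ : refl (qPlus m F) v ∈ Z := by
    rw [Subgroup.mem_centralizer_singleton_iff]
    have h := Reflections.conj_refl x hQv
    have hxv : act x v = v := mem_fixK.1 hv
    rw [hxv, mul_inv_eq_iff_eq_mul] at h
    exact h.symm
  have hm : 1 ≤ Fintype.card (Fin m ⊕ Fin m) := by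
    obtain ⟨i, -⟩ := Function.ne_iff.1 (show v ≠ 0 from fun h => hQv (by rw [h]; exact map_zero _))
    exact Fintype.card_pos_iff.2 ⟨i⟩
  have hidx := Reflections.omega_index_two (Q := qPlus m F) nondeg hexc hm
  have h2 : Ω.relIndex Z = 2 := by
    rcases Nat.prime_two.eq_one_or_self_of_dvd _
      (hidx ▸ Subgroup.relIndex_dvd_index_of_normal Ω Z) with h | h
    · exact absurd (Subgroup.relIndex_eq_one.1 h hrZ) (notMem_omega_refl hexc hQv)
    · exact h
  have h3 := Subgroup.card_mul_index (Ω.subgroupOf Z)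
  have h4 : Nat.card (Ω.subgroupOf Z) = Nat.card (Ω ⊓ Z : Subgroup _) := by
    rw [← Subgroup.inf_subgroupOf_right]
    exact Nat.card_congr (Subgroup.subgroupOfEquivOfLe (inf_le_right : Ω ⊓ Z ≤ Z)).toEquiv
  rw [h4] at h3
  rw [card_omega_eq, mul_comm, ← h2]
  exact h3

theorem card_omega_nonAlt (hx : x * x = 1) (h : ¬ SpInvolTwo.IsAltType (toSp x)) :
    cardOmegaZ x * Fintype.card F ^ (2 * m - SpInvolTwo.rk (toSp x)) =
      Nat.card (Subgroup.centralizer ({toSp x} : Set (Sp m F))) := by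
  have hW := two_mul_card_filter x
  rw [sum_fixK_of_nonAlt x hx h, add_zero, card_fixK] at hW
  simp only [SpInvolTwo.IsAltType, not_forall] at h
  obtain ⟨u, hu⟩ := h
  rw [← qPlus_nil] at hu
  have hK : Invol2.nil (toSp x) u ∈ fixK x := by
    rw [mem_fixK, SpInvolTwo.nil_eq, smul_sub, smul_smul, ← map_mul, hx, map_one, one_smul]
    ext i
    simp only [Pi.sub_apply, CharTwo.sub_eq_add]
    ring
  rw [← card_mul_card x hx, ← card_omega_of_vector hexc x hK hu, mul_comm 2 (cardOmegaZ x), mul_assoc]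
  congr 1
  exact_mod_cast hW.symm

theorem card_omega_alt (hx : x * x = 1) (hx1 : x ≠ 1) (h : SpInvolTwo.IsAltType (toSp x)) :
    cardOmegaZ x * (if SpInvolTwo.rk (toSp x) = m then Fintype.card F ^ m else
        Fintype.card F ^ (2 * m - SpInvolTwo.rk (toSp x)) + Fintype.card F ^ m) =
      Nat.card (Subgroup.centralizer ({toSp x} : Set (Sp m F))) := by
  classical
  have hW := two_mul_card_filter x
  rw [sum_fixK_of_alt x h, card_fixK] at hW
  rw [← card_mul_card x hx]
  have hRQ : ∀ r ∈ LinearMap.range (Invol2.nil (toSp x)), qPlus m F r = 0 := by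
    rintro _ ⟨v, rfl⟩; rw [qPlus_nil]; exact h v
  split_ifs with hs
  · have hm : 1 ≤ Fintype.card (Fin m ⊕ Fin m) := by
      refine one_le_of_ne (x := x) ?_
      by_contra hcon
      push Not at hcon
      refine hx1 (toSp_injective ?_)
      rw [map_one]
      refine eq_of_smul_eq fun v => ?_
      rw [one_smul, ← sub_eq_zero, ← SpInvolTwo.nil_eq]
      exact hcon v
    have hle : Subgroup.centralizer ({x} : Set ↥(Cfsg.isometryGroup F ⇑(qPlus m F))) ≤
        Cfsg.Omega F ⇑(qPlus m F) := by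
      intro g hg
      refine mem_omega_of_even hexc hm g (even_of_fix g _ hs hRQ ?_)
      rintro _ ⟨v, rfl⟩
      refine ⟨act g v, ?_⟩
      have hc : toSp x * toSp g = toSp g * toSp x := by
        rw [← map_mul, ← map_mul, Subgroup.mem_centralizer_singleton_iff.1 hg]
      rw [← toSp_smul, ← toSp_smul, SpInvolTwo.nil_eq, SpInvolTwo.nil_eq, smul_sub, smul_smul,
        smul_smul, hc]
    rw [card_omega_eq, inf_eq_right.2 hle]
    congr 1
    rw [hs, show 2 * m - m = m by omega] at hW
    push_cast at hW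
    have h2 : (2 : ℤ) * Nat.card {w : fixK x // chi (qPlus m F w) = 1} =
        2 * ((Fintype.card F ^ m : ℕ) : ℤ) := by push_cast; linarith
    exact_mod_cast (mul_left_cancel₀ (two_ne_zero (α := ℤ)) h2).symm
  · obtain ⟨v, hv, hQv⟩ : ∃ v ∈ fixK x, qPlus m F v ≠ 0 := by
      by_contra hcon
      push Not at hcon
      apply hs
      have h1 := sum_fixK_of_alt x h
      letI := fintypeFixK x
      have e : ∀ w : fixK x, chi (qPlus m F w) = 1 := fun w => by rw [hcon w w.2, chi_zero]
      simp only [e, Finset.sum_const, nsmul_eq_mul, mul_one] at h1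
      rw [Finset.card_univ, ← Nat.card_eq_fintype_card, card_fixK] at h1
      have h2 : Fintype.card F ^ (2 * m - SpInvolTwo.rk (toSp x)) = Fintype.card F ^ m := by
        exact_mod_cast h1
      have h3 := Nat.pow_right_injective Fintype.one_lt_card h2
      have h4 : SpInvolTwo.rk (toSp x) ≤ 2 * m :=
        (Submodule.finrank_le _).trans (by simp [two_mul])
      omega
    rw [← card_omega_of_vector hexc x hv hQv, mul_comm 2 (cardOmegaZ x), mul_assoc]
    congr 1
    push_cast at hW
    exact_mod_cast hW.symm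

end Cfsg.Agent.Classical10.OPlusInvolTwo

namespace Cfsg.Agent.Classical10.OPlusInvolTwo

variable {F : Type*} [Field F] [Fintype F] [CharP F 2] {m : ℕ}

theorem rk_le (a : Symplectic.Sp m F) (ha : a * a = 1) : SpInvolTwo.rk a ≤ m := by
  rcases SpInvolTwo.classify a ha with ⟨-, k, r, h1, h2, -⟩ | ⟨-, k, r, h1, h2, -⟩ |
    ⟨-, k, r, h1, h2, -⟩ <;> omega

end Cfsg.Agent.Classical10.OPlusInvolTwo
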