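import Mathlib.LinearAlgebra.Projectivization.Action
import Mathlib.GroupTheory.GroupAction.MultipleTransitivity
import Mathlib.LinearAlgebra.Matrix.GeneralLinearGroup.Projective
import Mathlib.FieldTheory.Finite.Basic
import Mathlib.Tactic

/-!
Frames of the projective line: `GL₂`, `PGL₂` and `SL₂` on triples of points (helper10).
-/

set_option autoImplicit false

namespace Cfsg.Agent.Classical10

open Matrix
open scoped LinearAlgebra.Projectivization

variable {F : Type*} [Field F]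

/-- The matrix with columns `u` and `v`. -/
def colMat (u v : Fin 2 → F) : Matrix (Fin 2) (Fin 2) F := !![u 0, v 0; u 1, v 1]

theorem colMat_mulVec (u v w : Fin 2 → F) : colMat u v *ᵥ w = w 0 • u + w 1 • v := by
  funext i
  fin_cases i <;> simp [colMat, Matrix.mulVec, dotProduct, Fin.sum_univ_two] <;> ring

theorem det_colMat (u v : Fin 2 → F) : (colMat u v).det = u 0 * v 1 - v 0 * u 1 := by
  simp [colMat, Matrix.det_fin_two]

theorem det_colMat_smul (a b : F) (u v : Fin 2 → F) :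
    (colMat (a • u) (b • v)).det = a * b * (colMat u v).det := by
  simp [det_colMat]; ring

theorem det_colMat_rep_ne_zero {p p' : ℙ F (Fin 2 → F)} (h : p ≠ p') :
    (colMat p.rep p'.rep).det ≠ 0 := by
  intro e
  rw [det_colMat] at e
  apply h
  rw [← p.mk_rep, ← p'.mk_rep]
  refine (Projectivization.mk_eq_mk_iff' F _ _ _ _).2 ?_
  by_cases h0 : p'.rep 0 = 0
  · have h1 : p'.rep 1 ≠ 0 := fun h1 => p'.rep_nonzero (funext fun i => by fin_cases i <;> simp [h0, h1])
    have hp : p.rep 0 = 0 :=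
      (mul_eq_zero.1 (show p.rep 0 * p'.rep 1 = 0 by linear_combination e + (p.rep 1) * h0)).resolve_right h1
    refine ⟨p.rep 1 / p'.rep 1, funext fun i => ?_⟩
    fin_cases i <;> simp [h0, hp, h1]
  · refine ⟨p.rep 0 / p'.rep 0, funext fun i => ?_⟩
    fin_cases i <;> simp [h0]
    field_simp
    linear_combination e

/-- Any three distinct points are `mk u, mk v, mk (u + v)` for a basis `u, v`. -/
theorem exists_frame {a b c : ℙ F (Fin 2 → F)} (hab : a ≠ b) (hac : a ≠ c) (hbc : b ≠ c) :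
    ∃ (u v : Fin 2 → F) (hu : u ≠ 0) (hv : v ≠ 0) (huv : u + v ≠ 0),
      (colMat u v).det ≠ 0 ∧ a = .mk F u hu ∧ b = .mk F v hv ∧ c = .mk F (u + v) huv := by
  have hd := det_colMat_rep_ne_zero hab
  set d := (colMat a.rep b.rep).det with hddef
  set x := (colMat c.rep b.rep).det / d with hx
  set y := (colMat a.rep c.rep).det / d with hy
  have hx0 : x ≠ 0 := div_ne_zero (det_colMat_rep_ne_zero hbc.symm) hd
  have hy0 : y ≠ 0 := div_ne_zero (det_colMat_rep_ne_zero hac) hd
  have key : x • a.rep + y • b.rep = c.rep := by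
    funext i
    rw [det_colMat] at hddef
    have : d * (x • a.rep + y • b.rep) i = d * c.rep i := by
      simp only [Pi.add_apply, Pi.smul_apply, smul_eq_mul, hx, hy]
      field_simp
      rw [hddef, det_colMat, det_colMat]
      fin_cases i <;> simp <;> ring
    exact mul_left_cancel₀ hd this
  refine ⟨x • a.rep, y • b.rep, smul_ne_zero hx0 a.rep_nonzero, smul_ne_zero hy0 b.rep_nonzero,
    key ▸ c.rep_nonzero, ?_, ?_, ?_, ?_⟩
  · rw [det_colMat_smul]
    exact mul_ne_zero (mul_ne_zero hx0 hy0) hd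
  · conv_lhs => rw [← a.mk_rep]
    exact (Projectivization.mk_eq_mk_iff' F _ _ _ _).2 ⟨x⁻¹, inv_smul_smul₀ hx0 _⟩
  · conv_lhs => rw [← b.mk_rep]
    exact (Projectivization.mk_eq_mk_iff' F _ _ _ _).2 ⟨y⁻¹, inv_smul_smul₀ hy0 _⟩
  · conv_lhs => rw [← c.mk_rep]
    exact (Projectivization.mk_eq_mk_iff' F _ _ _ _).2 ⟨1, by rw [one_smul, key]⟩

/-- An element of `GL₂` fixing three distinct points is scalar. -/
theorem eq_scalar_of_fix_three {g : GL (Fin 2) F} {a b c : ℙ F (Fin 2 → F)} (hab : a ≠ b)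
    (hac : a ≠ c) (hbc : b ≠ c) (ha : g • a = a) (hb : g • b = b) (hc : g • c = c) :
    ∃ r : F, (g : Matrix (Fin 2) (Fin 2) F) = Matrix.scalar (Fin 2) r := by
  obtain ⟨u, v, hu, hv, huv, hd, rfl, rfl, rfl⟩ := exists_frame hab hac hbc
  rw [Projectivization.smul_mk, Projectivization.mk_eq_mk_iff'] at ha hb hc
  obtain ⟨α, hα⟩ := ha
  obtain ⟨β, hβ⟩ := hb
  obtain ⟨γ, hγ⟩ := hc
  simp only [smul_add, ← hα, ← hβ] at hγ
  rw [det_colMat] at hd
  have e0 := congrFun hγ 0
  have e1 := congrFun hγ 1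
  simp only [Pi.add_apply, Pi.smul_apply, smul_eq_mul] at e0 e1
  have hαγ : α = γ := by
    refine mul_left_cancel₀ hd ?_
    linear_combination (-(v 1)) * e0 + (v 0) * e1
  have hβγ : β = γ := by
    refine mul_left_cancel₀ hd ?_
    linear_combination (u 1) * e0 - (u 0) * e1
  have hN : ((g : Matrix (Fin 2) (Fin 2) F) - Matrix.scalar (Fin 2) γ) * colMat u v = 0 := by
    have hU : ((g : Matrix (Fin 2) (Fin 2) F) *ᵥ u) = γ • u := hαγ ▸ hα.symm
    have hV : ((g : Matrix (Fin 2) (Fin 2) F) *ᵥ v) = γ • v := hβγ ▸ hβ.symm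
    refine Matrix.ext_of_mulVec_single fun i => ?_
    rw [← Matrix.mulVec_mulVec, colMat_mulVec, Matrix.sub_mulVec, Matrix.mulVec_add,
      Matrix.mulVec_smul, Matrix.mulVec_smul, hU, hV]
    simp [Matrix.scalar_apply, ← Matrix.smul_one_eq_diagonal, Matrix.smul_mulVec, smul_comm γ] <;>
      (funext j; simp)
  refine ⟨γ, ?_⟩
  have hinv : IsUnit (colMat u v) := (Matrix.isUnit_iff_isUnit_det _).2
    (det_colMat u v ▸ hd.isUnit)
  exact sub_eq_zero.1 ((hinv.mul_left_eq_zero).1 hN)

/-- For any two triples of distinct points there is an element of `GL₂` mapping one to the other,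
of determinant `d' / d` where `d`, `d'` are the frame determinants. -/
theorem exists_smul_triple {a b c a' b' c' : ℙ F (Fin 2 → F)} (hab : a ≠ b) (hac : a ≠ c)
    (hbc : b ≠ c) (hab' : a' ≠ b') (hac' : a' ≠ c') (hbc' : b' ≠ c') :
    ∃ g : GL (Fin 2) F, g • a = a' ∧ g • b = b' ∧ g • c = c' := by
  obtain ⟨u, v, hu, hv, huv, hd, rfl, rfl, rfl⟩ := exists_frame hab hac hbc
  obtain ⟨u', v', hu', hv', huv', hd', rfl, rfl, rfl⟩ := exists_frame hab' hac' hbc'
  set A := GeneralLinearGroup.mkOfDetNeZero (colMat u v) hd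
  set B := GeneralLinearGroup.mkOfDetNeZero (colMat u' v') hd'
  have hA : ∀ w : Fin 2 → F, A • w = w 0 • u + w 1 • v := colMat_mulVec u v
  have hB : ∀ w : Fin 2 → F, B • w = w 0 • u' + w 1 • v' := colMat_mulVec u' v'
  have e1 : (B * A⁻¹) • u = u' := by
    have : A • (![1, 0] : Fin 2 → F) = u := by simp [hA]
    rw [← this, mul_smul, inv_smul_smul, hB]; simp
  have e2 : (B * A⁻¹) • v = v' := by
    have : A • (![0, 1] : Fin 2 → F) = v := by simp [hA]
    rw [← this, mul_smul, inv_smul_smul, hB]; simp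
  refine ⟨B * A⁻¹, ?_, ?_, ?_⟩ <;>
    rw [Projectivization.smul_mk, Projectivization.mk_eq_mk_iff'] <;> refine ⟨1, ?_⟩ <;>
      simp only [one_smul, smul_add, e1, e2]

theorem mk_smul_point (g : GL (Fin 2) F) (p : ℙ F (Fin 2 → F)) :
    (Matrix.ProjGenLinGroup.mk g : Matrix.ProjGenLinGroup (Fin 2) F) • p = g • p := by
  rw [← p.mk_rep, Projectivization.PGL.mk_smul_mk, Projectivization.smul_mk]

theorem toGL_smul_point (g : Matrix.SpecialLinearGroup (Fin 2) F) (p : ℙ F (Fin 2 → F)) :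
    Matrix.SpecialLinearGroup.toGL g • p = g • p := by
  rw [← p.mk_rep, Projectivization.smul_mk, Projectivization.smul_mk]
  rfl

end Cfsg.Agent.Classical10
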