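import Cfsg.Agent.Lib.RootSubgroups.SL2
import Cfsg.Agent.Lib.RootSubgroups.Class

/-!
Building degenerate classes of abstract root subgroups from homomorphisms out of `SL₂` (helper10).
-/

set_option autoImplicit false

namespace Cfsg.Agent.RootClass10

open Cfsg Cfsg.Agent.RootSubgroups
open scoped IsMulCommutative

variable {k : Type*} [Field k] {G : Type*} [Group G]

theorem conjBy_map {X : Type*} [Group X] (φ : X →* G) (H : Subgroup X) (g : X) :
    conjBy (H.map φ) (φ g) = (conjBy H g).map φ := by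
  rw [conjBy, conjBy, Subgroup.map_map, Subgroup.map_map]
  congr 1
  ext x
  simp

theorem map_conj_w :
    (upperUnipotentSL2 k).map (MulAut.conj (SL2.w (1 : k))).toMonoidHom = lowerUnipotentSL2 k ∧
    (lowerUnipotentSL2 k).map (MulAut.conj (SL2.w (1 : k))).toMonoidHom = upperUnipotentSL2 k := by
  constructor <;> ext g <;> simp only [Subgroup.mem_map, SL2.mem_upper, SL2.mem_lower]
  · constructor
    · rintro ⟨_, ⟨x, rfl⟩, rfl⟩
      exact ⟨-x / 1 ^ 2, by simp [SL2.w_conj_u one_ne_zero]⟩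
    · rintro ⟨x, rfl⟩
      exact ⟨SL2.u (-x), ⟨_, rfl⟩, by simp [SL2.w_conj_u one_ne_zero]⟩
  · constructor
    · rintro ⟨_, ⟨x, rfl⟩, rfl⟩
      exact ⟨-(1 ^ 2 * x), by simp [SL2.w_conj_v one_ne_zero]⟩
    · rintro ⟨x, rfl⟩
      exact ⟨SL2.v (-x), ⟨_, rfl⟩, by simp [SL2.w_conj_v one_ne_zero]⟩

theorem sl2_conj_eq {x : k} (hx : x ≠ 0) :
    conjBy (upperUnipotentSL2 k) (SL2.v x⁻¹)⁻¹ = conjBy (lowerUnipotentSL2 k) (SL2.u x)⁻¹ := by
  rw [conjBy_eq_iff, conjBy_conjBy, inv_inv]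
  set g := SL2.v x⁻¹ * (SL2.u x)⁻¹
  have key : ∀ z, g * SL2.v z = SL2.u (-(x ^ 2 * z)) * g := by
    intro z
    simp only [g, SL2.u_inv]
    apply SL2.ext2 <;> simp [Matrix.mul_apply, Fin.sum_univ_two] <;> (try field_simp) <;>
      first | (ring; done) | simp
  ext y
  rw [mem_conjBy, SL2.mem_upper, SL2.mem_lower]
  constructor
  · rintro ⟨t, rfl⟩
    refine ⟨-t / x ^ 2, ?_⟩
    rw [mul_assoc, inv_mul_eq_iff_eq_mul, key]
    congr 2
    field_simp
  · rintro ⟨z, hz⟩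
    refine ⟨-(x ^ 2 * z), ?_⟩
    rw [mul_assoc, inv_mul_eq_iff_eq_mul, key] at hz
    exact mul_right_cancel hz

theorem rankOneCondition_map (φ : Matrix.SpecialLinearGroup (Fin 2) k →* G) :
    RankOneCondition ((upperUnipotentSL2 k).map φ) ((lowerUnipotentSL2 k).map φ) ∨
      ¬ Function.Injective φ := by
  by_cases hφ : Function.Injective φ
  swap
  · exact Or.inr hφ
  left
  rintro _ ⟨g, hg, rfl⟩ ha
  obtain ⟨x, rfl⟩ := SL2.mem_upper.1 hg
  have hx : x ≠ 0 := fun e => ha (by rw [e, SL2.u_zero, map_one])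
  refine ⟨φ (SL2.v x⁻¹), Subgroup.mem_map_of_mem φ (SL2.mem_lower.2 ⟨_, rfl⟩), fun e => ?_, ?_⟩
  · exact inv_ne_zero hx (SL2.v_eq_one.1 (hφ (e.trans (map_one φ).symm)))
  · rw [← map_inv, ← map_inv, conjBy_map, conjBy_map, sl2_conj_eq hx]

theorem isRankOnePair_map (φ : Matrix.SpecialLinearGroup (Fin 2) k →* G)
    (hφ : Function.Injective φ) :
    IsRankOnePair ((upperUnipotentSL2 k).map φ) ((lowerUnipotentSL2 k).map φ) := by
  have hcu : ∀ a ∈ (upperUnipotentSL2 k).map φ, ∀ b ∈ (upperUnipotentSL2 k).map φ,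
      a * b = b * a := by
    rintro _ ⟨a, ha, rfl⟩ _ ⟨b, hb, rfl⟩
    obtain ⟨x, rfl⟩ := SL2.mem_upper.1 ha
    obtain ⟨y, rfl⟩ := SL2.mem_upper.1 hb
    rw [← map_mul, ← map_mul, ← SL2.u_add, ← SL2.u_add, add_comm]
  have hcv : ∀ a ∈ (lowerUnipotentSL2 k).map φ, ∀ b ∈ (lowerUnipotentSL2 k).map φ,
      a * b = b * a := by
    rintro _ ⟨a, ha, rfl⟩ _ ⟨b, hb, rfl⟩
    obtain ⟨x, rfl⟩ := SL2.mem_lower.1 ha
    obtain ⟨y, rfl⟩ := SL2.mem_lower.1 hb
    rw [← map_mul, ← map_mul, ← SL2.v_add, ← SL2.v_add, add_comm]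
  refine ⟨fun e => ?_, ?_, ?_, (rankOneCondition_map φ).resolve_right (not_not.2 hφ), ?_⟩
  · have h1 : φ (SL2.u 1) ∈ (upperUnipotentSL2 k).map φ :=
      Subgroup.mem_map_of_mem φ (SL2.mem_upper.2 ⟨1, rfl⟩)
    rw [e] at h1
    obtain ⟨y, hy, hye⟩ := h1
    obtain ⟨z, rfl⟩ := SL2.mem_lower.1 hy
    have := congrArg (fun g => g.1 0 1) (hφ hye)
    simp at this
  · haveI := isMulCommutative_of_forall hcu
    exact inferInstance
  · haveI := isMulCommutative_of_forall hcv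
    exact inferInstance
  · have h := (rankOneCondition_map (φ.comp (MulAut.conj (SL2.w (1 : k))).toMonoidHom)).resolve_right
      (not_not.2 (hφ.comp (MulAut.conj (SL2.w (1 : k))).injective))
    rwa [← Subgroup.map_map, ← Subgroup.map_map, map_conj_w.1, map_conj_w.2] at h

theorem not_commute_of_hom (φ : Matrix.SpecialLinearGroup (Fin 2) k →* G)
    (hφ : Function.Injective φ) :
    ⁅(upperUnipotentSL2 k).map φ, (lowerUnipotentSL2 k).map φ⁆ ≠ ⊥ := fun h =>
  comm_of_pair_bot h (isRankOnePair_map φ hφ)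

theorem isPSL2PairOver_map (φ : Matrix.SpecialLinearGroup (Fin 2) k →* G)
    (hφ : Function.Injective φ) :
    IsPSL2PairOver k ((upperUnipotentSL2 k).map φ) ((lowerUnipotentSL2 k).map φ) :=
  ⟨φ, by rw [MonoidHom.range_eq_map, ← Subgroup.map_sup, sup_comm, SL2.top_eq_sup],
    by rw [(MonoidHom.ker_eq_bot_iff φ).2 hφ]; exact bot_le, rfl, rfl⟩

/-- The pairwise hypothesis: commuting or `SL₂(k)`. -/
def SL2Pairs (k : Type*) [Field k] (S : Set (Subgroup G)) : Prop :=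
  ∀ A ∈ S, ∀ B ∈ S, ⁅A, B⁆ = ⊥ ∨ ∃ φ : Matrix.SpecialLinearGroup (Fin 2) k →* G,
    Function.Injective φ ∧ (upperUnipotentSL2 k).map φ = A ∧ (lowerUnipotentSL2 k).map φ = B

/-- The connectedness hypothesis. -/
def Links (S : Set (Subgroup G)) : Prop :=
  ∀ A ∈ S, ∀ B ∈ S, A = B ∨ ⁅A, B⁆ ≠ ⊥ ∨ ∃ C ∈ S, ⁅A, C⁆ ≠ ⊥ ∧ ⁅C, B⁆ ≠ ⊥

theorem rootClass {S : Set (Subgroup G)} (hne : S.Nonempty)
    (hcomm : ∀ A ∈ S, IsMulCommutative A) (hbot : ∀ A ∈ S, A ≠ ⊥) (hgen : (⨆ A ∈ S, A) = ⊤)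
    (hconj : ∀ A ∈ S, ∀ g : G, conjBy A g ∈ S) (hpair : SL2Pairs k S) (hlink : Links S) :
    IsRootSubgroupClass S ∧ IsDegenerateRootSet S ∧ IsKRootSubgroupSet k S ∧
      IsConnectedFamily (FAdj S) S := by
  have hr1 : ∀ A ∈ S, ∀ B ∈ S, ⁅A, B⁆ ≠ ⊥ → IsRankOnePair A B := by
    intro A hA B hB h
    obtain ⟨φ, hφ, rfl, rfl⟩ := (hpair A hA B hB).resolve_left h
    exact isRankOnePair_map φ hφ
  have hS : IsRootSubgroupSet S := ⟨hcomm, hbot, hgen, hconj, fun A hA B hB =>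
    (em (⁅A, B⁆ = ⊥)).imp id fun h => Or.inl (hr1 A hA B hB h)⟩
  have hcon : IsConnectedFamily (FAdj S) S := by
    intro A hA B hB
    rcases hlink A hA B hB with rfl | h | ⟨C, hC, h1, h2⟩
    · exact Relation.ReflTransGen.refl
    · exact Relation.ReflTransGen.single ⟨hA, hB, hr1 A hA B hB h⟩
    · exact (Relation.ReflTransGen.single ⟨hA, hC, hr1 A hA C hC h1⟩).tail
        ⟨hC, hB, hr1 C hC B hB h2⟩
  refine ⟨⟨hS, class_of_connected hS hne hcon⟩, fun A hA B hB h => ?_, ⟨hS, fun A hA B hB h => ?_⟩,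
    hcon⟩
  · rcases em (⁅A, B⁆ = ⊥) with e | e
    · exact hbot _ h.1 e
    · exact not_pair_of_cc' hS hA h (hr1 A hA B hB e)
  · obtain ⟨φ, hφ, rfl, rfl⟩ := (hpair A hA B hB).resolve_left fun e => comm_of_pair_bot e h
    exact isPSL2PairOver_map φ hφ

/-- The same inside the subgroup generated by the family. -/
theorem rootClass_generated {S : Set (Subgroup G)} (hne : S.Nonempty)
    (hcomm : ∀ A ∈ S, IsMulCommutative A) (hbot : ∀ A ∈ S, A ≠ ⊥)
    (hconj : ∀ A ∈ S, ∀ g : G, conjBy A g ∈ S) (hpair : SL2Pairs k S) (hlink : Links S) :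
    let S' := (fun A : Subgroup G => A.subgroupOf (⨆ B ∈ S, B)) '' S
    IsRootSubgroupClass S' ∧ IsDegenerateRootSet S' ∧ IsKRootSubgroupSet k S' ∧
      IsConnectedFamily (FAdj S') S' := by
  intro S'
  set H := ⨆ B ∈ S, B with hH
  have hle : ∀ A ∈ S, A ≤ H := fun A hA => le_biSup (f := fun B : Subgroup G => B) hA
  have hmap : ∀ A ∈ S, (A.subgroupOf H).map H.subtype = A := fun A hA => by
    rw [Subgroup.subgroupOf_map_subtype, inf_eq_left.2 (hle A hA)]
  have hbr : ∀ A ∈ S, ∀ B ∈ S, ⁅A.subgroupOf H, B.subgroupOf H⁆ = ⊥ ↔ ⁅A, B⁆ = ⊥ := by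
    intro A hA B hB
    conv_rhs => rw [← hmap A hA, ← hmap B hB, ← Subgroup.map_commutator]
    exact (Subgroup.map_eq_bot_iff_of_injective _ H.subtype_injective).symm
  refine rootClass (hne.image _) ?_ ?_ ?_ ?_ ?_ ?_
  · rintro _ ⟨A, hA, rfl⟩
    refine isMulCommutative_of_forall fun a ha b hb => Subtype.ext ?_
    exact comm_of_comm (hcomm A hA) ha hb
  · rintro _ ⟨A, hA, rfl⟩ e
    replace e : A.subgroupOf H = ⊥ := e
    apply hbot A hA
    rw [← hmap A hA, e, Subgroup.map_bot]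
  · apply Subgroup.map_injective H.subtype_injective
    rw [Subgroup.map_iSup, ← MonoidHom.range_eq_map, Subgroup.range_subtype]
    simp only [Subgroup.map_iSup]
    refine le_antisymm (iSup₂_le ?_) ?_
    · rintro _ ⟨A, hA, rfl⟩
      exact (hmap A hA).le.trans (hle A hA)
    · refine iSup₂_le fun A hA => ?_
      refine le_iSup₂_of_le (A.subgroupOf H) ⟨A, hA, rfl⟩ ?_
      exact (hmap A hA).ge
  · rintro _ ⟨A, hA, rfl⟩ g
    refine ⟨conjBy A g, hconj A hA g, ?_⟩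
    ext x
    simp only [Subgroup.mem_subgroupOf, mem_conjBy]
    rfl
  · rintro _ ⟨A, hA, rfl⟩ _ ⟨B, hB, rfl⟩
    rcases hpair A hA B hB with h | ⟨φ, hφ, hu, hv⟩
    · exact Or.inl ((hbr A hA B hB).2 h)
    · have hr : ∀ g, φ g ∈ H := by
        intro g
        have hg : g ∈ lowerUnipotentSL2 k ⊔ upperUnipotentSL2 k := by
          rw [SL2.top_eq_sup]; exact Subgroup.mem_top g
        have := Subgroup.mem_map_of_mem φ hg
        rw [Subgroup.map_sup, hu, hv] at this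
        exact sup_le (hle B hB) (hle A hA) this
      refine Or.inr ⟨φ.codRestrict H hr, fun a b e => hφ (congrArg Subtype.val e), ?_, ?_⟩
      · apply Subgroup.map_injective H.subtype_injective
        rw [Subgroup.map_map, hmap A hA]
        exact hu
      · apply Subgroup.map_injective H.subtype_injective
        rw [Subgroup.map_map, hmap B hB]
        exact hv
  · rintro _ ⟨A, hA, rfl⟩ _ ⟨B, hB, rfl⟩
    rcases hlink A hA B hB with rfl | h | ⟨C, hC, h1, h2⟩
    · exact Or.inl rfl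
    · exact Or.inr (Or.inl (mt (hbr A hA B hB).1 h))
    · exact Or.inr (Or.inr ⟨_, ⟨C, hC, rfl⟩, mt (hbr A hA C hC).1 h1, mt (hbr C hC B hB).1 h2⟩)

/-- A copy of `SL₂(L)` acting on the line pair `p`, `r` of a module. -/
theorem exists_sl2_hom {L F : Type*} [Field L] [Field F] (ι : L →+* F) {V : Type*}
    [AddCommGroup V] [Module F V] {G : Type*} [Group G] [MulAction G V]
    (hfaith : ∀ g h : G, (∀ x : V, g • x = h • x) → g = h) (p r : V) (α β : V →ₗ[F] F)
    (hαp : α p = 1) (hαr : α r = 0) (hβp : β p = 0) (hβr : β r = 1)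
    (hU : ∀ b : L, ∃ g : G, ∀ x : V, g • x = x + (ι b * β x) • p)
    (hV : ∀ c : L, ∃ g : G, ∀ x : V, g • x = x + (ι c * α x) • r) :
    ∃ φ : Matrix.SpecialLinearGroup (Fin 2) L →* G, Function.Injective φ ∧
      (∀ b x, φ (SL2.u b) • x = x + (ι b * β x) • p) ∧
      (∀ c x, φ (SL2.v c) • x = x + (ι c * α x) • r) := by
  set M : Matrix.SpecialLinearGroup (Fin 2) L → V → V := fun g x => x +
    ((ι (g.1 0 0) - 1) * α x + ι (g.1 0 1) * β x) • p +
    (ι (g.1 1 0) * α x + (ι (g.1 1 1) - 1) * β x) • r with hM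
  have hmul : ∀ g g' x, M g (M g' x) = M (g * g') x := by
    intro g g' x
    simp only [hM, map_add, map_smul, smul_eq_mul, hαp, hαr, hβp, hβr,
      Matrix.SpecialLinearGroup.coe_mul, Matrix.mul_apply, Fin.sum_univ_two, map_mul]
    module
  have hone : ∀ x, M 1 x = x := fun x => by simp [hM]
  have hu : ∀ b x, M (SL2.u b) x = x + (ι b * β x) • p := fun b x => by simp [hM]
  have hv : ∀ c x, M (SL2.v c) x = x + (ι c * α x) • r := fun c x => by simp [hM]
  have hex : ∀ g, ∃ h : G, ∀ x, h • x = M g x := by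
    intro g
    have hg : g ∈ lowerUnipotentSL2 L ⊔ upperUnipotentSL2 L := by
      rw [SL2.top_eq_sup]; exact Subgroup.mem_top g
    let T : Subgroup (Matrix.SpecialLinearGroup (Fin 2) L) :=
      { carrier := {g | ∃ h : G, ∀ x, h • x = M g x}
        one_mem' := ⟨1, fun x => by rw [one_smul, hone]⟩
        mul_mem' := by
          rintro a b ⟨h, hh⟩ ⟨h', hh'⟩
          exact ⟨h * h', fun x => by rw [mul_smul, hh', hh, hmul]⟩
        inv_mem' := by
          rintro a ⟨h, hh⟩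
          refine ⟨h⁻¹, fun x => ?_⟩
          rw [inv_smul_eq_iff, hh, hmul, mul_inv_cancel, hone] }
    refine (sup_le ?_ ?_ : _ ≤ T) hg
    · intro y hy
      obtain ⟨c, rfl⟩ := SL2.mem_lower.1 hy
      obtain ⟨h, hh⟩ := hV c
      exact ⟨h, fun x => by rw [hh, hv]⟩
    · intro y hy
      obtain ⟨b, rfl⟩ := SL2.mem_upper.1 hy
      obtain ⟨h, hh⟩ := hU b
      exact ⟨h, fun x => by rw [hh, hu]⟩
  choose f hf using hex
  let φ : Matrix.SpecialLinearGroup (Fin 2) L →* G := MonoidHom.mk' f fun a b =>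
    hfaith _ _ fun x => by rw [hf, mul_smul, hf, hf, hmul]
  refine ⟨φ, ?_, fun b x => (hf _ x).trans (hu b x), fun c x => (hf _ x).trans (hv c x)⟩
  rw [injective_iff_map_eq_one]
  intro g hg
  have hfx : ∀ x, M g x = x := fun x => by
    rw [← hf g x]
    show φ g • x = x
    rw [hg, one_smul]
  have ep := hfx p
  have er := hfx r
  simp only [hM, hαp, hαr, hβp, hβr] at ep er
  have e1 := congrArg α ep
  have e2 := congrArg β ep
  have e3 := congrArg α er
  have e4 := congrArg β er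
  simp only [map_add, map_smul, smul_eq_mul, hαp, hαr, hβp, hβr] at e1 e2 e3 e4
  have c1 : ι (g.1 0 0) = ι 1 := by rw [map_one]; linear_combination e1
  have c2 : ι (g.1 0 1) = ι 0 := by rw [map_zero]; linear_combination e3
  have c3 : ι (g.1 1 0) = ι 0 := by rw [map_zero]; linear_combination e2
  have c4 : ι (g.1 1 1) = ι 1 := by rw [map_one]; linear_combination e4
  exact SL2.ext2 (by simpa using ι.injective c1) (by simpa using ι.injective c2)
    (by simpa using ι.injective c3) (by simpa using ι.injective c4)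

theorem map_eq_closure {L : Type*} [Field L] {G : Type*} [Group G]
    (φ : Matrix.SpecialLinearGroup (Fin 2) L →* G) (w : L → Matrix.SpecialLinearGroup (Fin 2) L)
    (U : Subgroup (Matrix.SpecialLinearGroup (Fin 2) L)) (hU : ∀ g, g ∈ U ↔ ∃ x, g = w x)
    {s : Set G} (hs : ∀ g, g ∈ s ↔ ∃ x, g = φ (w x)) : U.map φ = Subgroup.closure s := by
  have hset : (U.map φ : Set G) = s := by
    ext g
    rw [hs]
    constructor
    · rintro ⟨y, hy, rfl⟩
      obtain ⟨x, rfl⟩ := (hU y).1 hy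
      exact ⟨x, rfl⟩
    · rintro ⟨x, rfl⟩
      exact Subgroup.mem_map_of_mem φ ((hU _).2 ⟨x, rfl⟩)
  rw [← hset, Subgroup.closure_eq]

end Cfsg.Agent.RootClass10
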