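import Cfsg.Agent.Classical10.RootClassGeneric
import Cfsg.Agent.Lib.Unitary.Simple
import Mathlib.FieldTheory.Finite.GaloisField

/-!
Unitary transvection subgroups as a class of abstract root subgroups (helper10).
-/

set_option autoImplicit false

namespace Cfsg.Agent.RootClass10

open Cfsg Cfsg.Agent.RootSubgroups Matrix
open Cfsg.Agent.Unitary (herm)

variable {F : Type*} [Field F] [Fintype F] {n q : ℕ}

/-- The unitary transvection subgroup with centre `p`. -/
def Tsu (p : Fin n → F) : Subgroup (SU n F q) :=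
  Subgroup.closure {g : SU n F q |
    (∀ v : Fin n → F, ∃ c : F,
      ((g : Matrix.SpecialLinearGroup (Fin n) F) : Matrix (Fin n) (Fin n) F) *ᵥ v = v + c • p) ∧
    ∀ v : Fin n → F, hermForm n F q v p = 0 →
      ((g : Matrix.SpecialLinearGroup (Fin n) F) : Matrix (Fin n) (Fin n) F) *ᵥ v = v}

variable (hF : Fintype.card F = q ^ 2)

include hF

theorem exists_dual {p : Fin n → F} (hp : p ≠ 0) : ∃ x, herm q x p = 1 := by
  obtain ⟨j, hj⟩ := Function.ne_iff.1 hp
  have hj' : p j ^ q ≠ 0 := mt (Unitary.pow_q_eq_zero_iff hF).1 hj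
  exact ⟨(p j ^ q)⁻¹ • Unitary.eI j,
    by rw [Unitary.herm_smul_left, Unitary.herm_eI_left, inv_mul_cancel₀ hj']⟩

theorem mem_gen_iff_SU {p : Fin n → F} (hp : p ≠ 0) (hp0 : herm q p p = 0) (g : SU n F q) :
    ((∀ v : Fin n → F, ∃ c : F, g • v = v + c • p) ∧
      ∀ v : Fin n → F, herm q v p = 0 → g • v = v) ↔
    ∃ (c : F) (hc : c + c ^ q = 0), g = Unitary.tv hF hp0 hc := by
  constructor
  · rintro ⟨h1, h2⟩
    obtain ⟨x0, hx0⟩ := exists_dual hF hp
    obtain ⟨c, hc0⟩ := h1 x0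
    have hg : ∀ x, g • x = x + (c * herm q x p) • p := by
      intro x
      have h := h2 (x - herm q x p • x0) (by
        rw [Unitary.herm_sub_left, Unitary.herm_smul_left, hx0, mul_one, sub_self])
      rw [smul_sub, smul_comm g, hc0, smul_add, smul_smul] at h
      rw [sub_eq_iff_eq_add] at h
      rw [h, mul_comm]
      abel
    have hc : c + c ^ q = 0 := by
      have h := Unitary.herm_smul_SU g x0 x0
      simp only [hg, hx0, mul_one, Unitary.herm_add_left, Unitary.herm_add_right hF,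
        Unitary.herm_smul_left, Unitary.herm_smul_right hF, hp0, Unitary.herm_swap hF x0 p,
        one_pow, mul_zero, add_zero] at h
      linear_combination h
    exact ⟨c, hc, Unitary.eq_of_smul_eq_SU fun x => by rw [hg, Unitary.tv_smul]⟩
  · rintro ⟨c, hc, rfl⟩
    exact ⟨fun v => ⟨_, Unitary.tv_smul hF hp0 hc v⟩,
      fun v hv => by rw [Unitary.tv_smul, hv, mul_zero, zero_smul, add_zero]⟩

theorem mem_Tsu_iff {p : Fin n → F} (hp : p ≠ 0) (hp0 : herm q p p = 0) (g : SU n F q) :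
    g ∈ Tsu p ↔ ∃ (c : F) (hc : c + c ^ q = 0), g = Unitary.tv hF hp0 hc := by
  refine ⟨fun hg => ?_, fun h => Subgroup.subset_closure ((mem_gen_iff_SU hF hp hp0 g).2 h)⟩
  unfold Tsu at hg
  induction hg using Subgroup.closure_induction with
  | mem y hy => exact (mem_gen_iff_SU hF hp hp0 y).1 hy
  | one =>
    refine ⟨0, by simp [Unitary.zero_pow_q hF], Unitary.eq_of_smul_eq_SU fun x => ?_⟩
    rw [Unitary.tv_smul, zero_mul, zero_smul, add_zero, one_smul]
  | mul y z _ _ hy hz =>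
    obtain ⟨a, ha, rfl⟩ := hy; obtain ⟨b, hb, rfl⟩ := hz
    refine ⟨a + b, by rw [Unitary.add_pow_q hF]; linear_combination ha + hb,
      Unitary.eq_of_smul_eq_SU fun x => ?_⟩
    simp only [mul_smul, Unitary.tv_smul, Unitary.herm_add_left, Unitary.herm_smul_left, hp0]
    module
  | inv y _ hy =>
    obtain ⟨a, ha, rfl⟩ := hy
    refine ⟨-a, by rw [Unitary.neg_pow_q hF]; linear_combination -ha,
      Unitary.eq_of_smul_eq_SU fun x => ?_⟩
    rw [inv_smul_eq_iff]
    simp only [Unitary.tv_smul, Unitary.herm_add_left, Unitary.herm_smul_left, hp0]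
    module

theorem conjBy_Tsu (g : SU n F q) {p : Fin n → F} (hp : p ≠ 0) (hp0 : herm q p p = 0) :
    conjBy (Tsu p) g = Tsu (g • p) := by
  have hgp0 : g • p ≠ 0 := fun e => hp (by rwa [smul_eq_zero_iff_eq] at e)
  have hgp : herm q (g • p) (g • p) = 0 := (Unitary.herm_smul_SU g p p).trans hp0
  ext x
  rw [mem_conjBy, mem_Tsu_iff hF hp hp0, mem_Tsu_iff hF hgp0 hgp]
  refine exists_congr fun c => exists_congr fun hc => ?_
  rw [← Unitary.conj_tv hF g hp0 hc]
  constructor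
  · intro h; rw [← h]; group
  · intro h; rw [h]; group

theorem exists_subfield : ∃ (L : Type) (_ : Field L) (_ : Fintype L) (ι : L →+* F),
    Fintype.card L = q ∧ (∀ a, ι a ^ q = ι a) ∧ ∀ x : F, x ^ q = x → ∃ a, ι a = x := by
  classical
  obtain ⟨p, k, hp, hk, hchar, hq⟩ := Unitary.exists_prime_pow hF
  haveI : Fact p.Prime := ⟨hp⟩
  haveI := hchar
  let K : Subfield F := RingHom.eqLocusField (Unitary.conjHom hF) (RingHom.id F)
  haveI : Fintype K := Fintype.ofFinite _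
  have hK : Fintype.card K = q := by
    rw [← Nat.card_eq_fintype_card, ← Unitary.card_fixed hF]
    exact Nat.card_congr (Equiv.subtypeEquivRight fun x => Iff.rfl)
  haveI : Fintype (GaloisField p k) := Fintype.ofFinite _
  have hG : Fintype.card (GaloisField p k) = Fintype.card K := by
    rw [hK, ← Nat.card_eq_fintype_card, GaloisField.card p k hk.ne', hq]
  let e := FiniteField.ringEquivOfCardEq hG
  refine ⟨GaloisField p k, inferInstance, inferInstance, K.subtype.comp e.toRingHom,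
    hG.trans hK, fun a => (e a).2, fun x hx => ⟨e.symm ⟨x, hx⟩, ?_⟩⟩
  simp

omit hF in
theorem fixed_div {c c0 : F} (hc : c + c ^ q = 0) (hc0 : c0 + c0 ^ q = 0) :
    (c / c0) ^ q = c / c0 := by
  rw [div_pow, eq_neg_of_add_eq_zero_right hc, eq_neg_of_add_eq_zero_right hc0, neg_div_neg_eq]

theorem sl2Pairs_SU {L : Type} [Field L] (ι : L →+* F) (hι : ∀ a, ι a ^ q = ι a)
    (hι' : ∀ x : F, x ^ q = x → ∃ a, ι a = x) {p p' : Fin n → F} (hp : p ≠ 0) (hp' : p' ≠ 0)
    (hp0 : herm q p p = 0) (hp0' : herm q p' p' = 0) (h : herm q p p' ≠ 0) :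
    ∃ φ : Matrix.SpecialLinearGroup (Fin 2) L →* SU n F q, Function.Injective φ ∧
      (upperUnipotentSL2 L).map φ = Tsu p ∧ (lowerUnipotentSL2 L).map φ = Tsu p' := by
  classical
  obtain ⟨c0, hc00, hc0⟩ := Unitary.exists_trace_zero_ne_zero hF
  set a := herm q p p' with ha
  set s := (a ^ q)⁻¹ with hs
  have hsq : s ^ q = a⁻¹ := by rw [hs, inv_pow, Unitary.pow_q_pow_q hF]
  set r0 := s • p' with hr0
  have hpr : herm q p r0 = 1 := by
    rw [hr0, Unitary.herm_smul_right hF, hsq, ← ha, inv_mul_cancel₀ h]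
  have hrp : herm q r0 p = 1 := by rw [Unitary.herm_swap hF p r0, hpr, one_pow]
  have hr00 : herm q r0 r0 = 0 := by
    rw [hr0, Unitary.herm_smul_left, Unitary.herm_smul_right hF, hp0', mul_zero, mul_zero]
  have hc0' : ∀ b : L, ι b * c0 + (ι b * c0) ^ q = 0 := fun b => by
    rw [mul_pow, hι]; linear_combination ι b * hc0
  have hc0i : ∀ b : L, ι b * c0⁻¹ + (ι b * c0⁻¹) ^ q = 0 := fun b => by
    rw [mul_pow, hι, inv_pow, eq_neg_of_add_eq_zero_right hc0, inv_neg]; ring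
  let α : (Fin n → F) →ₗ[F] F :=
    { toFun := fun x => herm q x r0
      map_add' := fun x y => Unitary.herm_add_left x y r0
      map_smul' := fun c x => by simp [Unitary.herm_smul_left] }
  let β : (Fin n → F) →ₗ[F] F :=
    { toFun := fun x => c0 * herm q x p
      map_add' := fun x y => by simp [Unitary.herm_add_left, mul_add]
      map_smul' := fun c x => by simp [Unitary.herm_smul_left]; ring }
  obtain ⟨φ, hφ, hu, hv⟩ := exists_sl2_hom (G := SU n F q) ι
    (fun g g' e => Unitary.eq_of_smul_eq_SU e) p (c0⁻¹ • r0) α β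
    (by simp [α, hpr]) (by simp [α, Unitary.herm_smul_left, hr00]) (by simp [β, hp0])
    (by simp [β, Unitary.herm_smul_left, hrp, hc00])
    (fun b => ⟨Unitary.tv hF hp0 (hc0' b), fun x => by
      rw [Unitary.tv_smul]; simp [β, mul_assoc]⟩)
    (fun c => ⟨Unitary.tv hF hr00 (hc0i c), fun x => by
      rw [Unitary.tv_smul]; simp only [α, hr0, LinearMap.coe_mk, AddHom.coe_mk, smul_smul]; congr 2; ring⟩)
  refine ⟨φ, hφ, map_eq_closure φ SL2.u _ (fun g => SL2.mem_upper) fun g => ?_,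
    map_eq_closure φ SL2.v _ (fun g => SL2.mem_lower) fun g => ?_⟩
  · refine (mem_gen_iff_SU hF hp hp0 g).trans ?_
    have hub : ∀ b, φ (SL2.u b) = Unitary.tv hF hp0 (hc0' b) := fun b =>
      Unitary.eq_of_smul_eq_SU fun x => by rw [hu, Unitary.tv_smul]; simp [β, mul_assoc]
    simp only [hub]
    constructor
    · rintro ⟨c, hc, rfl⟩
      obtain ⟨b, hb⟩ := hι' (c / c0) (fixed_div hc hc0)
      refine ⟨b, ?_⟩
      congr 1
      rw [hb, div_mul_cancel₀ _ hc00]
    · rintro ⟨b, rfl⟩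
      exact ⟨_, hc0' b, rfl⟩
  · refine (mem_gen_iff_SU hF hp' hp0' g).trans ?_
    have hs0 : s ≠ 0 := inv_ne_zero (pow_ne_zero _ h)
    have hN : ∀ b : L, ι b * (s ^ (q + 1) * c0⁻¹) + (ι b * (s ^ (q + 1) * c0⁻¹)) ^ q = 0 := by
      intro b
      have := hc0i b
      rw [mul_pow, mul_pow (s ^ (q + 1)), Unitary.norm_fixed hF, hι]
      rw [mul_pow, hι] at this
      linear_combination s ^ (q + 1) * this
    have hvb : ∀ b, φ (SL2.v b) = Unitary.tv hF hp0' (hN b) := fun b =>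
      Unitary.eq_of_smul_eq_SU fun x => by
        rw [hv, Unitary.tv_smul, hr0, smul_smul, smul_smul]
        congr 2
        simp [α, hr0, Unitary.herm_smul_right hF, pow_succ]
        ring
    simp only [hvb]
    constructor
    · rintro ⟨c, hc, rfl⟩
      obtain ⟨b, hb⟩ := hι' (c / (s ^ (q + 1) * c0⁻¹)) (fixed_div hc (by
        have := hN 1
        simpa using this))
      refine ⟨b, ?_⟩
      congr 1
      rw [hb, div_mul_cancel₀]
      exact mul_ne_zero (pow_ne_zero _ hs0) (inv_ne_zero hc00)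
    · rintro ⟨b, rfl⟩
      exact ⟨_, hN b, rfl⟩

theorem rootClass_SU (N : ℕ) (hn : n = N + 2) :
    ∃ (L : Type) (_ : Field L) (_ : Fintype L), Fintype.card L = q ∧
    let S := {A : Subgroup (SU n F q) | ∃ p : Fin n → F, p ≠ 0 ∧ hermForm n F q p p = 0 ∧ A = Tsu p}
    let S' := (fun A : Subgroup (SU n F q) => A.subgroupOf (⨆ B ∈ S, B)) '' S
    IsRootSubgroupClass S' ∧ IsDegenerateRootSet S' ∧ IsKRootSubgroupSet L S' ∧
      IsConnectedFamily (FAdj S') S' := by
  classical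
  obtain ⟨L, i1, i2, ι, hL, hι, hι'⟩ := exists_subfield hF
  refine ⟨L, i1, i2, hL, ?_⟩
  intro S
  have hpairs : ∀ p p' : Fin n → F, p ≠ 0 → p' ≠ 0 → herm q p p = 0 → herm q p' p' = 0 →
      (⁅(Tsu p : Subgroup (SU n F q)), (Tsu p' : Subgroup (SU n F q))⁆ = ⊥ ↔ herm q p p' = 0) := by
    intro p p' hp hp' hp0 hp0'
    constructor
    · intro hb
      by_contra h
      obtain ⟨φ, hφ, hu, hv⟩ := sl2Pairs_SU hF ι hι hι' hp hp' hp0 hp0' h
      rw [← hu, ← hv] at hb
      exact not_commute_of_hom φ hφ hb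
    · intro h
      have h' : herm q p' p = 0 := (Unitary.herm_eq_zero_comm hF).1 h
      refine commutator_eq_bot_of_commute fun x hx y hy => ?_
      obtain ⟨c, hc, rfl⟩ := (mem_Tsu_iff hF hp hp0 x).1 hx
      obtain ⟨d, hd, rfl⟩ := (mem_Tsu_iff hF hp' hp0' y).1 hy
      refine Unitary.eq_of_smul_eq_SU fun z => ?_
      simp only [mul_smul, Unitary.tv_smul, Unitary.herm_add_left, Unitary.herm_smul_left, h, h',
        mul_zero, add_zero]
      abel
  obtain ⟨u0, v0, -, -, hu0, hv0, huv0⟩ := Unitary.exists_std_pair hF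
    (show (⟨0, by omega⟩ : Fin n) ≠ ⟨1, by omega⟩ by simp)
  refine rootClass_generated ⟨_, u0, Unitary.ne_zero_of_herm_one hF huv0, hu0, rfl⟩ ?_ ?_ ?_ ?_ ?_
  · rintro _ ⟨p, hp, hp0, rfl⟩
    refine isMulCommutative_of_forall fun a ha b hb => ?_
    obtain ⟨c, hc, rfl⟩ := (mem_Tsu_iff hF hp hp0 a).1 ha
    obtain ⟨d, hd, rfl⟩ := (mem_Tsu_iff hF hp hp0 b).1 hb
    refine Unitary.eq_of_smul_eq_SU fun z => ?_
    simp only [mul_smul, Unitary.tv_smul, Unitary.herm_add_left, Unitary.herm_smul_left,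
      show herm q p p = 0 from hp0]
    module
  · rintro _ ⟨p, hp, hp0, rfl⟩ e
    obtain ⟨v, -, hv, hpv⟩ :=
      Unitary.exists_partner hF (S := ∅) (u := p) (by simp [Unitary.supp_empty]) hp0 hp
    obtain ⟨φ, hφ, hu, -⟩ := sl2Pairs_SU hF ι hι hι' hp (fun e => by simp [e, Unitary.herm_zero_right hF] at hpv)
      hp0 hv (by rw [hpv]; exact one_ne_zero)
    have h1 : φ (SL2.u 1) ∈ (Tsu p : Subgroup (SU n F q)) := by
      rw [← hu]; exact Subgroup.mem_map_of_mem φ (SL2.mem_upper.2 ⟨1, rfl⟩)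
    rw [e, Subgroup.mem_bot, ← map_one φ] at h1
    exact one_ne_zero (SL2.u_eq_one.1 (hφ h1))
  · rintro _ ⟨p, hp, hp0, rfl⟩ g
    exact ⟨g • p, fun e => hp (by rwa [smul_eq_zero_iff_eq] at e),
      (Unitary.herm_smul_SU g p p).trans hp0, conjBy_Tsu hF g hp hp0⟩
  · rintro _ ⟨p, hp, hp0, rfl⟩ _ ⟨p', hp', hp0', rfl⟩
    by_cases h : herm q p p' = 0
    · exact Or.inl ((hpairs p p' hp hp' hp0 hp0').2 h)
    · exact Or.inr (sl2Pairs_SU hF ι hι hι' hp hp' hp0 hp0' h)
  · rintro _ ⟨p, hp, hp0, rfl⟩ _ ⟨p', hp', hp0', rfl⟩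
    refine Or.inr ?_
    by_cases h : herm q p p' = 0
    · obtain ⟨z, hz, hz0, hpz, hzp'⟩ := Unitary.exists_nonorth hF hp0 hp0' hp hp' h
      exact Or.inr ⟨_, ⟨z, hz, hz0, rfl⟩, mt (hpairs p z hp hz hp0 hz0).1 hpz,
        mt (hpairs z p' hz hp' hz0 hp0').1 hzp'⟩
    · exact Or.inl (mt (hpairs p p' hp hp' hp0 hp0').1 h)

end Cfsg.Agent.RootClass10
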