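import Cfsg.Agent.Classical10.RootClassGeneric
import Cfsg.Agent.Lib.Symplectic.Basic

/-!
Symplectic transvection subgroups as a class of abstract root subgroups (helper10).
-/

set_option autoImplicit false

namespace Cfsg.Agent.RootClass10

open Cfsg Cfsg.Agent.RootSubgroups Matrix

variable {F : Type*} [Field F] {m : ℕ}

/-- The transvection subgroup with centre `p`. -/
def Tsp (p : Symplectic.Vec m F) : Subgroup (Symplectic.Sp m F) :=
  Subgroup.closure {g | ∃ c : F, ∀ v : Symplectic.Vec m F,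
    (g : Matrix (Fin m ⊕ Fin m) (Fin m ⊕ Fin m) F) *ᵥ v =
      v + (c * (v ⬝ᵥ (Matrix.J (Fin m) F *ᵥ p))) • p}

theorem mem_gen_iff (p : Symplectic.Vec m F) (g : Symplectic.Sp m F) :
    (∃ c : F, ∀ v : Symplectic.Vec m F, (g : Matrix (Fin m ⊕ Fin m) (Fin m ⊕ Fin m) F) *ᵥ v =
      v + (c * (v ⬝ᵥ (Matrix.J (Fin m) F *ᵥ p))) • p) ↔ ∃ c : F, g = Symplectic.tv p c := by
  constructor
  · rintro ⟨c, hc⟩
    refine ⟨c, Symplectic.eq_of_smul_eq fun v => ?_⟩
    rw [Symplectic.tv_smul, Symplectic.smul_eq]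
    exact hc v
  · rintro ⟨c, rfl⟩
    exact ⟨c, fun v => Symplectic.sympTransvection_mulVec p c v⟩

theorem mem_Tsp_iff (p : Symplectic.Vec m F) (g : Symplectic.Sp m F) :
    g ∈ Tsp p ↔ ∃ c : F, g = Symplectic.tv p c := by
  refine ⟨fun hg => ?_, fun ⟨c, hc⟩ => Subgroup.subset_closure ((mem_gen_iff p g).2 ⟨c, hc⟩)⟩
  unfold Tsp at hg
  induction hg using Subgroup.closure_induction with
  | mem y hy => exact (mem_gen_iff p y).1 hy
  | one => exact ⟨0, (Symplectic.tv_zero p).symm⟩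
  | mul y z _ _ hy hz =>
    obtain ⟨a, rfl⟩ := hy; obtain ⟨b, rfl⟩ := hz; exact ⟨a + b, Symplectic.tv_mul_tv p a b⟩
  | inv y _ hy => obtain ⟨a, rfl⟩ := hy; exact ⟨-a, Symplectic.tv_inv p a⟩

theorem conjBy_Tsp (g : Symplectic.Sp m F) (p : Symplectic.Vec m F) :
    conjBy (Tsp p) g = Tsp (g • p) := by
  ext x
  rw [mem_conjBy, mem_Tsp_iff, mem_Tsp_iff]
  refine exists_congr fun c => ?_
  rw [← Symplectic.conj_tv g p c]
  constructor
  · intro h; rw [← h]; group
  · intro h; rw [h]; group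

theorem sl2Pairs_Sp {p p' : Symplectic.Vec m F} (h : sympForm m F p' p ≠ 0) :
    ∃ φ : Matrix.SpecialLinearGroup (Fin 2) F →* Symplectic.Sp m F, Function.Injective φ ∧
      (upperUnipotentSL2 F).map φ = Tsp p ∧ (lowerUnipotentSL2 F).map φ = Tsp p' := by
  classical
  set a := sympForm m F p' p
  set r := a⁻¹ • p' with hr
  have hrp : sympForm m F r p = 1 := by
    rw [hr, Symplectic.sympForm_smul_left, inv_mul_cancel₀ h]
  have hpr : sympForm m F p r = -1 := by rw [Symplectic.sympForm_swap, hrp]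
  let α : Symplectic.Vec m F →ₗ[F] F :=
    { toFun := fun x => -sympForm m F x r
      map_add' := fun x y => by simp [Symplectic.sympForm_add_left]; ring
      map_smul' := fun c x => by simp [Symplectic.sympForm_smul_left] }
  let β : Symplectic.Vec m F →ₗ[F] F :=
    { toFun := fun x => sympForm m F x p
      map_add' := fun x y => Symplectic.sympForm_add_left x y p
      map_smul' := fun c x => by simp [Symplectic.sympForm_smul_left] }
  obtain ⟨φ, hφ, hu, hv⟩ := exists_sl2_hom (RingHom.id F)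
    (fun g g' e => Symplectic.eq_of_smul_eq e) p r α β
    (by simp [α, hpr]) (by simp [α, Symplectic.sympForm_self]) (by simp [β, Symplectic.sympForm_self])
    (by simp [β, hrp])
    (fun b => ⟨Symplectic.tv p b, fun x => by rw [Symplectic.tv_smul]; rfl⟩)
    (fun c => ⟨Symplectic.tv r (-c), fun x => by
      rw [Symplectic.tv_smul]
      simp [α]⟩)
  refine ⟨φ, hφ, map_eq_closure φ SL2.u _ (fun g => SL2.mem_upper) fun g => ?_,
    map_eq_closure φ SL2.v _ (fun g => SL2.mem_lower) fun g => ?_⟩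
  · refine (mem_gen_iff p g).trans (exists_congr fun c => ?_)
    rw [show φ (SL2.u c) = Symplectic.tv p c from
      Symplectic.eq_of_smul_eq fun x => by rw [hu, Symplectic.tv_smul]; rfl]
  · refine (mem_gen_iff p' g).trans ?_
    have hvr : ∀ c, φ (SL2.v c) = Symplectic.tv p' (a⁻¹ ^ 2 * -c) := fun c => by
      rw [← Symplectic.tv_smul_vec, ← hr]
      exact Symplectic.eq_of_smul_eq fun x => by
        rw [hv, Symplectic.tv_smul]; simp [α]
    simp only [hvr]
    constructor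
    · rintro ⟨c, rfl⟩
      refine ⟨-(a ^ 2 * c), ?_⟩
      congr 1
      field_simp
    · rintro ⟨c, rfl⟩
      exact ⟨_, rfl⟩

theorem commutator_Tsp_ne_bot_iff {p p' : Symplectic.Vec m F} :
    ⁅Tsp p, Tsp p'⁆ ≠ ⊥ ↔ sympForm m F p' p ≠ 0 := by
  constructor
  · intro h hf
    refine h (commutator_eq_bot_of_commute fun x hx y hy => ?_)
    obtain ⟨c, rfl⟩ := (mem_Tsp_iff p x).1 hx
    obtain ⟨d, rfl⟩ := (mem_Tsp_iff p' y).1 hy
    have := Symplectic.conj_tv (Symplectic.tv p c) p' d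
    rw [Symplectic.tv_smul_of_orth c hf, mul_inv_eq_iff_eq_mul] at this
    exact this
  · intro hf
    obtain ⟨φ, hφ, hu, hv⟩ := sl2Pairs_Sp hf
    rw [← hu, ← hv]
    exact not_commute_of_hom φ hφ

theorem rootClass_Sp (F : Type*) [Field F] (m : ℕ) :
    let S := {A : Subgroup (Symplectic.Sp (m + 1) F) | ∃ p : Symplectic.Vec (m + 1) F,
      p ≠ 0 ∧ A = Tsp p}
    IsRootSubgroupClass S ∧ IsDegenerateRootSet S ∧ IsKRootSubgroupSet F S ∧
      IsConnectedFamily (FAdj S) S := by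
  classical
  intro S
  have hne0 : ∀ p : Symplectic.Vec (m + 1) F, p ≠ 0 → ∃ r, sympForm (m + 1) F r p ≠ 0 := by
    intro p hp
    obtain ⟨r, -, hr⟩ := Symplectic.exists_form_ne_zero (S := ∅) (u := p)
      (by simp [Symplectic.supp_empty]) hp
    exact ⟨r, fun e => hr (by rw [Symplectic.sympForm_swap, e, neg_zero])⟩
  refine rootClass ⟨_, Symplectic.eI 0, Symplectic.eI_ne_zero 0, rfl⟩ ?_ ?_ ?_ ?_ ?_ ?_
  · rintro _ ⟨p, -, rfl⟩
    refine isMulCommutative_of_forall fun a ha b hb => ?_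
    obtain ⟨c, rfl⟩ := (mem_Tsp_iff p a).1 ha
    obtain ⟨d, rfl⟩ := (mem_Tsp_iff p b).1 hb
    rw [Symplectic.tv_mul_tv, Symplectic.tv_mul_tv, add_comm c d]
  · rintro _ ⟨p, hp, rfl⟩ e
    obtain ⟨r, hr⟩ := hne0 p hp
    obtain ⟨φ, hφ, hu, -⟩ := sl2Pairs_Sp hr
    have h1 : φ (SL2.u 1) ∈ Tsp p := by
      rw [← hu]; exact Subgroup.mem_map_of_mem φ (SL2.mem_upper.2 ⟨1, rfl⟩)
    rw [e, Subgroup.mem_bot, ← map_one φ] at h1
    exact one_ne_zero (SL2.u_eq_one.1 (hφ h1))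
  · rw [eq_top_iff, ← Symplectic.closure_transvections, Subgroup.closure_le]
    rintro g ⟨w, c, hg⟩
    obtain rfl : g = Symplectic.tv w c := Subtype.ext hg
    by_cases hw : w = 0
    · rw [show Symplectic.tv w c = 1 from
        Symplectic.eq_of_smul_eq fun x => by simp [Symplectic.tv_smul, hw]]
      exact one_mem _
    · have hle : Tsp w ≤ ⨆ A ∈ S, A := le_biSup (f := fun B : Subgroup _ => B) (show Tsp w ∈ S from ⟨w, hw, rfl⟩)
      exact hle ((mem_Tsp_iff w _).2 ⟨c, rfl⟩)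
  · rintro _ ⟨p, hp, rfl⟩ g
    exact ⟨g • p, Symplectic.smul_ne_zero_of_ne_zero g hp, conjBy_Tsp g p⟩
  · rintro _ ⟨p, hp, rfl⟩ _ ⟨p', hp', rfl⟩
    by_cases h : ⁅Tsp p, Tsp p'⁆ = ⊥
    · exact Or.inl h
    · exact Or.inr (sl2Pairs_Sp (commutator_Tsp_ne_bot_iff.1 h))
  · rintro _ ⟨p, hp, rfl⟩ _ ⟨p', hp', rfl⟩
    refine Or.inr ?_
    by_cases h : sympForm (m + 1) F p' p = 0
    swap
    · exact Or.inl (commutator_Tsp_ne_bot_iff.2 h)
    obtain ⟨r, hr1, hr2⟩ : ∃ r, sympForm (m + 1) F r p ≠ 0 ∧ sympForm (m + 1) F p' r ≠ 0 := by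
      obtain ⟨r1, h1⟩ := hne0 p hp
      obtain ⟨r2, h2⟩ := hne0 p' hp'
      rw [Symplectic.sympForm_swap, neg_ne_zero] at h2
      by_cases e1 : sympForm (m + 1) F p' r1 = 0
      · by_cases e2 : sympForm (m + 1) F r2 p = 0
        · exact ⟨r1 + r2, by simpa [Symplectic.sympForm_add_left, e2] using h1,
            by simpa [Symplectic.sympForm_add_right, e1] using h2⟩
        · exact ⟨r2, e2, h2⟩
      · exact ⟨r1, h1, e1⟩
    refine Or.inr ⟨_, ⟨r, fun e => hr1 (by simp [e, sympForm]), rfl⟩,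
      commutator_Tsp_ne_bot_iff.2 hr1, commutator_Tsp_ne_bot_iff.2 hr2⟩

end Cfsg.Agent.RootClass10
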