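import Cfsg.Agent.Classical10.SUParabolic

/-!
Conjugacy of involutions in `SU_n(q)`, `q` even (helper10).
-/

set_option autoImplicit false

namespace Cfsg.Agent.Classical10

open Cfsg.Agent.Unitary Matrix
open Module (finrank)

variable {F : Type*} [Field F] [Fintype F] {q : ℕ} (hF : Fintype.card F = q ^ 2)

include hF

theorem even_of_charTwo [CharP F 2] : Even q := by
  have h := FiniteField.even_card_iff_char_two.1 (ringChar.eq F 2)
  rw [hF, ← Nat.even_iff, Nat.even_pow] at h
  exact h.1

/-- Normal form of a square zero self-adjoint map. -/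
theorem exists_hyperbolic_family {n l : ℕ} (N : (Fin n → F) →ₗ[F] (Fin n → F))
    (hsa : ∀ x y, herm q (N x) y = herm q x (N y)) (hNN : ∀ x, N (N x) = 0)
    (hl : finrank F (LinearMap.range N) = l) :
    ∃ w : Fin l → Fin n → F, (∀ i j, herm q (w i) (w j) = 0) ∧
      (∀ i j, herm q (N (w i)) (w j) = if i = j then 1 else 0) ∧
      ∀ u, (∀ i, herm q u (N (w i)) = 0) → N u = 0 := by
  classical
  obtain ⟨W, hW⟩ := Submodule.exists_isCompl (LinearMap.ker N)
  have hdec : ∀ y, ∃ v ∈ W, N y = N v := fun y => by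
    have : y ∈ LinearMap.ker N ⊔ W := by rw [hW.sup_eq_top]; trivial
    obtain ⟨k, hk, v, hv, rfl⟩ := Submodule.mem_sup.1 this
    exact ⟨v, hv, by rw [map_add, LinearMap.mem_ker.1 hk, zero_add]⟩
  let B : (Fin n → F) →ₛₗ[conjHom hF] (Fin n → F) →ₗ[F] F :=
    LinearMap.mk₂'ₛₗ (conjHom hF) (RingHom.id F) (fun x y => herm q (N y) x)
      (fun x x' y => herm_add_right hF _ x x') (fun a x y => herm_smul_right hF a _ x)
      (fun x y y' => by rw [map_add, herm_add_left])
      (fun a x y => by rw [map_smul, herm_smul_left]; rfl)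
  have hB : ∀ x y, B x y = herm q (N y) x := fun x y => rfl
  have hnd : ∀ w ∈ W, (∀ v ∈ W, B w v = 0) → w = 0 := by
    intro w hw h
    have h0 : N w = 0 := eq_zero_of_herm hF fun y => by
      obtain ⟨v, hv, e⟩ := hdec y
      rw [hsa, herm_eq_zero_comm hF, e]
      exact h v hv
    exact Submodule.disjoint_def.1 hW.disjoint w (LinearMap.mem_ker.2 h0) hw
  have hWd : finrank F W = l := by
    have h1 := Submodule.finrank_add_eq_of_isCompl hW
    have h2 := LinearMap.finrank_range_add_finrank_ker N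
    omega
  obtain ⟨b, hbW, hb⟩ := Forms.exists_orthonormal_family (σ := conjHom hF) (conjHom_ne_id hF)
    (pow_q_pow_q hF) B ⟨fun x y => by
      rw [hB, hB, conjHom_apply, ← herm_swap hF, ← hsa]⟩ l W hnd hWd
  have hb' : ∀ i j, herm q (N (b i)) (b j) = if i = j then 1 else 0 := fun i j => by
    rw [← hB, hb]; simp only [eq_comm]
  have hli : LinearIndependent F fun i => N (b i) := by
    rw [Fintype.linearIndependent_iff]
    intro c hc i
    have := congrArg (fun z => herm q z (b i)) hc
    simpa [herm_sum_left, herm_smul_left, hb'] using this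
  have hspan : Submodule.span F (Set.range fun i => N (b i)) = LinearMap.range N := by
    refine Submodule.eq_of_le_of_finrank_eq (Submodule.span_le.2 ?_) ?_
    · rintro _ ⟨i, rfl⟩; exact ⟨_, rfl⟩
    · rw [finrank_span_eq_card hli, Fintype.card_fin, hl]
  choose t ht using fun i => exists_trace_eq hF (t := -herm q (b i) (b i))
    (by rw [neg_pow_q hF, herm_self_fixed hF])
  let c : Fin l → Fin l → F := fun i j =>
    if i < j then -herm q (b i) (b j) else if i = j then t i else 0
  have hc : ∀ i j, c i j + c j i ^ q = -herm q (b i) (b j) := by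
    intro i j
    rcases lt_trichotomy i j with h | h | h
    · simp [c, h, h.asymm, h.ne', zero_pow_q hF]
    · subst h; simp [c, ht]
    · simp [c, h, h.asymm, h.ne', neg_pow_q hF, ← herm_swap hF]
  let w : Fin l → Fin n → F := fun i => b i + ∑ j, c i j • N (b j)
  have hNw : ∀ i, N (w i) = N (b i) := fun i => by simp [w, hNN]
  have hNb : ∀ i j, herm q (N (b i)) (w j) = if i = j then 1 else 0 := fun i j => by
    rw [herm_swap hF]
    simp [w, herm_add_left, herm_sum_left, herm_smul_left, hsa, hNN, herm_zero_right hF]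
    rw [← hsa, hb', ite_pow, one_pow, zero_pow_q hF]
    simp only [eq_comm]
  refine ⟨w, fun i j => ?_, fun i j => by rw [hNw, hNb], fun u hu => ?_⟩
  · have e : herm q (b i) (w j) = herm q (b i) (b j) + c j i ^ q := by
      rw [herm_swap hF (w j) (b i)]
      simp [w, herm_add_left, herm_sum_left, herm_smul_left, hb', add_pow_q hF, ← herm_swap hF]
    show herm q (b i + ∑ k, c i k • N (b k)) (w j) = 0
    rw [herm_add_left, e, herm_sum_left]
    simp only [herm_smul_left, hNb, mul_ite, mul_one, mul_zero, Finset.sum_ite_eq', Finset.mem_univ,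
      if_true]
    linear_combination hc i j
  · refine eq_zero_of_herm hF fun y => ?_
    rw [hsa]
    have hy : N y ∈ Submodule.span F (Set.range fun i => N (b i)) := by rw [hspan]; exact ⟨y, rfl⟩
    obtain ⟨d, hd⟩ := (Submodule.mem_span_range_iff_exists_fun F).1 hy
    rw [← hd, ← hermB_apply hF, map_sum, LinearMap.sum_apply]
    exact Finset.sum_eq_zero fun i _ => by
      rw [map_smulₛₗ, LinearMap.smul_apply, hermB_apply, ← hNw, hu, smul_zero]

theorem involution_conj_of_rank [CharP F 2] {n : ℕ} (a b : SU n F q) (ha : a * a = 1) (hb : b * b = 1)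
    (ha1 : a ≠ 1)
    (h : (((a : Matrix.SpecialLinearGroup (Fin n) F) : Matrix (Fin n) (Fin n) F) - 1).rank =
      (((b : Matrix.SpecialLinearGroup (Fin n) F) : Matrix (Fin n) (Fin n) F) - 1).rank) :
    IsConj a b := by
  classical
  have h2 : (2 : F) = 0 := CharTwo.two_eq_zero
  let Nf : SU n F q → ((Fin n → F) →ₗ[F] (Fin n → F)) := fun x =>
    Matrix.mulVecLin (((x : Matrix.SpecialLinearGroup (Fin n) F) : Matrix (Fin n) (Fin n) F) - 1)
  have hN : ∀ (x : SU n F q) (z : Fin n → F), Nf x z = x • z - z := fun x z => by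
    simp only [Nf, Matrix.mulVecLin_apply, Matrix.sub_mulVec, Matrix.one_mulVec]; rfl
  have hNN : ∀ (x : SU n F q), x * x = 1 → ∀ z, Nf x (Nf x z) = 0 := fun x hx z => by
    rw [hN, hN, smul_sub, ← mul_smul, hx, one_smul,
      show z - x • z - (x • z - z) = (2 : F) • (z - x • z) by rw [two_smul]; abel, h2, zero_smul]
  have hsa : ∀ (x : SU n F q), x * x = 1 → ∀ y z, herm q (Nf x y) z = herm q y (Nf x z) :=
    fun x hx y z => by
      rw [hN, hN, herm_sub_left, herm_sub_right hF]
      congr 1
      conv_lhs => rw [← herm_smul_SU x, ← mul_smul, hx, one_smul]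
  obtain ⟨l, hl⟩ : ∃ l, finrank F (LinearMap.range (Nf a)) = l := ⟨_, rfl⟩
  have hl0 : 0 < l := by
    rw [← hl, Nat.pos_iff_ne_zero, Ne, Submodule.finrank_eq_zero, LinearMap.range_eq_bot]
    intro h0
    refine ha1 (eq_of_smul_eq_SU fun z => ?_)
    have := LinearMap.congr_fun h0 z
    rw [hN, LinearMap.zero_apply, sub_eq_zero] at this
    rw [this, one_smul]
  obtain ⟨w, hw0, hw1, hwk⟩ := exists_hyperbolic_family hF (Nf a) (hsa a ha) (hNN a ha) hl
  obtain ⟨v, hv0, hv1, hvk⟩ := exists_hyperbolic_family hF (Nf b) (hsa b hb) (hNN b hb)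
    (l := l) (by rw [← hl]; exact h.symm)
  have hgram : ∀ (x : SU n F q), x * x = 1 → ∀ (z : Fin l → Fin n → F),
      (∀ i j, herm q (z i) (z j) = 0) →
      (∀ i j, herm q (Nf x (z i)) (z j) = if i = j then 1 else 0) →
      (∀ i j, herm q (z i) (Nf x (z j)) = if i = j then 1 else 0) ∧
      (∀ i j, herm q (Nf x (z i)) (Nf x (z j)) = 0) ∧
      LinearIndependent F (Sum.elim z fun i => Nf x (z i)) := by
    intro x hx z h0 h1
    have e1 : ∀ i j, herm q (z i) (Nf x (z j)) = if i = j then 1 else 0 := fun i j => by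
      rw [← hsa x hx, h1]
    have e2 : ∀ i j, herm q (Nf x (z i)) (Nf x (z j)) = 0 := fun i j => by
      rw [hsa x hx, hNN x hx, herm_zero_right hF]
    refine ⟨e1, e2, Fintype.linearIndependent_iff.2 fun c hc i => ?_⟩
    simp only [Fintype.sum_sum_type, Sum.elim_inl, Sum.elim_inr] at hc
    cases i with
    | inl i =>
      have := congrArg (fun y => herm q y (Nf x (z i))) hc
      simpa [herm_add_left, herm_sum_left, herm_smul_left, e1, e2, herm_zero_left] using this
    | inr i =>
      have := congrArg (fun y => herm q y (z i)) hc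
      simpa [herm_add_left, herm_sum_left, herm_smul_left, h0, h1, herm_zero_left] using this
  obtain ⟨wa, wN, wli⟩ := hgram a ha w hw0 hw1
  obtain ⟨va, vN, vli⟩ := hgram b hb v hv0 hv1
  obtain ⟨g, hg⟩ := exists_smul_gram hF _ _ wli vli (by
    rintro (i | i) (j | j) <;> simp [hw0, hv0, hw1, hv1, wa, va, wN, vN])
  have hgN : ∀ z, Nf b (g • z) = g • Nf a z := by
    intro z
    have hp : ∀ i, herm q (z - ∑ j, herm q z (Nf a (w j)) • w j) (Nf a (w i)) = 0 := fun i => by
      simp [herm_sub_left, herm_sum_left, herm_smul_left, wa]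
    have k1 := hwk _ hp
    have k2 : Nf b (g • (z - ∑ j, herm q z (Nf a (w j)) • w j)) = 0 := hvk _ fun i => by
      rw [← show g • Nf a (w i) = Nf b (v i) from hg (Sum.inr i), herm_smul_GU, hp]
    have hgs : ∀ (x : Fin n → F) (s : Fin l → F) (y : Fin l → Fin n → F),
        g • (x - ∑ j, s j • y j) = g • x - ∑ j, s j • g • y j := fun x s y => by
      rw [smul_sub, Finset.smul_sum]; simp only [smul_comm g]
    rw [hgs, map_sub, sub_eq_zero, map_sum] at k2
    rw [map_sub, sub_eq_zero, map_sum] at k1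
    rw [k2, k1, Finset.smul_sum]
    refine Finset.sum_congr rfl fun j _ => ?_
    rw [(Nf b).map_smul, (Nf a).map_smul, smul_comm g]
    congr 1
    rw [show g • w j = v j from hg (Sum.inl j)]
    exact (hg (Sum.inr j)).symm
  -- correct the determinant inside the centraliser of `a`
  obtain ⟨s, hs⟩ := even_of_charTwo hF
  set d : F := (detGU g : F) with hd
  have hdn : d ^ (q + 1) = 1 := det_norm hF g
  have hd0 : d ≠ 0 := by
    intro e; rw [e, zero_pow (Nat.succ_ne_zero q)] at hdn; exact zero_ne_one hdn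
  set α : F := (d⁻¹) ^ (s + 1) with hα
  have hαn : α ^ (q + 1) = 1 := by
    rw [hα, ← pow_mul, mul_comm, pow_mul, inv_pow, hdn, inv_one, one_pow]
  have hα0 : α ≠ 0 := pow_ne_zero _ (inv_ne_zero hd0)
  have hαq : (α ^ q)⁻¹ = α := inv_eq_of_mul_eq_one_right (by rw [← pow_succ]; exact hαn)
  let i0 : Fin l := ⟨0, hl0⟩
  obtain ⟨L, hL, hLd⟩ := exists_pair_scale hF (wN i0 i0) (hw0 i0 i0)
    (by rw [hw1, if_pos rfl]) hα0
  have hLN : ∀ z, L • Nf a z = Nf a (L • z) := fun z => by
    rw [hL, hL, hαq, hsa a ha z (Nf a (w i0)), hNN a ha, herm_zero_right hF, mul_zero, zero_smul,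
      add_zero, map_add, map_add, map_smul, map_smul, hNN a ha, smul_zero, add_zero, hsa a ha]
  have hker : g * L ∈ (detGU : GU n F q →* Fˣ).ker := by
    refine Units.ext ?_
    rw [map_mul, Units.val_mul, hLd, hαq, Units.val_one, ← hd]
    rw [hα, ← pow_add, show s + 1 + (s + 1) = q + 1 + 1 by omega, pow_succ, inv_pow, hdn, inv_one,
      one_mul, mul_inv_cancel₀ hd0]
  rw [← range_toGU] at hker
  obtain ⟨S, hS⟩ := hker
  refine isConj_iff.2 ⟨S, ?_⟩
  rw [mul_inv_eq_iff_eq_mul]
  refine eq_of_smul_eq_SU fun z => sub_left_injective (b := S • z) ?_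
  show (S * a) • z - S • z = (b * S) • z - S • z
  rw [mul_smul, mul_smul, ← smul_sub, ← hN, ← hN, ← toGU_smul, ← toGU_smul, hS, mul_smul, mul_smul,
    hgN, hLN]

end Cfsg.Agent.Classical10
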