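import Cfsg.Agent.Classical10.SUThreeInvol

/-!
Classes and the commuting graph of involutions in `SU_3(q)`, `q` odd (helper10).
-/

set_option autoImplicit false

namespace Cfsg.Agent.Classical10.SUThree

open Cfsg.Agent.Unitary Matrix

variable {F : Type*} [Field F] [Fintype F] {q : ℕ}

theorem card_split {α : Type*} [Finite α] (P R : α → Prop) :
    Nat.card {x // P x} = Nat.card {x // P x ∧ R x} + Nat.card {x // P x ∧ ¬ R x} := by
  classical
  rw [← Nat.card_sum]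
  exact Nat.card_congr ((Equiv.sumCompl fun x : {x // P x} => R x.1).symm.trans
    (Equiv.sumCongr (Equiv.subtypeSubtypeEquivSubtypeInter P R)
      (Equiv.subtypeSubtypeEquivSubtypeInter P fun x => ¬ R x)))

variable (hF : Fintype.card F = q ^ 2)

include hF

theorem card_invol (h2 : (2 : F) ≠ 0) :
    Nat.card {x : SU 3 F q // x ≠ 1 ∧ x * x = 1} = q ^ 2 * (q ^ 2 - q + 1) := by
  have h := card_invol_mul hF h2 (fun _ => True) (fun _ => True) (fun _ _ _ => Iff.rfl)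
  simp only [and_true] at h
  rw [show Nat.card {v : Fin 3 → F // herm q v v = 1} = q ^ 2 * (q ^ 3 + 1) by
    show nvec 3 F q 1 = _
    rw [nvec_one_formula hF 3, if_neg (by decide)]] at h
  refine Nat.eq_of_mul_eq_mul_left (Nat.succ_pos q) (h.symm.trans ?_)
  have : q ≤ q ^ 2 := Nat.le_self_pow (by norm_num) q
  simp only [Nat.succ_eq_add_one]
  zify [this]
  ring

theorem exists_conj (h2 : (2 : F) ≠ 0) {t x : SU 3 F q} (ht : t ≠ 1) (ht2 : t * t = 1) (hx : x ≠ 1)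
    (hx2 : x * x = 1) : ∃ g : SU 3 F q, g * t * g⁻¹ = x := by
  obtain ⟨v, hv⟩ := exists_vec hF h2 ht ht2
  obtain ⟨w, hw⟩ := exists_vec hF h2 hx hx2
  obtain ⟨s, hs⟩ := exists_SU_first hF hv.1
  obtain ⟨r, hr⟩ := exists_SU_first hF hw.1
  refine ⟨r * s⁻¹, eq_of_IsRefl hF ?_ hw⟩
  have := conj_refl hF hv (r * s⁻¹)
  rwa [mul_smul, ← hs, inv_smul_smul, hr] at this

theorem card_centralizer (h2 : (2 : F) ≠ 0) {t : SU 3 F q} (ht : t ≠ 1) (ht2 : t * t = 1) :
    Nat.card (Subgroup.centralizer ({t} : Set (SU 3 F q))) = q * (q + 1) * (q ^ 2 - 1) := by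
  have h := Forms.card_orbit_mul_card_stab (G := ConjAct (SU 3 F q)) t
  rw [show Nat.card (MulAction.orbit (ConjAct (SU 3 F q)) t) =
      Nat.card {x : SU 3 F q // x ≠ 1 ∧ x * x = 1} from
    Nat.card_congr (Equiv.subtypeEquivRight fun x => by
      rw [MulAction.mem_orbit_iff]
      constructor
      · rintro ⟨g, rfl⟩
        rw [ConjAct.smul_def]
        exact ⟨fun e => ht (conj_eq_one_iff.1 e), by rw [conj_mul, ht2, mul_one, mul_inv_cancel]⟩
      · rintro ⟨hx, hx2⟩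
        obtain ⟨g, hg⟩ := exists_conj hF h2 ht ht2 hx hx2
        exact ⟨ConjAct.toConjAct g, by rw [ConjAct.smul_def, ConjAct.ofConjAct_toConjAct, hg]⟩),
    show Nat.card (MulAction.stabilizer (ConjAct (SU 3 F q)) t) =
      Nat.card (Subgroup.centralizer ({t} : Set (SU 3 F q))) from
    Nat.card_congr (Equiv.subtypeEquiv ConjAct.ofConjAct.toEquiv fun g => by
      rw [MulAction.mem_stabilizer_iff, ConjAct.smul_def, mul_inv_eq_iff_eq_mul,
        Subgroup.mem_centralizer_singleton_iff]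
      rfl),
    card_invol hF h2, show Nat.card (ConjAct (SU 3 F q)) = Nat.card (SU 3 F q) from
      Nat.card_congr ConjAct.ofConjAct.toEquiv] at h
  have hS := card_SU_mul hF (n := 3) (by norm_num)
  rw [← h, card_GU hF] at hS
  simp [Finset.prod_range_succ, show ¬ Even 1 from Nat.not_even_one] at hS
  have hq := two_le_q hF
  have e1 : q ≤ q ^ 2 := Nat.le_self_pow (by norm_num) q
  have e2 : 1 ≤ q ^ 2 := Nat.one_le_pow _ _ (by omega)
  refine Nat.eq_of_mul_eq_mul_left (n := (q + 1) * (q ^ 2 * (q ^ 2 - q + 1))) ?_ ?_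
  · have : 0 < q := by omega
    positivity
  zify [e1, e2] at hS ⊢
  linear_combination hS

/-- The coordinates of `w` in a frame. -/
theorem norm_frame (g : GU 3 F q) (w : Fin 3 → F) : herm q w w =
    (herm q w (g • (eI 0 : Fin 3 → F))) ^ (q + 1) + (herm q w (g • (eI 1 : Fin 3 → F))) ^ (q + 1) +
      (herm q w (g • (eI 2 : Fin 3 → F))) ^ (q + 1) := by
  conv_lhs => rw [← smul_inv_smul g w, herm_smul_GU]
  simp only [← coord_GU hF]
  simp [herm, hermForm, Fin.sum_univ_three, pow_succ']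

theorem eq_third (g : GU 3 F q) {u : Fin 3 → F} (h0 : herm q u (g • (eI 0 : Fin 3 → F)) = 0)
    (h1 : herm q u (g • (eI 1 : Fin 3 → F)) = 0) :
    u = herm q u (g • (eI 2 : Fin 3 → F)) • g • (eI 2 : Fin 3 → F) := by
  rw [← coord_GU hF] at h0 h1 ⊢
  conv_lhs => rw [← smul_inv_smul g u]
  rw [← smul_comm g]
  congr 1
  funext i
  fin_cases i <;> simp [h0, h1, eI]

theorem exists_perp {v w : Fin 3 → F} (hv : herm q v v = 1) (hw : herm q w w = 1)
    (hne : herm q w v ^ (q + 1) ≠ 1) :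
    ∃ u, herm q u u = 1 ∧ herm q u v = 0 ∧ herm q u w = 0 := by
  set a := herm q w v with ha
  set w' := w - a • v with hw'
  have hw'v : herm q w' v = 0 := by
    rw [hw', herm_sub_left, herm_smul_left, hv, mul_one, ← ha, sub_self]
  have hvw' : herm q v w' = 0 := (herm_eq_zero_comm hF).1 hw'v
  have hn : herm q w' w' = 1 - a ^ (q + 1) := by
    have e : herm q w' w' = herm q w w' := by
      conv_lhs => rw [hw', herm_sub_left, herm_smul_left, hvw', mul_zero, sub_zero]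
    rw [e, hw', herm_sub_right hF, herm_smul_right hF, hw, ← ha, pow_succ]
  obtain ⟨b, hb⟩ := exists_norm_eq hF (herm_self_fixed hF w')
  have hb0 : b ≠ 0 := by
    rintro rfl
    rw [zero_pow (Nat.succ_ne_zero q), hn] at hb
    exact hne (sub_eq_zero.1 hb.symm).symm
  obtain ⟨g, hg0, hg1⟩ := exists_GU_frame hF (u := b⁻¹ • w') hv
    (by rw [herm_smul_left, herm_smul_right hF, ← hb, inv_pow, ← mul_assoc, ← mul_inv, ← pow_succ',
      inv_mul_cancel₀ (pow_ne_zero _ hb0)])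
    (by rw [herm_smul_left, hw'v, mul_zero])
  have hwe : w = a • v + b • (g • (eI 1 : Fin 3 → F)) := by
    rw [hg1, smul_inv_smul₀ hb0, hw']; abel
  refine ⟨g • (eI 2 : Fin 3 → F), by rw [herm_smul_GU, herm_eI_eI hF, if_pos rfl],
    by rw [← hg0, herm_smul_GU, herm_eI_eI hF, if_neg (by decide)], ?_⟩
  rw [hwe, herm_add_right hF, herm_smul_right hF, herm_smul_right hF, ← hg0, herm_smul_GU,
    herm_smul_GU, herm_eI_eI hF, herm_eI_eI hF, if_neg (by decide), if_neg (by decide)]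
  ring

theorem eq_of_perp {v w u : Fin 3 → F} (hv : herm q v v = 1) (hw : herm q w w = 1)
    (hu : herm q u u = 1) (huv : herm q u v = 0) (huw : herm q u w = 0)
    (ha : herm q w v ^ (q + 1) = 1) : w = herm q w v • v := by
  obtain ⟨g, hg0, hg1⟩ := exists_GU_frame hF hv hu huv
  have hwu : herm q w u = 0 := (herm_eq_zero_comm hF).1 huw
  have h := norm_frame hF g w
  rw [hw, hg0, hg1, ha, hwu, zero_pow (Nat.succ_ne_zero q), add_zero, eq_comm, add_eq_left,
    pow_eq_zero_iff (Nat.succ_ne_zero q), ← coord_GU hF] at h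
  conv_lhs => rw [← smul_inv_smul g w]
  conv_rhs => rw [← hg0, ← smul_comm g, ← coord_GU hF]
  congr 1
  funext i
  fin_cases i
  · simp [eI]
  · show (g⁻¹ • w) 1 = _
    rw [coord_GU hF, hg1, hwu]; simp [eI]
  · simpa [eI] using h

theorem exists_unique_third (h2 : (2 : F) ≠ 0) {t x : SU 3 F q} (ht : t ≠ 1) (ht2 : t * t = 1)
    (hx : x ≠ 1) (hx2 : x * x = 1) (hxt : x ≠ t) (hc : Commute t x) :
    Nat.card {y : SU 3 F q // y ≠ 1 ∧ y * y = 1 ∧ y ≠ t ∧ y ≠ x ∧ Commute t y ∧ Commute x y} = 1 := by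
  obtain ⟨v, hv⟩ := exists_vec hF h2 ht ht2
  obtain ⟨w, hw⟩ := exists_vec hF h2 hx hx2
  have hwv : herm q w v = 0 := ((commute_refl hF h2 hv hw).1 hc).resolve_right (Ne.symm hxt)
  obtain ⟨g, hg0, hg1⟩ := exists_GU_frame hF hv.1 hw.1 hwv
  obtain ⟨y, hy⟩ := exists_refl hF (v := g • (eI 2 : Fin 3 → F))
    (by rw [herm_smul_GU, herm_eI_eI hF, if_pos rfl])
  have h20 : herm q (g • (eI 2 : Fin 3 → F)) v = 0 := by
    rw [← hg0, herm_smul_GU, herm_eI_eI hF, if_neg (by decide)]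
  have h21 : herm q (g • (eI 2 : Fin 3 → F)) w = 0 := by
    rw [← hg1, herm_smul_GU, herm_eI_eI hF, if_neg (by decide)]
  have hne : ∀ {a : SU 3 F q} {z : Fin 3 → F}, IsRefl a z →
      herm q (g • (eI 2 : Fin 3 → F)) z = 0 → y ≠ a := fun ha hz e => by
    obtain ⟨c, hc, ec⟩ := hy.unique hF h2 (e ▸ ha)
    rw [ec, herm_smul_right hF, hy.1, mul_one, pow_q_eq_zero_iff hF] at hz
    simp [hz] at hc
  refine Nat.card_eq_one_iff_exists.2 ⟨⟨y, (hy.invol hF h2).1, (hy.invol hF h2).2, hne hv h20,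
    hne hw h21, (commute_refl hF h2 hv hy).2 (Or.inl h20),
    (commute_refl hF h2 hw hy).2 (Or.inl h21)⟩, ?_⟩
  rintro ⟨z, hz, hz2, hzt, hzx, hzct, hzcx⟩
  obtain ⟨u, hu⟩ := exists_vec hF h2 hz hz2
  have e0 := ((commute_refl hF h2 hv hu).1 hzct).resolve_right (Ne.symm hzt)
  have e1 := ((commute_refl hF h2 hw hu).1 hzcx).resolve_right (Ne.symm hzx)
  have e2 := eq_third hF g (by rw [hg0]; exact e0) (by rw [hg1]; exact e1)
  have hn := hu.1
  rw [e2, herm_smul_left, herm_smul_right hF, hy.1, mul_one, ← pow_succ'] at hn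
  exact Subtype.ext (eq_of_IsRefl hF hu (e2 ▸ hy.smul_scalar hF hn))

theorem card_norm_and_coord_zero {v : Fin 3 → F} (hv : herm q v v = 1) :
    Nat.card {u : Fin 3 → F // herm q u u = 1 ∧ herm q u v = 0} = q * (q ^ 2 - 1) := by
  rw [card_transport hF hv (fun n a => n = 1 ∧ a = 0),
    ← show nvec 2 F q 1 = q * (q ^ 2 - 1) by
      rw [nvec_one_formula hF 2, if_pos (by decide), Nat.add_one_sub_one, pow_one]]
  exact Nat.card_congr
    { toFun := fun p => ⟨p.1.2, by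
        have := p.2.1
        rwa [p.2.2, zero_pow (Nat.succ_ne_zero q), zero_add] at this⟩
      invFun := fun u => ⟨(0, u.1), by rw [zero_pow (Nat.succ_ne_zero q), zero_add]; exact u.2, rfl⟩
      left_inv := fun p => Subtype.ext (Prod.ext p.2.2.symm rfl)
      right_inv := fun u => rfl }

theorem card_norm_and_coord_unit {v : Fin 3 → F} (hv : herm q v v = 1) :
    Nat.card {u : Fin 3 → F // herm q u u = 1 ∧ herm q u v ^ (q + 1) = 1} =
      (q + 1) * ((q + 1) * (q ^ 2 - 1) + 1) := by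
  rw [card_transport hF hv (fun n a => n = 1 ∧ a ^ (q + 1) = 1),
    show (q + 1) * (q ^ 2 - 1) + 1 = nvec 2 F q 0 by
      rw [nvec_zero_formula hF 2, if_pos (by decide), Nat.add_one_sub_one, pow_one, mul_comm],
    show (q + 1) * nvec 2 F q 0 =
        Nat.card ({x : F // x ^ (q + 1) = 1} × {v : Fin 2 → F // herm q v v = 0}) by
      rw [Nat.card_prod, card_norm_eq_one hF]; rfl]
  exact Nat.card_congr
    { toFun := fun p => (⟨p.1.1, p.2.2⟩, ⟨p.1.2, by
        have := p.2.1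
        rwa [p.2.2, add_eq_left] at this⟩)
      invFun := fun s => ⟨(s.1.1, s.2.1), by rw [s.1.2, s.2.2, add_zero], s.1.2⟩
      left_inv := fun p => rfl
      right_inv := fun s => rfl }

theorem graph (hq : Odd q) (t : SU 3 F q) (ht : t ≠ 1) (ht2 : t * t = 1) :
    Nat.card {x : SU 3 F q // x ≠ 1 ∧ x * x = 1 ∧ x ≠ t ∧ Commute t x} = q * (q - 1) ∧
    Nat.card {x : SU 3 F q // x ≠ 1 ∧ x * x = 1 ∧ ¬ Commute t x ∧
        ∃ y : SU 3 F q, y ≠ 1 ∧ y * y = 1 ∧ Commute t y ∧ Commute y x} = q * (q - 2) * (q ^ 2 - 1) ∧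
    Nat.card {x : SU 3 F q // x ≠ 1 ∧ x * x = 1 ∧ ¬ Commute t x ∧
        ∀ y : SU 3 F q, y ≠ 1 → y * y = 1 → ¬ (Commute t y ∧ Commute y x)} = (q + 1) * (q ^ 2 - 1) ∧
    ∀ x : SU 3 F q, x ≠ 1 → x * x = 1 →
      ∃ y z : SU 3 F q, y ≠ 1 ∧ y * y = 1 ∧ z ≠ 1 ∧ z * z = 1 ∧
        Commute t y ∧ Commute y z ∧ Commute z x := by
  classical
  have h2 := two_ne_zero' hF hq
  haveI : Finite (SU 3 F q) := Subtype.finite
  obtain ⟨v, hv⟩ := exists_vec hF h2 ht ht2
  have hq2 := two_le_q hF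
  -- the predicate on involutions
  have hscal : ∀ {x : SU 3 F q} {w w' : Fin 3 → F}, IsRefl x w → IsRefl x w' →
      herm q w' v ^ (q + 1) = herm q w v ^ (q + 1) := fun hw hw' => by
    obtain ⟨c, hc, rfl⟩ := hw.unique hF h2 hw'
    rw [herm_smul_left, mul_pow, hc, one_mul]
  let P : SU 3 F q → Prop := fun x => ∀ w, IsRefl x w → herm q w v ^ (q + 1) = 1
  have hP : ∀ x w, IsRefl x w → (P x ↔ herm q w v ^ (q + 1) = 1) := fun x w hw =>
    ⟨fun h => h w hw, fun h w' hw' => (hscal hw hw').trans h⟩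
  have hcomm : ∀ x w, IsRefl x w → ((x ≠ t ∧ Commute t x) ↔ herm q w v = 0) := fun x w hw => by
    constructor
    · rintro ⟨hne, h⟩
      exact ((commute_refl hF h2 hv hw).1 h).resolve_right (Ne.symm hne)
    · intro h
      refine ⟨?_, (commute_refl hF h2 hv hw).2 (Or.inl h)⟩
      rintro rfl
      obtain ⟨c, hc, rfl⟩ := hv.unique hF h2 hw
      rw [herm_smul_left, hv.1, mul_one] at h
      simp [h] at hc
  have hPt : P t := (hP t v hv).2 (by rw [hv.1, one_pow])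
  have hcase : ∀ x, x ≠ 1 → x * x = 1 → ¬ Commute t x →
      ((∃ y : SU 3 F q, y ≠ 1 ∧ y * y = 1 ∧ Commute t y ∧ Commute y x) ↔ ¬ P x) := by
    intro x hx hx2 hn
    obtain ⟨w, hw⟩ := exists_vec hF h2 hx hx2
    rw [hP x w hw]
    constructor
    · rintro ⟨y, hy, hy2, hty, hyx⟩ ha
      obtain ⟨u, hu⟩ := exists_vec hF h2 hy hy2
      rcases (commute_refl hF h2 hv hu).1 hty with e0 | rfl
      · rcases (commute_refl hF h2 hu hw).1 hyx with e1 | rfl
        · have e := eq_of_perp hF hv.1 hw.1 hu.1 e0 ((herm_eq_zero_comm hF).1 e1) ha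
          have hxt := eq_of_IsRefl hF (x := x) (y := t) hw (by rw [e]; exact hv.smul_scalar hF ha)
          exact hn (hxt ▸ Commute.refl t)
        · exact hn hty
      · exact hn hyx
    · intro ha
      obtain ⟨u, hu, e0, e1⟩ := exists_perp hF hv.1 hw.1 ha
      obtain ⟨y, hy⟩ := exists_refl hF hu
      exact ⟨y, (hy.invol hF h2).1, (hy.invol hF h2).2, (commute_refl hF h2 hv hy).2 (Or.inl e0),
        (commute_refl hF h2 hy hw).2 (Or.inl ((herm_eq_zero_comm hF).1 e1))⟩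
  -- counts
  have hA : Nat.card {x : SU 3 F q // x ≠ 1 ∧ x * x = 1 ∧ x ≠ t ∧ Commute t x} = q * (q - 1) := by
    have h := card_invol_mul hF h2 (fun x => x ≠ t ∧ Commute t x) (fun w => herm q w v = 0) hcomm
    rw [card_norm_and_coord_zero hF hv.1] at h
    refine Nat.eq_of_mul_eq_mul_left (Nat.succ_pos q) (h.symm.trans ?_)
    have : 1 ≤ q ^ 2 := Nat.one_le_pow _ _ (by omega)
    simp only [Nat.succ_eq_add_one]
    zify [this, show 1 ≤ q by omega]
    ring
  have hC : Nat.card {x : SU 3 F q // x ≠ 1 ∧ x * x = 1 ∧ ¬ Commute t x ∧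
      ∀ y : SU 3 F q, y ≠ 1 → y * y = 1 → ¬ (Commute t y ∧ Commute y x)} =
        (q + 1) * (q ^ 2 - 1) := by
    have h := card_invol_mul hF h2 P (fun w => herm q w v ^ (q + 1) = 1) hP
    rw [card_norm_and_coord_unit hF hv.1, Nat.mul_left_cancel_iff (Nat.succ_pos q),
      card_split (fun x => x ≠ 1 ∧ x * x = 1 ∧ P x) (fun x => x = t)] at h
    rw [show Nat.card {x : SU 3 F q // (x ≠ 1 ∧ x * x = 1 ∧ P x) ∧ x = t} = 1 from
      Nat.card_eq_one_iff_exists.2 ⟨⟨t, ⟨ht, ht2, hPt⟩, rfl⟩, fun y => Subtype.ext y.2.2⟩] at h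
    refine Eq.trans (Nat.card_congr (Equiv.subtypeEquivRight fun x => ?_)) (by omega :
      Nat.card {x : SU 3 F q // (x ≠ 1 ∧ x * x = 1 ∧ P x) ∧ ¬ x = t} = _)
    constructor
    · rintro ⟨hx, hx2, hn, hall⟩
      refine ⟨⟨hx, hx2, ?_⟩, fun e => hn (e ▸ Commute.refl t)⟩
      by_contra hp
      obtain ⟨y, a, b, c, d⟩ := (hcase x hx hx2 hn).2 hp
      exact hall y a b ⟨c, d⟩
    · rintro ⟨⟨hx, hx2, hp⟩, hne⟩
      obtain ⟨w, hw⟩ := exists_vec hF h2 hx hx2
      have hn : ¬ Commute t x := fun hc => by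
        have := (hP x w hw).1 hp
        rw [(hcomm x w hw).1 ⟨hne, hc⟩] at this
        simp at this
      exact ⟨hx, hx2, hn, fun y a b c => (hcase x hx hx2 hn).1 ⟨y, a, b, c.1, c.2⟩ hp⟩
  refine ⟨hA, ?_, hC, ?_⟩
  · have hT := card_invol hF h2
    rw [card_split (fun x : SU 3 F q => x ≠ 1 ∧ x * x = 1) (fun x => Commute t x),
      card_split (fun x : SU 3 F q => (x ≠ 1 ∧ x * x = 1) ∧ Commute t x) (fun x => x = t),
      card_split (fun x : SU 3 F q => (x ≠ 1 ∧ x * x = 1) ∧ ¬ Commute t x)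
        (fun x => ∃ y : SU 3 F q, y ≠ 1 ∧ y * y = 1 ∧ Commute t y ∧ Commute y x)] at hT
    rw [show Nat.card {x : SU 3 F q // ((x ≠ 1 ∧ x * x = 1) ∧ Commute t x) ∧ x = t} = 1 from
      Nat.card_eq_one_iff_exists.2 ⟨⟨t, ⟨⟨ht, ht2⟩, Commute.refl t⟩, rfl⟩,
        fun y => Subtype.ext y.2.2⟩,
      show Nat.card {x : SU 3 F q // ((x ≠ 1 ∧ x * x = 1) ∧ Commute t x) ∧ ¬ x = t} = q * (q - 1) from
        (Nat.card_congr (Equiv.subtypeEquivRight fun x => by tauto)).trans hA,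
      show Nat.card {x : SU 3 F q // ((x ≠ 1 ∧ x * x = 1) ∧ ¬ Commute t x) ∧
          ¬ ∃ y : SU 3 F q, y ≠ 1 ∧ y * y = 1 ∧ Commute t y ∧ Commute y x} = (q + 1) * (q ^ 2 - 1) from
        (Nat.card_congr (Equiv.subtypeEquivRight fun x => by
          simp only [not_exists, not_and, and_assoc])).trans hC] at hT
    rw [Nat.card_congr (Equiv.subtypeEquivRight (q := fun x : SU 3 F q =>
      ((x ≠ 1 ∧ x * x = 1) ∧ ¬ Commute t x) ∧
        ∃ y : SU 3 F q, y ≠ 1 ∧ y * y = 1 ∧ Commute t y ∧ Commute y x) fun x => by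
          simp only [and_assoc])]
    have e1 : q ≤ q ^ 2 := Nat.le_self_pow (by norm_num) q
    have e2 : 1 ≤ q ^ 2 := Nat.one_le_pow _ _ (by omega)
    zify [e1, e2, hq2, show 1 ≤ q by omega] at hT ⊢
    linear_combination hT
  · intro x hx hx2
    obtain ⟨w, hw⟩ := exists_vec hF h2 hx hx2
    by_cases ha : herm q w v ^ (q + 1) = 1
    · obtain ⟨g, hg⟩ := exists_GU_first hF hw.1
      have hsum := norm_frame hF g v
      rw [hv.1, hg, show herm q v w ^ (q + 1) = 1 by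
        rw [herm_swap hF w v, ← pow_mul, mul_comm, pow_mul, ha, one_pow]] at hsum
      obtain ⟨i, hi, hi1⟩ : ∃ i : Fin 3, i ≠ 0 ∧ herm q (g • (eI i : Fin 3 → F)) v ^ (q + 1) ≠ 1 := by
        by_contra hcon
        push Not at hcon
        have e : ∀ i : Fin 3, i ≠ 0 → herm q v (g • (eI i : Fin 3 → F)) ^ (q + 1) = 1 := fun i hi => by
          rw [herm_swap hF, ← pow_mul, mul_comm, pow_mul, hcon i hi, one_pow]
        rw [e 1 (by decide), e 2 (by decide)] at hsum
        exact h2 (by linear_combination -hsum)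
      have hu : herm q (g • (eI i : Fin 3 → F)) (g • (eI i : Fin 3 → F)) = 1 := by
        rw [herm_smul_GU, herm_eI_eI hF, if_pos rfl]
      obtain ⟨z, hz⟩ := exists_refl hF hu
      have hzx : Commute z x := (commute_refl hF h2 hz hw).2 (Or.inl (by
        rw [← hg, herm_smul_GU, herm_eI_eI hF, if_neg (Ne.symm hi)]))
      obtain ⟨u, hu', e0, e1⟩ := exists_perp hF hv.1 hu hi1
      obtain ⟨y, hy⟩ := exists_refl hF hu'
      exact ⟨y, z, (hy.invol hF h2).1, (hy.invol hF h2).2, (hz.invol hF h2).1, (hz.invol hF h2).2,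
        (commute_refl hF h2 hv hy).2 (Or.inl e0),
        (commute_refl hF h2 hy hz).2 (Or.inl ((herm_eq_zero_comm hF).1 e1)), hzx⟩
    · obtain ⟨u, hu, e0, e1⟩ := exists_perp hF hv.1 hw.1 ha
      obtain ⟨z, hz⟩ := exists_refl hF hu
      exact ⟨t, z, ht, ht2, (hz.invol hF h2).1, (hz.invol hF h2).2, Commute.refl t,
        (commute_refl hF h2 hv hz).2 (Or.inl e0),
        (commute_refl hF h2 hz hw).2 (Or.inl ((herm_eq_zero_comm hF).1 e1))⟩

end Cfsg.Agent.Classical10.SUThree
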