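import Cfsg.Agent.Lib.Unitary.Count
import Cfsg.Agent.Lib.Forms.Witt
import Cfsg.Agent.Lib.Forms.SpParabolic

/-!
Involutions of `SU_3(q)`, `q` odd, as reflections in norm one points (helper10).
-/

set_option autoImplicit false

namespace Cfsg.Agent.Classical10.SUThree

open Cfsg.Agent.Unitary Matrix

variable {F : Type*} [Field F] [Fintype F] {q : ℕ}

/-- `x` is minus the reflection in the norm one vector `v`. -/
def IsRefl (x : SU 3 F q) (v : Fin 3 → F) : Prop :=
  herm q v v = 1 ∧ ∀ y : Fin 3 → F, x • y = (2 * herm q y v) • v - y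

variable (hF : Fintype.card F = q ^ 2)

include hF

theorem two_ne_zero' (hq : Odd q) : (2 : F) ≠ 0 := by
  intro h
  have h' : ringChar F = 2 := by
    have := (ringChar.spec F 2).1 (by exact_mod_cast h)
    rcases (Nat.dvd_prime Nat.prime_two).1 this with h1 | h1
    · exact absurd h1 (CharP.ringChar_ne_one)
    · exact h1
  have := FiniteField.even_card_iff_char_two.1 h'
  rw [hF] at this
  have : Odd (q ^ 2) := hq.pow
  rw [Nat.odd_iff] at this
  omega

theorem coord_GU (g : GU 3 F q) (y : Fin 3 → F) (i : Fin 3) :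
    (g⁻¹ • y) i = herm q y (g • (eI i : Fin 3 → F)) := by
  conv_rhs => rw [← smul_inv_smul g y, herm_smul_GU, herm_eI_right hF]

theorem exists_GU_first {v : Fin 3 → F} (hv : herm q v v = 1) :
    ∃ g : GU 3 F q, g • (eI 0 : Fin 3 → F) = v := by
  obtain ⟨g, -, hg⟩ := exists_fixGU_smul_eq hF (S := ∅) (x := (eI 0 : Fin 3 → F)) (x' := v)
    (by simp [supp_empty]) (by simp [supp_empty]) (by rw [herm_eI_eI hF, hv, if_pos rfl])
    (by rw [herm_eI_eI hF, if_pos rfl]; exact one_ne_zero)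
  exact ⟨g, hg⟩

theorem exists_SU_first {v : Fin 3 → F} (hv : herm q v v = 1) :
    ∃ s : SU 3 F q, s • (eI 0 : Fin 3 → F) = v := by
  obtain ⟨g, hg⟩ := exists_GU_first hF hv
  set a : F := (detGU g : F)⁻¹ with ha
  have han : a ^ (q + 1) = 1 := by rw [ha, inv_pow, det_norm hF, inv_one]
  have hM : ∀ x y : Fin 3 → F, herm q (Matrix.diagonal ![1, a, 1] *ᵥ x)
      (Matrix.diagonal ![1, a, 1] *ᵥ y) = herm q x y := by
    intro x y
    simp only [herm, hermForm, Fin.sum_univ_three, Matrix.mulVec_diagonal, Matrix.cons_val_zero,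
      Matrix.cons_val_one, Matrix.cons_val_two, Matrix.tail_cons, Matrix.head_cons, one_mul, mul_pow]
    linear_combination (x 1 * y 1 ^ q) * han
  set k := mkGU hF _ hM with hk
  have hker : g * k ∈ (detGU : GU 3 F q →* Fˣ).ker := by
    refine Units.ext ?_
    rw [map_mul, Units.val_mul, Units.val_one, coe_detGU k,
      show (((k : GL (Fin 3) F)) : Matrix (Fin 3) (Fin 3) F) = Matrix.diagonal ![1, a, 1] from rfl,
      Matrix.det_diagonal, Fin.prod_univ_three]
    simp [ha]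
  rw [← range_toGU] at hker
  obtain ⟨s, hs⟩ := hker
  refine ⟨s, ?_⟩
  rw [← toGU_smul, hs, mul_smul, hk, mkGU_smul]
  conv_rhs => rw [← hg]
  congr 1
  funext i
  fin_cases i <;> simp [eI, Matrix.mulVec_diagonal]

theorem exists_GU_frame {v u : Fin 3 → F} (hv : herm q v v = 1) (hu : herm q u u = 1)
    (huv : herm q u v = 0) :
    ∃ g : GU 3 F q, g • (eI 0 : Fin 3 → F) = v ∧ g • (eI 1 : Fin 3 → F) = u := by
  obtain ⟨g, hg⟩ := exists_GU_first hF hv
  have h0 : (g⁻¹ • u) ∈ supp ({0} : Finset (Fin 3)) := by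
    intro i hi
    rw [Finset.mem_singleton] at hi
    subst hi
    rw [coord_GU hF, hg, huv]
  obtain ⟨k, hk, hk1⟩ := exists_fixGU_smul_eq hF (x := (eI 1 : Fin 3 → F)) (x' := g⁻¹ • u)
    (eI_mem_supp (by decide)) h0 (by rw [herm_eI_eI hF, if_pos rfl, herm_smul_GU, hu])
    (by rw [herm_eI_eI hF, if_pos rfl]; exact one_ne_zero)
  refine ⟨g * k, ?_, ?_⟩
  · rw [mul_smul, mem_fixGU.1 hk 0 (by simp), hg]
  · rw [mul_smul, hk1, smul_inv_smul]

theorem eq_of_IsRefl {x y : SU 3 F q} {v : Fin 3 → F} (hx : IsRefl x v) (hy : IsRefl y v) : x = y :=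
  eq_of_smul_eq_SU fun z => by rw [hx.2, hy.2]

theorem IsRefl.smul_scalar {x : SU 3 F q} {v : Fin 3 → F} (hx : IsRefl x v) {c : F}
    (hc : c ^ (q + 1) = 1) : IsRefl x (c • v) := by
  refine ⟨by rw [herm_smul_left, herm_smul_right hF, hx.1, mul_one, ← pow_succ', hc], fun y => ?_⟩
  rw [hx.2, herm_smul_right hF, smul_smul]
  congr 2
  linear_combination (-2 * herm q y v) * hc

theorem IsRefl.fixed (h2 : (2 : F) ≠ 0) {x : SU 3 F q} {v z : Fin 3 → F} (hx : IsRefl x v)
    (hz : x • z = z) : z = herm q z v • v := by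
  have h := hx.2 z
  rw [hz] at h
  have : (2 : F) • (z - herm q z v • v) = 0 := by
    rw [smul_sub, smul_smul, two_smul, sub_eq_zero]
    exact eq_sub_iff_add_eq.1 h
  exact sub_eq_zero.1 ((smul_eq_zero.1 this).resolve_left h2)

theorem IsRefl.smul_self {x : SU 3 F q} {v : Fin 3 → F} (hx : IsRefl x v) : x • v = v := by
  rw [hx.2, hx.1, mul_one, two_smul, add_sub_cancel_right]

theorem IsRefl.unique (h2 : (2 : F) ≠ 0) {x : SU 3 F q} {v w : Fin 3 → F} (hx : IsRefl x v)
    (hy : IsRefl x w) : ∃ c : F, c ^ (q + 1) = 1 ∧ w = c • v := by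
  have e : w = herm q w v • v := hx.fixed hF h2 (hy.smul_self hF)
  refine ⟨_, ?_, e⟩
  have h := hy.1
  rw [e, herm_smul_left, herm_smul_right hF, hx.1, mul_one] at h
  rw [pow_succ']; exact h

theorem IsRefl.invol (h2 : (2 : F) ≠ 0) {x : SU 3 F q} {v : Fin 3 → F} (hx : IsRefl x v) :
    x ≠ 1 ∧ x * x = 1 := by
  constructor
  · rintro rfl
    obtain ⟨g, hg⟩ := exists_GU_first hF hx.1
    have h := hx.2 (g • (eI 1 : Fin 3 → F))
    rw [one_smul, ← hg, herm_smul_GU, herm_eI_eI hF, if_neg (by decide), mul_zero, zero_smul,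
      zero_sub, eq_neg_iff_add_eq_zero, ← two_smul F, smul_eq_zero, smul_eq_zero_iff_eq] at h
    rcases h with h | h
    · exact h2 h
    · simpa [eI] using congrFun h 1
  · refine eq_of_smul_eq_SU fun y => ?_
    rw [mul_smul, one_smul, hx.2 (x • y), hx.2 y, herm_sub_left, herm_smul_left, hx.1, mul_one,
      sub_sub_eq_add_sub]
    rw [show (2 * (2 * herm q y v - herm q y v)) • v = (2 * herm q y v) • v by ring_nf]
    abel

theorem exists_refl {v : Fin 3 → F} (hv : herm q v v = 1) : ∃ x : SU 3 F q, IsRefl x v := by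
  obtain ⟨s, hs⟩ := exists_SU_first hF hv
  have hd : (Matrix.diagonal ![1, -1, -1] : Matrix (Fin 3) (Fin 3) F).det = 1 := by
    simp [Matrix.det_diagonal, Fin.prod_univ_three]
  let t₀ : SU 3 F q := ⟨⟨_, hd⟩, fun x y => by
    show hermForm 3 F q (Matrix.diagonal ![1, -1, -1] *ᵥ x) (Matrix.diagonal ![1, -1, -1] *ᵥ y) =
      hermForm 3 F q x y
    simp [hermForm, Fin.sum_univ_three, Matrix.mulVec_diagonal, neg_pow_q hF]⟩
  have ht₀ : ∀ z : Fin 3 → F, t₀ • z = (2 * z 0) • (eI 0 : Fin 3 → F) - z := fun z => by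
    show Matrix.diagonal ![1, -1, -1] *ᵥ z = _
    funext i
    fin_cases i <;> simp [eI, Matrix.mulVec_diagonal] <;> ring
  refine ⟨s * t₀ * s⁻¹, hv, fun y => ?_⟩
  rw [mul_smul, mul_smul, ht₀, smul_sub, smul_inv_smul, smul_comm, hs]
  congr 2
  conv_rhs => rw [← hs, ← smul_inv_smul s y, herm_smul_SU, herm_eI_right hF]

theorem conj_refl {x : SU 3 F q} {v : Fin 3 → F} (hx : IsRefl x v) (s : SU 3 F q) :
    IsRefl (s * x * s⁻¹) (s • v) := by
  refine ⟨by rw [herm_smul_SU, hx.1], fun y => ?_⟩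
  rw [mul_smul, mul_smul, hx.2, smul_sub, smul_inv_smul, smul_comm]
  congr 2
  conv_rhs => rw [← smul_inv_smul s y, herm_smul_SU]

/-- Every involution is a reflection. -/
theorem exists_vec (h2 : (2 : F) ≠ 0) {x : SU 3 F q} (hx1 : x ≠ 1) (hxx : x * x = 1) :
    ∃ v, IsRefl x v := by
  have hinv : ∀ z : Fin 3 → F, x • (x • z) = z := fun z => by rw [← mul_smul, hxx, one_smul]
  obtain ⟨y, hy⟩ : ∃ y : Fin 3 → F, x • y + y ≠ 0 := by
    by_contra h
    push Not at h
    have hM : ((x : Matrix.SpecialLinearGroup (Fin 3) F) : Matrix (Fin 3) (Fin 3) F) = -1 :=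
      Matrix.ext_of_mulVec_single fun i => by
        rw [Matrix.neg_mulVec, Matrix.one_mulVec]
        exact eq_neg_of_add_eq_zero_left (h _)
    have hd := x.1.2
    rw [hM] at hd
    simp [Matrix.det_neg] at hd
    exact h2 (by linear_combination -hd)
  let P : Submodule F (Fin 3 → F) :=
    { carrier := {z | x • z = z}
      add_mem' := fun ha hb => by simp only [Set.mem_setOf_eq] at *; rw [smul_add, ha, hb]
      zero_mem' := smul_zero x
      smul_mem' := fun c z hz => by simp only [Set.mem_setOf_eq] at *; rw [smul_comm, hz] }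
  have hP : ∀ z, x • z + z ∈ P := fun z => by
    show x • (x • z + z) = x • z + z
    rw [smul_add, hinv, add_comm]
  obtain ⟨i, hi⟩ : ∃ i, (x • y + y) i ≠ 0 := Function.ne_iff.1 hy
  have hne : hermB hF 3 (x • (eI i : Fin 3 → F) + eI i) (x • y + y) ≠ 0 := by
    rw [hermB_apply, herm_add_right hF]
    nth_rewrite 1 [← (show x • (x • y + y) = x • y + y from hP y)]
    rw [herm_smul_SU, herm_eI_right hF, ← two_mul]
    exact mul_ne_zero h2 hi
  obtain ⟨w, hw, hww⟩ := Forms.exists_self_ne_zero_of_ne_id (hermB hF 3)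
    ⟨fun a b => (herm_swap hF b a).symm⟩ (conjHom_ne_id hF) P (hP _) (hP _) hne
  rw [hermB_apply] at hww
  obtain ⟨a, ha⟩ := exists_norm_eq hF (herm_self_fixed hF w)
  have ha0 : a ≠ 0 := by
    rintro rfl
    rw [zero_pow (Nat.succ_ne_zero q)] at ha
    exact hww ha.symm
  set v := a⁻¹ • w with hv
  have hvv : herm q v v = 1 := by
    rw [hv, herm_smul_left, herm_smul_right hF, ← ha, inv_pow, ← mul_assoc, ← mul_inv,
      ← pow_succ', inv_mul_cancel₀ (pow_ne_zero _ ha0)]
  have hxv : x • v = v := by rw [hv, smul_comm, show x • w = w from hw]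
  obtain ⟨s, hs⟩ := exists_SU_first hF hvv
  obtain ⟨x', hx'⟩ : ∃ x' : SU 3 F q, x' = s⁻¹ * x * s := ⟨_, rfl⟩
  have h0 : x' • (eI 0 : Fin 3 → F) = eI 0 := by
    rw [hx', mul_smul, mul_smul, hs, hxv, ← hs, inv_smul_smul]
  have hxx' : x' * x' = 1 := by
    rw [hx', show s⁻¹ * x * s * (s⁻¹ * x * s) = s⁻¹ * (x * x) * s by group, hxx]; group
  set M := ((x' : Matrix.SpecialLinearGroup (Fin 3) F) : Matrix (Fin 3) (Fin 3) F) with hM
  have hsm : ∀ z : Fin 3 → F, x' • z = M *ᵥ z := fun z => rfl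
  have hcol : ∀ j : Fin 3, x' • (eI j : Fin 3 → F) = fun i => M i j := fun j => by
    rw [hsm]; funext i; simp [eI]
  have c00 : ∀ i, M i 0 = (eI 0 : Fin 3 → F) i := fun i =>
    (congrFun (hcol 0) i).symm.trans (congrFun h0 i)
  have r0 : ∀ j, M 0 j = if j = 0 then 1 else 0 := fun j => by
    have := herm_smul_SU x' (eI j) (eI 0 : Fin 3 → F)
    rw [h0, herm_eI_right hF, herm_eI_eI hF, hcol] at this
    exact this
  have hd : M.det = 1 := x'.1.2
  have hMM : M * M = 1 := by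
    rw [hM, ← Matrix.SpecialLinearGroup.coe_mul, ← Subgroup.coe_mul, hxx']; rfl
  have e11 := congrFun (congrFun hMM 1) 1
  have e12 := congrFun (congrFun hMM 1) 2
  have e21 := congrFun (congrFun hMM 2) 1
  have e22 := congrFun (congrFun hMM 2) 2
  simp only [Matrix.mul_apply, Fin.sum_univ_three, c00, r0, eI, Pi.single_apply] at e11 e12 e21 e22
  simp [Matrix.det_fin_three, c00, r0, eI] at hd e11 e12 e21 e22
  have h12 : M 1 2 = 0 := by
    have : 2 * M 1 2 = 0 := by linear_combination M 2 2 * e12 - M 1 2 * e22 - M 1 2 * hd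
    exact (mul_eq_zero.1 this).resolve_left h2
  have h21 : M 2 1 = 0 := by
    have : 2 * M 2 1 = 0 := by linear_combination M 1 1 * e21 - M 2 1 * e11 - M 2 1 * hd
    exact (mul_eq_zero.1 this).resolve_left h2
  simp only [h12, h21, mul_zero, add_zero, zero_add, sub_zero] at e11 e22 hd
  have h11 : M 2 2 = M 1 1 := by linear_combination M 1 1 * hd - M 2 2 * e11
  have hsq : (M 1 1 - 1) * (M 1 1 + 1) = 0 := by linear_combination e11
  rcases mul_eq_zero.1 hsq with h | h
  · exfalso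
    have h1 : M 1 1 = 1 := sub_eq_zero.1 h
    have : x' = 1 := eq_of_smul_eq_SU fun z => by
      rw [hsm, one_smul]
      funext i
      fin_cases i <;> simp [Matrix.mulVec, dotProduct, Fin.sum_univ_three, c00, r0, eI, h12, h21,
        h11, h1]
    apply hx1
    rw [hx', show s⁻¹ * x * s = 1 ↔ x = 1 by
      rw [mul_assoc, inv_mul_eq_one, eq_comm, mul_eq_right]] at this
    exact this
  · have h1 : M 1 1 = -1 := eq_neg_of_add_eq_zero_left h
    have : IsRefl x' (eI 0 : Fin 3 → F) := ⟨by rw [herm_eI_eI hF, if_pos rfl], fun z => by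
      rw [hsm, herm_eI_right hF]
      funext i
      fin_cases i <;> simp [Matrix.mulVec, dotProduct, Fin.sum_univ_three, c00, r0, eI, h12, h21,
        h11, h1] <;> ring⟩
    refine ⟨v, ?_⟩
    have := conj_refl hF this s
    rwa [hs, hx', show s * (s⁻¹ * x * s) * s⁻¹ = x by group] at this

theorem commute_refl (h2 : (2 : F) ≠ 0) {x y : SU 3 F q} {v w : Fin 3 → F} (hx : IsRefl x v)
    (hy : IsRefl y w) : Commute x y ↔ herm q w v = 0 ∨ x = y := by
  constructor
  · intro h
    have e : y • v = herm q (y • v) v • v := hx.fixed hF h2 (by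
      rw [← mul_smul, h.eq, mul_smul, hx.smul_self hF])
    by_cases h0 : herm q v w = 0
    · exact Or.inl ((herm_eq_zero_comm hF).1 h0)
    refine Or.inr ?_
    rw [hy.2] at e
    set c := herm q ((2 * herm q v w) • w - v) v
    have hw : w = ((2 * herm q v w)⁻¹ * (c + 1)) • v := by
      rw [← smul_smul, add_smul, one_smul, ← e, sub_add_cancel, inv_smul_smul₀ (mul_ne_zero h2 h0)]
    have hn := hy.1
    rw [hw, herm_smul_left, herm_smul_right hF, hx.1, mul_one, ← pow_succ'] at hn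
    exact eq_of_IsRefl hF ((hx.smul_scalar hF hn)) (hw ▸ hy)
  · rintro (h | rfl)
    · refine eq_of_smul_eq_SU fun z => ?_
      rw [mul_smul, mul_smul, hx.2 z, hy.2 z, hx.2, hy.2, herm_sub_left, herm_sub_left,
        herm_smul_left, herm_smul_left, h, (herm_eq_zero_comm hF).1 h]
      simp only [mul_zero, zero_sub, mul_neg, neg_smul]
      abel
    · exact Commute.refl x

/-- `q + 1` vectors above each involution. -/
theorem card_invol_mul (h2 : (2 : F) ≠ 0) (P : SU 3 F q → Prop) (Q : (Fin 3 → F) → Prop)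
    (hPQ : ∀ x v, IsRefl x v → (P x ↔ Q v)) :
    Nat.card {v : Fin 3 → F // herm q v v = 1 ∧ Q v} =
      (q + 1) * Nat.card {x : SU 3 F q // x ≠ 1 ∧ x * x = 1 ∧ P x} := by
  rw [← card_norm_eq_one hF, ← Nat.card_prod]
  have hex : ∀ x : {x : SU 3 F q // x ≠ 1 ∧ x * x = 1 ∧ P x}, ∃ v, IsRefl x.1 v :=
    fun x => exists_vec hF h2 x.2.1 x.2.2.1
  choose r hr using hex
  refine (Nat.card_congr (Equiv.ofBijective
    (fun p => ⟨p.1.1 • r p.2, ((hr p.2).smul_scalar hF p.1.2).1,
      (hPQ _ _ ((hr p.2).smul_scalar hF p.1.2)).1 p.2.2.2.2⟩) ⟨?_, ?_⟩)).symm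
  · rintro ⟨c, x⟩ ⟨d, y⟩ e
    simp only [Subtype.mk.injEq] at e
    have hxy : x = y := Subtype.ext <| eq_of_IsRefl hF ((hr x).smul_scalar hF c.2)
      (by rw [e]; exact (hr y).smul_scalar hF d.2)
    subst hxy
    refine Prod.ext (Subtype.ext ?_) rfl
    have := congrArg (fun z => herm q z (r x)) e
    simpa [herm_smul_left, (hr x).1] using this
  · rintro ⟨v, hv, hQ⟩
    obtain ⟨x, hx⟩ := exists_refl hF hv
    let X : {x : SU 3 F q // x ≠ 1 ∧ x * x = 1 ∧ P x} :=
      ⟨x, (hx.invol hF h2).1, (hx.invol hF h2).2, (hPQ x v hx).2 hQ⟩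
    obtain ⟨c, hc, e⟩ := (hr X).unique hF h2 hx
    exact ⟨(⟨c, hc⟩, X), Subtype.ext e.symm⟩

/-- Counting in coordinates adapted to a norm one vector. -/
theorem card_transport {v : Fin 3 → F} (hv : herm q v v = 1) (Q : F → F → Prop) :
    Nat.card {u : Fin 3 → F // Q (herm q u u) (herm q u v)} =
      Nat.card {p : F × (Fin 2 → F) // Q (p.1 ^ (q + 1) + herm q p.2 p.2) p.1} := by
  obtain ⟨g, hg⟩ := exists_GU_first hF hv
  refine (Nat.card_congr (Equiv.subtypeEquiv ((Fin.consEquiv fun _ : Fin 3 => F).trans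
    (MulAction.toPerm g)) fun p => ?_)).symm
  show _ ↔ Q (herm q (g • (Fin.cons p.1 p.2 : Fin 3 → F)) (g • (Fin.cons p.1 p.2 : Fin 3 → F)))
    (herm q (g • (Fin.cons p.1 p.2 : Fin 3 → F)) v)
  conv_rhs => rw [← hg, herm_smul_GU, herm_smul_GU, herm_cons, herm_eI_right hF, Fin.cons_zero]

end Cfsg.Agent.Classical10.SUThree
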