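import Cfsg.Agent.Lib.Forms.Symp
import Cfsg.Agent.Lib.Unitary.Field
import Mathlib.FieldTheory.Finite.GaloisField

/-!
The field-extension embedding `Sp_{2a}(q²) → Sp_{4a}(q)` (helper10).
-/

set_option autoImplicit false

namespace Cfsg.Agent.Classical10

open Cfsg.Agent.Symplectic Matrix

theorem exists_embedding_field {K F : Type*} [Field K] [Fintype K] [Field F] [Fintype F] {q : ℕ}
    (hK : Fintype.card K = q ^ 2) (hF : Fintype.card F = q) : ∃ ι : F →+* K,
      ∀ x : K, x ^ q = x → ∃ a, ι a = x := by
  classical
  let K0 : Subfield K := RingHom.eqLocusField (Unitary.conjHom hK) (RingHom.id K)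
  haveI : Fintype K0 := Fintype.ofFinite _
  have h0 : Fintype.card K0 = q := by
    rw [← Nat.card_eq_fintype_card, ← Unitary.card_fixed hK]
    exact Nat.card_congr (Equiv.subtypeEquivRight fun x => Iff.rfl)
  let e := FiniteField.ringEquivOfCardEq (hF.trans h0.symm)
  exact ⟨K0.subtype.comp e.toRingHom, fun x hx => ⟨e.symm ⟨x, hx⟩, by simp⟩⟩

theorem finrank_eq_two {K F : Type*} [Field K] [Fintype K] [Field F] [Fintype F] [Algebra F K] {q : ℕ}
    (hK : Fintype.card K = q ^ 2) (hF : Fintype.card F = q) : Module.finrank F K = 2 := by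
  have h := Module.card_eq_pow_finrank (K := F) (V := K)
  rw [hK, hF] at h
  exact (Nat.pow_right_injective (Unitary.two_le_q hK) h).symm

theorem exists_sp_embedding {K F : Type*} [Field K] [Fintype K] [Field F] [Fintype F] {q : ℕ}
    (hK : Fintype.card K = q ^ 2) (hF : Fintype.card F = q) (a : ℕ) :
    ∃ φ : Sp a K →* Sp (2 * a) F, Function.Injective φ := by
  classical
  obtain ⟨ι, -⟩ := exists_embedding_field hK hF
  letI : Algebra F K := ι.toAlgebra
  set b := Module.finBasis F K
  have h2 := finrank_eq_two (F := F) hK hF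
  let i₀ : Fin (Module.finrank F K) := ⟨0, by omega⟩
  set τ : K →ₗ[F] F := b.coord i₀
  have hτ : τ (b i₀) = 1 := by simp [τ]
  let B : LinearMap.BilinForm F (Vec a K) :=
    LinearMap.mk₂ F (fun u v => τ (sympForm a K u v))
      (fun u u' v => by rw [sympForm_add_left, map_add])
      (fun c u v => by
        rw [show (c • u : Vec a K) = algebraMap F K c • u from (algebraMap_smul K c u).symm,
          sympForm_smul_left, ← Algebra.smul_def, map_smul])
      (fun u v v' => by rw [sympForm_add_right, map_add])
      (fun c u v => by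
        rw [show (c • v : Vec a K) = algebraMap F K c • v from (algebraMap_smul K c v).symm,
          sympForm_smul_right, ← Algebra.smul_def, map_smul])
  have hB : ∀ u v, B u v = τ (sympForm a K u v) := fun u v => rfl
  have hAlt : B.IsAlt := fun u => by rw [hB, sympForm_self, map_zero]
  have hnd : ∀ w ∈ (⊤ : Submodule F (Vec a K)), (∀ v ∈ (⊤ : Submodule F (Vec a K)), B w v = 0) →
      w = 0 := by
    intro w _ h
    refine Forms.sympForm_left_cancel fun v => ?_
    by_contra hne
    have := h ((b i₀ * (sympForm a K w v)⁻¹) • v) trivial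
    rw [hB, sympForm_smul_right, mul_assoc, inv_mul_cancel₀ hne, mul_one, hτ] at this
    exact one_ne_zero this
  obtain ⟨m, e, f, he, hf, hef, hee, hff, hspan⟩ := Forms.exists_symplectic_family B hAlt ⊤ hnd
  have hm := Forms.finrank_eq_of_symplectic_family B hAlt ⊤ e f he hf hef hee hff hspan
  have hV : Module.finrank F (Vec a K) = 2 * (2 * a) := by
    rw [Module.finrank_pi_fintype, Finset.sum_const, Finset.card_univ, h2, Fintype.card_sum,
      Fintype.card_fin, smul_eq_mul]
    ring
  rw [finrank_top, hV] at hm
  obtain rfl : m = 2 * a := by omega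
  have hli := Forms.linearIndependent_symplectic_family B hAlt e f hef hee hff
  -- coordinates with respect to the family
  let Φ : Vec (2 * a) F →ₗ[F] Vec a K := Fintype.linearCombination F (Sum.elim f e)
  have hΦi : Function.Injective Φ := by
    have hsw : LinearIndependent F (Sum.elim f e) := by
      rw [show Sum.elim f e = Sum.elim e f ∘ Sum.swap by funext i; cases i <;> rfl]
      exact hli.comp _ (Equiv.sumComm (Fin (2 * a)) (Fin (2 * a))).injective
    exact linearIndependent_iff_injective_fintypeLinearCombination.1 hsw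
  let Ψ : Vec (2 * a) F ≃ₗ[F] Vec a K :=
    LinearMap.linearEquivOfInjective Φ hΦi (by
      rw [hV, Module.finrank_pi, Fintype.card_sum, Fintype.card_fin]; ring)
  have hΦf : ∀ u v, B (Φ u) (Φ v) = sympForm (2 * a) F u v := by
    intro u v
    have hfe : ∀ i j, B (f i) (e j) = if i = j then -1 else 0 := fun i j => by
      rw [← LinearMap.IsAlt.neg hAlt (e j) (f i), hef]
      by_cases h : i = j
      · subst h; simp
      · rw [if_neg h, if_neg (Ne.symm h), neg_zero]
    simp only [Φ, Fintype.linearCombination_apply, Fintype.sum_sum_type, Sum.elim_inl, Sum.elim_inr,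
      map_add, map_sum, map_smul, LinearMap.add_apply, LinearMap.sum_apply, LinearMap.smul_apply,
      hef, hee, hff, hfe, smul_eq_mul, mul_ite, mul_zero, mul_one, mul_neg, Finset.sum_ite_eq,
      Finset.sum_ite_eq', Finset.mem_univ, if_true, Finset.sum_const_zero, add_zero, zero_add,
      sympForm_eq_sum, Finset.sum_sub_distrib, Finset.sum_neg_distrib, Finset.mul_sum]
    simp only [mul_comm]
    ring
  let L : Sp a K → (Vec a K →ₗ[F] Vec a K) := fun g =>
    { toFun := fun x => g • x
      map_add' := smul_add g
      map_smul' := fun c x => by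
        rw [RingHom.id_apply, show (c • x : Vec a K) = algebraMap F K c • x from
          (algebraMap_smul K c x).symm, smul_comm g, algebraMap_smul] }
  let φ : Sp a K → Sp (2 * a) F := fun g =>
    Forms.spOfLinearMap ((Ψ.symm.toLinearMap ∘ₗ L g) ∘ₗ Φ) fun u v => by
      rw [← hΦf, ← hΦf u v]
      simp only [LinearMap.comp_apply, LinearEquiv.coe_coe]
      have hs : ∀ z, Φ (Ψ.symm z) = z := fun z => Ψ.apply_symm_apply z
      rw [hs, hs, hB, hB]
      exact congrArg τ (sympForm_smul_smul g _ _)
  have hφ : ∀ g (u : Vec (2 * a) F), φ g • u = Ψ.symm (g • Φ u) := fun g u =>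
    Forms.spOfLinearMap_smul _ _ u
  refine ⟨MonoidHom.mk' φ fun g g' => Symplectic.eq_of_smul_eq fun u => ?_, fun g g' h => ?_⟩
  · rw [mul_smul, hφ, hφ, hφ, mul_smul]
    congr 2
    exact (Ψ.apply_symm_apply _).symm
  · refine Symplectic.eq_of_smul_eq fun x => ?_
    have := congrArg (fun k : Sp (2 * a) F => k • Ψ.symm x) h
    simp only [MonoidHom.mk'_apply, hφ] at this
    have h' := Ψ.symm.injective this
    rwa [show Φ (Ψ.symm x) = x from Ψ.apply_symm_apply x] at h'

end Cfsg.Agent.Classical10
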