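import Cfsg.Agent.Classical10.GUStabilizer
import Cfsg.Agent.Classical10.SpExtensionField
import Mathlib.RingTheory.AdjoinRoot
import Mathlib.Algebra.Polynomial.SpecificDegree

/-!
The centraliser in `Sp_{2m}(q)`, `q ≡ 2 (mod 3)`, of a fixed-point-free element of order three is
`GU_m(q)` (helper10).
-/

set_option autoImplicit false

namespace Cfsg.Agent.Classical10

open Polynomial
open Cfsg.Agent.Symplectic
open Module (finrank)

section

variable {F : Type*} [Field F] [Fintype F] {q : ℕ}

theorem cube_root_poly_irreducible (hF : Fintype.card F = q) (hq : q % 3 = 2) :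
    Irreducible (X ^ 2 + X + 1 : F[X]) := by
  classical
  have hd : (X ^ 2 + X + 1 : F[X]).natDegree = 2 := by compute_degree!
  rw [Polynomial.irreducible_iff_roots_eq_zero_of_degree_le_three (by rw [hd]) (by rw [hd]; omega)]
  refine Multiset.eq_zero_of_forall_notMem fun r hr => ?_
  rw [Polynomial.mem_roots'] at hr
  obtain ⟨-, hr⟩ := hr
  have hr2 : r ^ 2 + r + 1 = 0 := by simpa using hr
  have hr3 : r ^ 3 = 1 := by linear_combination (r - 1) * hr2
  have hr0 : r ≠ 0 := by rintro rfl; simp at hr3
  have hr1 : r = 1 := by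
    have h1 : r ^ (q - 1) = 1 := hF ▸ FiniteField.pow_card_sub_one_eq_one r hr0
    have h2 : q - 1 = 3 * (q / 3) + 1 := by omega
    rwa [h2, pow_add, pow_mul, hr3, one_pow, one_mul, pow_one] at h1
  subst hr1
  haveI : CharP F (ringChar F) := ringChar.charP F
  have h3 : ((3 : ℕ) : F) = 0 := by push_cast; linear_combination hr2
  obtain ⟨⟨n, hn⟩, hp, hc⟩ := FiniteField.card F (ringChar F)
  rw [hF] at hc
  have := (Nat.prime_dvd_prime_iff_eq hp Nat.prime_three).1 ((CharP.cast_eq_zero_iff F (ringChar F) 3).1 h3)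
  rw [this] at hc
  have : 3 ∣ q := hc ▸ dvd_pow_self 3 (Nat.pos_iff_ne_zero.1 hn)
  omega

theorem card_commute_order_three (hF : Fintype.card F = q) (hq : q % 3 = 2) {m : ℕ}
    (x : Sp m F) (hx : ∀ v : Vec m F, x • (x • v) + x • v + v = 0) :
    Nat.card {g : Sp m F // ∀ v : Vec m F, g • (x • v) = x • (g • v)} = q ^ (m * (m - 1) / 2) *
      ∏ i ∈ Finset.range m, (if Even i then q ^ (i + 1) + 1 else q ^ (i + 1) - 1) := by
  classical
  set p : F[X] := X ^ 2 + X + 1 with hp
  haveI : Fact (Irreducible p) := ⟨cube_root_poly_irreducible hF hq⟩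
  have hd : p.natDegree = 2 := by rw [hp]; compute_degree!
  have hp0 : p ≠ 0 := fun h => by simp [h] at hd
  let T : Module.End F (Vec m F) :=
    { toFun := fun v => x • v
      map_add' := smul_add x
      map_smul' := fun c v => by rw [RingHom.id_apply, smul_comm] }
  have hT : ∀ v, T v = x • v := fun v => rfl
  have hpT : aeval T p = 0 := LinearMap.ext fun v => by
    simp [hp, pow_two, hT, hx]
  let φ : AdjoinRoot p →+* Module.End F (Vec m F) :=
    Ideal.Quotient.lift _ (aeval T).toRingHom fun a ha => by
      obtain ⟨b, rfl⟩ := Ideal.mem_span_singleton'.1 ha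
      show aeval T (b * p) = 0
      rw [map_mul, hpT, mul_zero]
  have hφ : ∀ a : F[X], φ (AdjoinRoot.mk p a) = aeval T a := fun a => rfl
  letI : Module (AdjoinRoot p) (Vec m F) := Module.compHom _ φ
  have hsm : ∀ (a : F[X]) (v : Vec m F), AdjoinRoot.mk p a • v = aeval T a v := fun a v => by
    rw [← hφ]; rfl
  set ω : AdjoinRoot p := AdjoinRoot.root p with hω
  have hωv : ∀ v : Vec m F, ω • v = x • v := fun v => by
    rw [hω, ← AdjoinRoot.mk_X, hsm, aeval_X, hT]
  have hιv : ∀ (a : F) (v : Vec m F), algebraMap F (AdjoinRoot p) a • v = a • v := fun a v => by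
    rw [AdjoinRoot.algebraMap_eq, ← AdjoinRoot.mk_C, hsm, aeval_C, Module.algebraMap_end_apply]
  haveI : IsScalarTower F (AdjoinRoot p) (Vec m F) :=
    IsScalarTower.of_algebraMap_smul hιv
  haveI : Module.Finite F (AdjoinRoot p) := (AdjoinRoot.powerBasis hp0).finite
  haveI : Finite (AdjoinRoot p) := Module.finite_of_finite F
  letI : Fintype (AdjoinRoot p) := Fintype.ofFinite _
  have h2 : finrank F (AdjoinRoot p) = 2 := by
    rw [(AdjoinRoot.powerBasis hp0).finrank, AdjoinRoot.powerBasis_dim, hd]
  have hK : Fintype.card (AdjoinRoot p) = q ^ 2 := by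
    rw [Module.card_eq_pow_finrank (K := F), h2, hF]
  -- the arithmetic of `ω`
  have hω2 : ω ^ 2 + ω + 1 = 0 := by
    have h := AdjoinRoot.mk_self (f := p)
    simpa [hp, hω] using h
  have hω3 : ω ^ 3 = 1 := by linear_combination (ω - 1) * hω2
  have hωq : Unitary.conjHom hK ω = ω ^ 2 := by
    rw [Unitary.conjHom_apply, show q = 3 * (q / 3) + 2 by omega, pow_add, pow_mul, hω3, one_pow,
      one_mul]
  have hιq : ∀ a : F, Unitary.conjHom hK (algebraMap F (AdjoinRoot p) a) =
      algebraMap F (AdjoinRoot p) a := fun a => by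
    rw [Unitary.conjHom_apply, ← map_pow, ← hF, FiniteField.pow_card]
  have hindep : ∀ a b : F, algebraMap F (AdjoinRoot p) a + ω * algebraMap F _ b = 0 → b = 0 := by
    intro a b h
    by_contra hb
    have hr : ω = algebraMap F (AdjoinRoot p) (-a / b) := by
      rw [map_div₀, map_neg, eq_div_iff (by simpa using hb)]
      linear_combination h
    have hroot : (-a / b) ^ 2 + (-a / b) + 1 = 0 :=
      (algebraMap F (AdjoinRoot p)).injective (by simpa [hr] using hω2)
    exact (cube_root_poly_irreducible hF hq).not_isRoot_of_natDegree_ne_one (by rw [hd]; omega)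
      (x := -a / b) (by simpa [IsRoot] using hroot)
  -- the Hermitian form
  let h : Vec m F → Vec m F → AdjoinRoot p := fun u v =>
    -(algebraMap F (AdjoinRoot p) (sympForm m F u v + sympForm m F (x • u) v)) -
      ω * algebraMap F _ (sympForm m F u v)
  have hrec : ∀ u v u' v', h u v = h u' v' → sympForm m F u v = sympForm m F u' v' := by
    intro u v u' v' e
    simp only [h] at e
    refine sub_eq_zero.1 (hindep (sympForm m F u v + sympForm m F (x • u) v -
      (sympForm m F u' v' + sympForm m F (x • u') v')) _ ?_)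
    simp only [map_sub]
    linear_combination -e
  have hxT : ∀ u v, sympForm m F (x • u) (x • v) = sympForm m F u v := sympForm_smul_smul x
  have hsq : ∀ u : Vec m F, x • (x • u) = -(x • u) - u := fun u => by
    rw [eq_sub_iff_add_eq, eq_neg_iff_add_eq_zero, ← hx u]; abel
  have hadd : ∀ u u' v, h (u + u') v = h u v + h u' v := fun u u' v => by
    simp only [h, smul_add, sympForm_add_left, map_add]; ring
  have hx3 : ∀ u : Vec m F, x • (x • (x • u)) = u := fun u => by
    rw [hsq (x • u), hsq u]; abel
  have hconj : ∀ u v, Unitary.conjHom hK (h u v) = h v u := by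
    intro u v
    have e : sympForm m F (x • v) u = sympForm m F u v + sympForm m F (x • u) v := by
      calc sympForm m F (x • v) u = -sympForm m F u (x • v) := sympForm_swap _ _
        _ = -sympForm m F (x • (x • u)) (x • (x • (x • v))) := by rw [hxT, hxT]
        _ = _ := by
          rw [hx3, hsq, sympForm_sub_left, show -(x • u) = (-1 : F) • (x • u) by rw [neg_one_smul],
            sympForm_smul_left]
          ring
    simp only [h]
    rw [map_sub, map_neg, map_mul, hωq, hιq, hιq, e, sympForm_swap v u]
    simp only [map_add, map_neg]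
    linear_combination (-algebraMap F (AdjoinRoot p) (sympForm m F u v)) * hω2
  have hωh : ∀ u v, h (x • u) v = ω * h u v := fun u v => by
    have e : sympForm m F (x • (x • u)) v = -sympForm m F (x • u) v - sympForm m F u v := by
      rw [hsq, sympForm_sub_left, show -(x • u) = (-1 : F) • (x • u) by rw [neg_one_smul],
        sympForm_smul_left]
      ring
    simp only [h, e, map_add, map_sub, map_neg]
    linear_combination (algebraMap F (AdjoinRoot p) (sympForm m F u v)) * hω2
  have hιh : ∀ (a : F) u v, h (a • u) v = algebraMap F _ a * h u v := fun a u v => by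
    simp only [h, smul_comm x a, sympForm_smul_left, map_add, map_mul]
    ring
  have hsmul : ∀ (c : AdjoinRoot p) u v, h (c • u) v = c * h u v := by
    intro c u v
    induction c using AdjoinRoot.induction_on with
    | ih a =>
      induction a using Polynomial.induction_on generalizing u with
      | C a => rw [AdjoinRoot.mk_C, ← AdjoinRoot.algebraMap_eq, hιv, hιh]
      | add a b ha hb => rw [map_add, add_smul, hadd, ha, hb, add_mul]
      | monomial n a ih =>
        rw [pow_succ, ← mul_assoc, map_mul, mul_smul, ih, AdjoinRoot.mk_X, ← hω, hωv, hωh, mul_assoc]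
  have hcomm : ∀ g : Sp m F, (∀ v : Vec m F, g • (x • v) = x • (g • v)) →
      ∀ (c : AdjoinRoot p) (v : Vec m F), g • (c • v) = c • (g • v) := by
    intro g hg c v
    induction c using AdjoinRoot.induction_on with
    | ih a =>
      induction a using Polynomial.induction_on generalizing v with
      | C a => rw [AdjoinRoot.mk_C, ← AdjoinRoot.algebraMap_eq, hιv, hιv, smul_comm]
      | add a b ha hb => rw [map_add, add_smul, add_smul, smul_add, ha, hb]
      | monomial n a ih =>
        rw [pow_succ, ← mul_assoc, map_mul, mul_smul, mul_smul, ih, AdjoinRoot.mk_X, ← hω, hωv,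
          hωv, hg]
  let B : Vec m F →ₛₗ[Unitary.conjHom hK] Vec m F →ₗ[AdjoinRoot p] AdjoinRoot p :=
    LinearMap.mk₂'ₛₗ (Unitary.conjHom hK) (RingHom.id _) (fun u v => h v u)
      (fun u u' v => by rw [← hconj, hadd, map_add, hconj, hconj])
      (fun c u v => by rw [← hconj, hsmul, map_mul, hconj, smul_eq_mul])
      (fun u v v' => hadd v v' u) (fun c u v => hsmul c v u)
  have hB : ∀ u v, B u v = h v u := fun u v => rfl
  have hnd : ∀ w ∈ (⊤ : Submodule (AdjoinRoot p) (Vec m F)),
      (∀ v ∈ (⊤ : Submodule (AdjoinRoot p) (Vec m F)), B w v = 0) → w = 0 := by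
    intro w _ hw
    refine Forms.sympForm_left_cancel fun v => ?_
    have h0 : h v w = 0 := hw v trivial
    have := hrec v w 0 w (by
      rw [h0]
      simp [h, show sympForm m F (0 : Vec m F) w = 0 by
        rw [show (0 : Vec m F) = (0 : F) • (0 : Vec m F) by simp, sympForm_smul_left, zero_mul]])
    rw [sympForm_swap, this, show (0 : Vec m F) = (0 : F) • (0 : Vec m F) by simp,
      sympForm_smul_left, zero_mul, neg_zero]
  haveI : Module.Finite (AdjoinRoot p) (Vec m F) := Module.Finite.of_finite
  have hrank : finrank (AdjoinRoot p) (Vec m F) = m := by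
    have := Module.finrank_mul_finrank F (AdjoinRoot p) (Vec m F)
    rw [h2, Module.finrank_pi, Fintype.card_sum, Fintype.card_fin] at this
    omega
  obtain ⟨b, -, hb⟩ := Forms.exists_orthonormal_family (σ := Unitary.conjHom hK)
    (Unitary.conjHom_ne_id hK) (Unitary.pow_q_pow_q hK) B
    ⟨fun u v => hconj v u⟩ m ⊤ hnd (by rw [finrank_top, hrank])
  let Φ : (Fin m → AdjoinRoot p) →ₗ[AdjoinRoot p] Vec m F := Fintype.linearCombination _ b
  have hΦh : ∀ u v, h (Φ u) (Φ v) = Unitary.herm q u v := by
    intro u v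
    rw [← hB]
    simp only [Φ, Fintype.linearCombination_apply, map_sum, map_smulₛₗ, LinearMap.sum_apply,
      LinearMap.smul_apply, RingHom.id_apply, smul_eq_mul, hb, mul_ite, mul_one, mul_zero,
      Finset.sum_ite_eq', Finset.mem_univ, if_true]
    simp only [Unitary.herm, hermForm, Unitary.conjHom_apply]
  have hΦi : Function.Injective Φ := by
    rw [injective_iff_map_eq_zero]
    intro u hu
    refine Unitary.eq_zero_of_herm hK fun v => ?_
    rw [← hΦh, hu, ← zero_smul (AdjoinRoot p) (0 : Vec m F), hsmul, zero_mul]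
  let Ψ : (Fin m → AdjoinRoot p) ≃ₗ[AdjoinRoot p] Vec m F :=
    LinearMap.linearEquivOfInjective Φ hΦi (by rw [hrank, Module.finrank_fin_fun])
  have hΨ : ∀ u v, h (Ψ u) (Ψ v) = Unitary.herm q u v := hΦh
  have key : ∀ g : {g : Sp m F // ∀ v : Vec m F, g • (x • v) = x • (g • v)},
      ∃ G : GU m (AdjoinRoot p) q, ∀ u : Fin m → AdjoinRoot p, G • u = Ψ.symm (g.1 • Ψ u) := by
    intro g
    let L : (Fin m → AdjoinRoot p) →ₗ[AdjoinRoot p] (Fin m → AdjoinRoot p) :=
      { toFun := fun u => Ψ.symm (g.1 • Ψ u)
        map_add' := fun u v => by simp [smul_add]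
        map_smul' := fun c u => by simp [hcomm g.1 g.2] }
    refine exists_GU_of_endo hK L fun u v => ?_
    rw [← hΨ, ← hΨ]
    simp only [L, LinearMap.coe_mk, AddHom.coe_mk, LinearEquiv.apply_symm_apply]
    simp only [h, ← g.2, sympForm_smul_smul]
  choose ψ hψ using key
  have hbij : Function.Bijective ψ := by
    refine ⟨fun g g' e => Subtype.ext (Symplectic.eq_of_smul_eq fun v => ?_), fun G => ?_⟩
    · have := hψ g (Ψ.symm v)
      rw [e, hψ, LinearEquiv.apply_symm_apply] at this
      exact (Ψ.symm.injective this).symm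
    · let N : Vec m F →ₗ[F] Vec m F :=
        { toFun := fun v => Ψ (G • Ψ.symm v)
          map_add' := fun u v => by simp [smul_add]
          map_smul' := fun c v => by
            rw [RingHom.id_apply, ← hιv c v, Ψ.symm.map_smul, smul_comm G, Ψ.map_smul, hιv] }
      have hN : ∀ (c : AdjoinRoot p) v, N (c • v) = c • N v := fun c v => by
        show Ψ (G • Ψ.symm (c • v)) = c • Ψ (G • Ψ.symm v)
        rw [Ψ.symm.map_smul, smul_comm G, Ψ.map_smul]
      have hNf : ∀ u v, sympForm m F (N u) (N v) = sympForm m F u v := fun u v =>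
        hrec _ _ _ _ (by
          show h (Ψ _) (Ψ _) = _
          rw [hΨ, Unitary.herm_smul_GU, ← hΨ, Ψ.apply_symm_apply, Ψ.apply_symm_apply])
      refine ⟨⟨Forms.spOfLinearMap N hNf, fun v => ?_⟩, Unitary.eq_of_smul_eq_GU fun u => ?_⟩
      · refine (Forms.spOfLinearMap_smul N hNf _).trans (Eq.trans ?_
          (congrArg (x • ·) (Forms.spOfLinearMap_smul N hNf v).symm))
        rw [← hωv, hN, hωv]
      · refine (hψ _ u).trans ((congrArg Ψ.symm (Forms.spOfLinearMap_smul N hNf (Ψ u))).trans ?_)
        show Ψ.symm (Ψ (G • Ψ.symm (Ψ u))) = G • u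
        simp
  rw [Nat.card_congr (Equiv.ofBijective ψ hbij), Unitary.card_GU hK]

end

end Cfsg.Agent.Classical10
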