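import Cfsg.Agent.Lib.Symplectic.Basic
import Cfsg.Agent.Lib.Unitary.Generation
import Cfsg.Agent.Lib.Unitary.Transvection
import Cfsg.Prelude.Def_SporadicB

/-!
Transvection classes in symplectic and unitary groups (helper10).
-/

set_option autoImplicit false

namespace Cfsg.Agent.Classical10

open Matrix

theorem exists_vecMulVec_of_rank {ι : Type*} [Fintype ι] [DecidableEq ι] {F : Type*} [Field F]
    {A : Matrix ι ι F} (h : A.rank = 1) : ∃ w a : ι → F, w ≠ 0 ∧ a ≠ 0 ∧ A = vecMulVec w a := by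
  rw [Matrix.rank] at h
  obtain ⟨⟨w, hw⟩, hw0, hspan⟩ := finrank_eq_one_iff'.1 h
  choose c hc using fun j : ι => hspan ⟨A *ᵥ Pi.single j 1, LinearMap.mem_range_self _ _⟩
  have hA : A = vecMulVec w c := by
    ext i j
    have := congrFun (congrArg Subtype.val (hc j)) i
    simpa [vecMulVec_apply, Matrix.mulVec_single, mul_comm] using this.symm
  refine ⟨w, c, fun e => hw0 (Subtype.ext e), fun e => ?_, hA⟩
  apply hw0
  apply Subtype.ext
  obtain ⟨x, hx⟩ := hw
  have : A.mulVecLin x = 0 := by simp [hA, e, Matrix.vecMulVec_mulVec]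
  show w = 0
  rw [← hx, this]

theorem rank_vecMulVec_eq_one {ι : Type*} [Fintype ι] [DecidableEq ι] {F : Type*} [Field F]
    {w a : ι → F} (hw : w ≠ 0) (ha : a ≠ 0) : (vecMulVec w a).rank = 1 := by
  refine le_antisymm (Matrix.rank_vecMulVec_le w a) ?_
  rw [Nat.one_le_iff_ne_zero, Ne, Matrix.rank, Submodule.finrank_eq_zero, LinearMap.range_eq_bot]
  intro h
  obtain ⟨i, hi⟩ := Function.ne_iff.1 hw
  obtain ⟨j, hj⟩ := Function.ne_iff.1 ha
  have := congrFun (congrArg (fun f => f (Pi.single j 1)) h) i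
  simp [Matrix.mulVec_single, vecMulVec_apply] at this
  tauto

theorem braid_cube {G : Type*} [Group G] {d e : G} (hd : d * d = 1) (he : e * e = 1)
    (h : d * e * d = e * d * e) : (d * e) ^ 3 = 1 := by
  have : (d * e) ^ 3 = d * e * d * (e * d * e) := by
    rw [pow_succ, pow_two]; simp only [mul_assoc]
  rw [this, ← h]
  calc d * e * d * (d * e * d) = d * e * (d * d) * e * d := by group
    _ = 1 := by rw [hd, mul_one, mul_assoc d e e, he, mul_one, hd]

theorem commute_sq {G : Type*} [Group G] {d e : G} (hd : d * d = 1) (he : e * e = 1)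
    (h : d * e * d = e) : (d * e) ^ 2 = 1 := by
  rw [pow_two, ← mul_assoc, h, he]

section Sp

open Cfsg.Agent.Symplectic

variable {F : Type*} [Field F] {m : ℕ}

theorem exists_tv_of_rank {g : Sp m F}
    (h : ((g : Matrix (Fin m ⊕ Fin m) (Fin m ⊕ Fin m) F) - 1).rank = 1) :
    ∃ (w : Vec m F) (c : F), w ≠ 0 ∧ c ≠ 0 ∧ g = tv w c := by
  classical
  obtain ⟨w, a, hw, ha, hA⟩ := exists_vecMulVec_of_rank h
  have hg : ∀ x : Vec m F, g • x = x + (a ⬝ᵥ x) • w := fun x => by
    rw [smul_eq, show (g : Matrix (Fin m ⊕ Fin m) (Fin m ⊕ Fin m) F) = 1 + vecMulVec w a by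
      rw [← hA]; abel, Matrix.add_mulVec, Matrix.one_mulVec, Matrix.vecMulVec_mulVec]
    simp
  obtain ⟨x0, -, hx0⟩ := exists_form_ne_zero (S := ∅) (u := w) (by simp [supp_empty]) hw
  have key : ∀ y, (a ⬝ᵥ y) * sympForm m F x0 w = (a ⬝ᵥ x0) * sympForm m F y w := by
    intro y
    have h1 := sympForm_smul_smul g x0 y
    simp only [hg, sympForm_add_left, sympForm_add_right, sympForm_smul_left, sympForm_smul_right,
      sympForm_self] at h1
    rw [sympForm_swap w y] at h1
    linear_combination h1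
  have hf : sympForm m F x0 w ≠ 0 := by
    intro e
    apply hx0
    rw [sympForm_swap, e, neg_zero]
  refine ⟨w, (a ⬝ᵥ x0) / sympForm m F x0 w, hw, ?_, eq_of_smul_eq fun x => ?_⟩
  · intro e
    apply ha
    refine dotProduct_eq_zero a fun y => ?_
    have := key y
    rw [div_eq_zero_iff, or_iff_left hf] at e
    rw [e, zero_mul] at this
    exact (mul_eq_zero.1 this).resolve_right hf
  · rw [hg, tv_smul]
    congr 2
    field_simp
    exact key x

theorem rank_tv {w : Vec m F} {c : F} (hw : w ≠ 0) (hc : c ≠ 0) :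
    (((tv w c : Sp m F) : Matrix (Fin m ⊕ Fin m) (Fin m ⊕ Fin m) F) - 1).rank = 1 := by
  classical
  obtain ⟨x0, -, hx0⟩ := exists_form_ne_zero (S := ∅) (u := w) (by simp [supp_empty]) hw
  show (sympTransvection m w c - 1).rank = 1
  rw [sympTransvection, add_sub_cancel_left, ← smul_vecMulVec]
  refine rank_vecMulVec_eq_one (smul_ne_zero hc hw) fun e => hx0 ?_
  rw [sympForm_swap, sympForm, dotProduct_comm]
  first
    | rw [e, zero_dotProduct, neg_zero]
    | rw [e, dotProduct_zero, neg_zero]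

/-- The transvections of `Sp_{2m}(2)` are a class of 3-transpositions. -/
theorem isThreeTranspositionClass_Sp (hF : ∀ c : F, c ≠ 0 → c = 1) (hm : 1 ≤ m) :
    Cfsg.IsThreeTranspositionClass {g : Sp m F |
      ((g : Matrix (Fin m ⊕ Fin m) (Fin m ⊕ Fin m) F) - 1).rank = 1} := by
  classical
  have h11 : (1 : F) + 1 = 0 := by
    by_contra h
    have := hF _ h
    simp at this
  set D := {g : Sp m F | ((g : Matrix (Fin m ⊕ Fin m) (Fin m ⊕ Fin m) F) - 1).rank = 1}
  have hD : ∀ g, g ∈ D ↔ ∃ w : Vec m F, w ≠ 0 ∧ g = tv w 1 := fun g => ⟨fun h => by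
      obtain ⟨w, c, hw, hc, rfl⟩ := exists_tv_of_rank h
      exact ⟨w, hw, by rw [hF c hc]⟩,
    fun ⟨w, hw, e⟩ => e ▸ rank_tv hw one_ne_zero⟩
  have hsq : ∀ w : Vec m F, tv w (1 : F) * tv w 1 = 1 := fun w => by rw [tv_mul_tv, h11, tv_zero]
  have hinv : ∀ w : Vec m F, (tv w (1 : F))⁻¹ = tv w 1 := fun w =>
    inv_eq_of_mul_eq_one_right (hsq w)
  refine ⟨⟨fun d hd => ?_, fun d hd e he => ?_⟩, ?_, ?_⟩
  · obtain ⟨w, hw, rfl⟩ := (hD d).1 hd
    refine orderOf_eq_prime (by rw [pow_two, hsq]) fun e => ?_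
    have := (hD _).2 ⟨w, hw, rfl⟩
    rw [e] at this
    simp [D] at this
  · obtain ⟨v, hv, rfl⟩ := (hD d).1 hd
    obtain ⟨w, hw, rfl⟩ := (hD e).1 he
    by_cases h : sympForm m F w v = 0
    · refine Or.inl (commute_sq (hsq v) (hsq w) ?_)
      have := conj_tv (tv v 1) w (1 : F)
      rwa [hinv, tv_smul, h, mul_zero, zero_smul, add_zero] at this
    · refine Or.inr (braid_cube (hsq v) (hsq w) ?_)
      have h1 := conj_tv (tv v 1) w (1 : F)
      have h2 := conj_tv (tv w 1) v (1 : F)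
      rw [hinv, tv_smul] at h1 h2
      rw [h1, h2, sympForm_swap v w, hF _ h, hF _ (neg_ne_zero.2 one_ne_zero), mul_one, one_smul,
        one_smul, add_comm]
  · let i : Fin m := ⟨0, hm⟩
    refine ⟨tv (eI i) 1, (hD _).2 ⟨_, eI_ne_zero i, rfl⟩, Set.ext fun g => ?_⟩
    rw [hD, conjugatesOf, Set.mem_setOf_eq, isConj_iff]
    constructor
    · rintro ⟨w, hw, rfl⟩
      obtain ⟨t, ht⟩ := exists_smul_eq_of_ne_zero (eI_ne_zero i) hw
      exact ⟨t, by rw [conj_tv, ht]⟩
    · rintro ⟨t, rfl⟩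
      exact ⟨t • eI i, smul_ne_zero_of_ne_zero t (eI_ne_zero i), conj_tv t _ _⟩
  · rw [eq_top_iff, ← closure_transvections (m := m) (F := F), Subgroup.closure_le]
    rintro g ⟨w, c, hg⟩
    obtain rfl : g = tv w c := Subtype.ext hg
    by_cases hw : w = 0
    · rw [show tv w c = 1 from eq_of_smul_eq fun x => by simp [tv_smul, hw]]
      exact one_mem _
    by_cases hc : c = 0
    · rw [hc, tv_zero]
      exact one_mem _
    exact Subgroup.subset_closure (rank_tv hw hc)

end Sp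

section SU

open Cfsg.Agent.Unitary

variable {F : Type*} [Field F] [Fintype F] {n q : ℕ} (hF : Fintype.card F = q ^ 2)

include hF

theorem exists_tv_of_rank_SU {g : SU n F q}
    (h : (((g : Matrix.SpecialLinearGroup (Fin n) F) : Matrix (Fin n) (Fin n) F) - 1).rank = 1) :
    ∃ (w : Fin n → F) (c : F) (hu : herm q w w = 0) (hc : c + c ^ q = 0),
      w ≠ 0 ∧ c ≠ 0 ∧ g = Unitary.tv hF hu hc := by
  classical
  obtain ⟨w, a, hw, ha, hA⟩ := exists_vecMulVec_of_rank h
  have hM : ((g : Matrix.SpecialLinearGroup (Fin n) F) : Matrix (Fin n) (Fin n) F) =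
      1 + vecMulVec w a := by rw [← hA]; abel
  have haw : a ⬝ᵥ w = 0 := by
    have hd := (g : Matrix.SpecialLinearGroup (Fin n) F).2
    rw [hM, Matrix.vecMulVec_eq Unit, Matrix.det_one_add_replicateCol_mul_replicateRow] at hd
    simpa using hd
  have hg : ∀ x : Fin n → F, g • x = x + (a ⬝ᵥ x) • w := fun x => by
    show ((g : Matrix.SpecialLinearGroup (Fin n) F) : Matrix (Fin n) (Fin n) F) *ᵥ x = _
    rw [hM, Matrix.add_mulVec, Matrix.one_mulVec, Matrix.vecMulVec_mulVec]
    simp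
  have key : ∀ x y, (a ⬝ᵥ x) * herm q w y + (a ⬝ᵥ y) ^ q * herm q x w +
      (a ⬝ᵥ x) * (a ⬝ᵥ y) ^ q * herm q w w = 0 := by
    intro x y
    have h1 := herm_smul_SU g x y
    simp only [hg, herm_add_left, herm_add_right hF, herm_smul_left, herm_smul_right hF] at h1
    linear_combination h1
  have hq0 := (q_pos hF).ne'
  have hw0 : herm q w w = 0 := by
    by_contra hne
    obtain ⟨j, hj⟩ := Function.ne_iff.1 ha
    have := key w (Pi.single j 1)
    rw [haw, zero_mul, zero_add, zero_mul, zero_mul, add_zero, dotProduct_single, mul_one] at this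
    exact hj (pow_eq_zero_iff hq0 |>.1 ((mul_eq_zero.1 this).resolve_right hne))
  obtain ⟨x0, hx0⟩ : ∃ x0, herm q x0 w = 1 := by
    obtain ⟨j, hj⟩ := Function.ne_iff.1 hw
    have hj' : w j ^ q ≠ 0 := mt (pow_q_eq_zero_iff hF).1 hj
    exact ⟨(w j ^ q)⁻¹ • eI j, by rw [herm_smul_left, herm_eI_left, inv_mul_cancel₀ hj']⟩
  have hφ : ∀ y, a ⬝ᵥ y = -(a ⬝ᵥ x0) ^ q * herm q y w := by
    intro y
    have h1 := key x0 y
    rw [hx0, hw0, mul_zero, add_zero, mul_one] at h1
    have h2 : (a ⬝ᵥ y) ^ q = -((a ⬝ᵥ x0) * herm q w y) := by linear_combination h1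
    have h3 := congrArg (· ^ q) h2
    simp only [pow_q_pow_q hF, neg_pow_q hF, mul_pow] at h3
    rw [h3, herm_swap hF w y]
    ring
  have hc : -(a ⬝ᵥ x0) ^ q + (-(a ⬝ᵥ x0) ^ q) ^ q = 0 := by
    rw [neg_pow_q hF, pow_q_pow_q hF]
    have h1 := hφ x0
    rw [hx0, mul_one] at h1
    linear_combination -h1
  refine ⟨w, -(a ⬝ᵥ x0) ^ q, hw0, hc, hw, ?_, eq_of_smul_eq_SU fun x => ?_⟩
  · intro e
    exact ha (dotProduct_eq_zero a fun y => by rw [hφ y, e, zero_mul])
  · rw [hg, Unitary.tv_smul, ← hφ]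

theorem tv_smul_vec_SU {u : Fin n → F} {c : F} (hu : herm q u u = 0) (hc : c + c ^ q = 0) (b : F)
    (hub : herm q (b • u) (b • u) = 0) {c' : F} (hc' : c' + c' ^ q = 0)
    (h : b ^ (q + 1) * c' = c) : Unitary.tv hF hub hc' = Unitary.tv hF hu hc :=
  eq_of_smul_eq_SU fun x => by
    rw [Unitary.tv_smul, Unitary.tv_smul, herm_smul_right hF, smul_smul, ← h, pow_succ']
    ring_nf

theorem tv_congr {u u' : Fin n → F} {c : F} (hu : herm q u u = 0) (hu' : herm q u' u' = 0)
    (hc : c + c ^ q = 0) (e : u = u') : Unitary.tv hF hu hc = Unitary.tv hF hu' hc := by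
  subst e; rfl

/-- Transvections of `SU_n(q)`, `n ≥ 3`, are conjugate. -/
theorem isConj_tv_SU (hn : 3 ≤ n) {u u' : Fin n → F} {c c' : F} (hu : herm q u u = 0)
    (hu' : herm q u' u' = 0) (hc : c + c ^ q = 0) (hc' : c' + c' ^ q = 0) (h0 : u ≠ 0)
    (h0' : u' ≠ 0) (hc0 : c ≠ 0) (hc0' : c' ≠ 0) :
    IsConj (Unitary.tv hF hu hc) (Unitary.tv hF hu' hc') := by
  have hfix : (c' / c) ^ q = c' / c := by
    rw [div_pow, eq_neg_of_add_eq_zero_right hc, eq_neg_of_add_eq_zero_right hc', neg_div_neg_eq]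
  obtain ⟨b, hb⟩ := exists_norm_eq hF hfix
  have hb0 : b ≠ 0 := fun e => by
    rw [e, zero_pow (by omega)] at hb
    exact div_ne_zero hc0' hc0 hb.symm
  have hub : herm q (b • u') (b • u') = 0 := by
    rw [herm_smul_left, herm_smul_right hF, hu', mul_zero, mul_zero]
  obtain ⟨t, -, ht⟩ := exists_move hF (S := ∅) (by simpa using hn) (by simp [supp_empty])
    (by simp [supp_empty]) hu hub h0 (smul_ne_zero hb0 h0')
  rw [isConj_iff]
  refine ⟨t, ?_⟩
  rw [conj_tv hF t hu hc, tv_congr hF _ hub hc ht]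
  exact tv_smul_vec_SU hF hu' hc' b hub hc (by rw [hb, div_mul_cancel₀ _ hc0])

theorem rank_tv_SU {u : Fin n → F} {c : F} (hu : herm q u u = 0) (hc : c + c ^ q = 0) (h0 : u ≠ 0)
    (hc0 : c ≠ 0) : ((((Unitary.tv hF hu hc : SU n F q) : Matrix.SpecialLinearGroup (Fin n) F) :
      Matrix (Fin n) (Fin n) F) - 1).rank = 1 := by
  classical
  rw [coe_tv, unitaryTransvection, add_sub_cancel_left, ← smul_vecMulVec]
  refine rank_vecMulVec_eq_one (smul_ne_zero hc0 h0) fun e => h0 ?_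
  funext i
  exact (pow_q_eq_zero_iff hF).1 (congrFun e i)

/-- The transvections of `SU_n(2)`, `n ≥ 4`, are a class of 3-transpositions. -/
theorem isThreeTranspositionClass_SU (hq : q = 2) (hn : 4 ≤ n) :
    Cfsg.IsThreeTranspositionClass {g : SU n F q |
      (((g : Matrix.SpecialLinearGroup (Fin n) F) : Matrix (Fin n) (Fin n) F) - 1).rank = 1} := by
  classical
  subst hq
  have h11 : (1 : F) + 1 ^ 2 = 0 := by
    obtain ⟨p, k, hp, hk, hchar, hpk⟩ := exists_prime_pow hF
    obtain rfl : p = 2 :=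
      (Nat.prime_dvd_prime_iff_eq hp Nat.prime_two).1 (hpk ▸ dvd_pow_self p hk.ne')
    haveI := hchar
    rw [one_pow]
    exact CharTwo.add_self_eq_zero 1
  have hc1 : ∀ c : F, c + c ^ 2 = 0 → c ≠ 0 → c = 1 := fun c hc hc0 => by
    have : c * (c - 1) = 0 := by linear_combination hc - c * h11
    exact sub_eq_zero.1 ((mul_eq_zero.1 this).resolve_left hc0)
  set D := {g : SU n F 2 |
      (((g : Matrix.SpecialLinearGroup (Fin n) F) : Matrix (Fin n) (Fin n) F) - 1).rank = 1}
  have hD : ∀ g, g ∈ D ↔ ∃ (w : Fin n → F) (hu : herm 2 w w = 0), w ≠ 0 ∧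
      g = Unitary.tv hF hu h11 := fun g => ⟨fun h => by
      obtain ⟨w, c, hu, hc, hw, hc0, rfl⟩ := exists_tv_of_rank_SU hF h
      obtain rfl := hc1 c hc hc0
      exact ⟨w, hu, hw, rfl⟩,
    fun ⟨w, hu, hw, e⟩ => e ▸ rank_tv_SU hF hu h11 hw one_ne_zero⟩
  have hsq : ∀ (w : Fin n → F) (hu : herm 2 w w = 0),
      Unitary.tv hF hu h11 * Unitary.tv hF hu h11 = 1 := fun w hu => eq_of_smul_eq_SU fun x => by
    simp only [mul_smul, Unitary.tv_smul, herm_add_left, herm_smul_left, hu, mul_zero, add_zero,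
      one_mul, one_smul, add_assoc, ← add_smul]
    have : herm 2 x w + herm 2 x w = 0 := by linear_combination herm 2 x w * h11
    rw [this, zero_smul, add_zero]
  have hinv : ∀ (w : Fin n → F) (hu : herm 2 w w = 0),
      (Unitary.tv hF hu h11)⁻¹ = Unitary.tv hF hu h11 := fun w hu =>
    inv_eq_of_mul_eq_one_right (hsq w hu)
  refine ⟨⟨fun d hd => ?_, fun d hd e he => ?_⟩, ?_, ?_⟩
  · obtain ⟨w, hu, hw, rfl⟩ := (hD d).1 hd
    refine orderOf_eq_prime (by rw [pow_two, hsq]) fun e => ?_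
    have := (hD _).2 ⟨w, hu, hw, rfl⟩
    rw [e] at this
    simp [D] at this
  · obtain ⟨v, hv, hv0, rfl⟩ := (hD d).1 hd
    obtain ⟨w, hw, hw0, rfl⟩ := (hD e).1 he
    set a := herm 2 w v with ha
    have h1 := conj_tv hF (Unitary.tv hF hv h11) hw h11
    have h2 := conj_tv hF (Unitary.tv hF hw h11) hv h11
    rw [hinv] at h1 h2
    have hvw : herm 2 v w = a ^ 2 := herm_swap hF w v
    have e1 : Unitary.tv hF hv h11 • w = w + a • v := by rw [Unitary.tv_smul, one_mul]
    have e2 : Unitary.tv hF hw h11 • v = v + (a ^ 2) • w := by rw [Unitary.tv_smul, one_mul, hvw]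
    by_cases h : a = 0
    · refine Or.inl (commute_sq (hsq v hv) (hsq w hw) ?_)
      rw [h1]
      exact tv_congr hF _ hw h11 (by rw [e1, h, zero_smul, add_zero])
    · refine Or.inr (braid_cube (hsq v hv) (hsq w hw) ?_)
      have hc3 : a ^ 3 = 1 := by
        have := FiniteField.pow_card_sub_one_eq_one a h
        rwa [hF] at this
      have hE : herm 2 (w + a • v) (w + a • v) = 0 := by
        rw [← e1]; exact (herm_smul_SU _ w w).trans hw
      have hE2 : herm 2 (a ^ 2 • (w + a • v)) (a ^ 2 • (w + a • v)) = 0 := by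
        rw [herm_smul_left, herm_smul_right hF, hE, mul_zero, mul_zero]
      rw [h1, h2]
      refine ((tv_congr hF _ hE h11 e1).trans ?_).trans
        (tv_congr hF _ hE2 h11 (u' := a ^ 2 • (w + a • v)) ?_).symm
      · exact (tv_smul_vec_SU hF hE h11 _ hE2 h11
          (by rw [mul_one, ← pow_mul, pow_mul', hc3, one_pow])).symm
      · rw [e2, smul_add, smul_smul, ← pow_succ, hc3, one_smul, add_comm]
  · obtain ⟨u, v, -, -, hu, -, huv⟩ := exists_std_pair hF
      (show (⟨0, by omega⟩ : Fin n) ≠ ⟨1, by omega⟩ by simp)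
    have h0 := ne_zero_of_herm_one hF huv
    refine ⟨Unitary.tv hF hu h11, (hD _).2 ⟨u, hu, h0, rfl⟩, Set.ext fun g => ?_⟩
    rw [hD, conjugatesOf, Set.mem_setOf_eq]
    constructor
    · rintro ⟨w, hw, hw0, rfl⟩
      exact isConj_tv_SU hF (by omega) hu hw h11 h11 h0 hw0 one_ne_zero one_ne_zero
    · intro h
      obtain ⟨t, rfl⟩ := isConj_iff.1 h
      refine ⟨t • u, (herm_smul_SU t u u).trans hu, fun e => h0 ?_, conj_tv hF t hu h11⟩
      rwa [smul_eq_zero_iff_eq] at e
  · rw [eq_top_iff, ← Unitary.closure_transvections hF (n := n) (by omega), Subgroup.closure_le]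
    rintro g ⟨w, c, hu, hg⟩
    by_cases hw : w = 0 ∨ c = 0
    · rw [show g = 1 from Subtype.ext (Subtype.ext (hg.trans (by
        rcases hw with h | h <;> ext i j <;> simp [unitaryTransvection, h, vecMulVec_apply])))]
      exact one_mem _
    · push Not at hw
      refine Subgroup.subset_closure ?_
      show (((g : Matrix.SpecialLinearGroup (Fin n) F) : Matrix (Fin n) (Fin n) F) - 1).rank = 1
      rw [hg]
      have hc : c + c ^ 2 = 0 := trace_zero_of_preserves hF hw.1 hu fun x y => by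
        rw [← hg]; exact g.2 x y
      have := rank_tv_SU hF hu hc hw.1 hw.2
      rwa [coe_tv] at this

end SU

end Cfsg.Agent.Classical10
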