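import Cfsg.Agent.Classical10.U32Cert
import Cfsg.Agent.Lib.Unitary.Center
import Cfsg.Agent.Lib.LinearGroup.TorusSylow

/-!
`PSU₃(2) ≅ 3².Q₈`, and its subgroup lattice is not complemented (helper10).
-/

set_option autoImplicit false
set_option linter.style.haveILetI false

namespace Cfsg.Agent.U32

open Matrix QuaternionGroup

theorem hom_injective {G : Type*} [Group G] (φ : QuaternionGroup 2 →* G)
    (h : φ (a 2) ≠ 1) : Function.Injective φ := by
  rw [injective_iff_map_eq_one]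
  intro g hg
  have key : ∀ g : QuaternionGroup 2, g = 1 ∨ g = a 2 ∨ g * g = a 2 := by decide
  rcases key g with h1 | h1 | h1
  · exact h1
  · exact absurd (h1 ▸ hg) h
  · exact absurd (by rw [← h1, map_mul, hg, one_mul]) h

theorem quat_embed {G : Type*} [Group G] (E : Subgroup G) [E.Normal] (x y : G)
    (h1 : x * x * x * x ∈ E) (h2 : y * y * (x * x) ∈ E) (h3 : y * x * y⁻¹ * x ∈ E)
    (h4 : x * x ∉ E) :
    ∃ φ : QuaternionGroup 2 →* G ⧸ E, Function.Injective φ := by
  set π := QuotientGroup.mk' E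
  have hk : ∀ g, g ∈ E → π g = 1 := fun g hg => (QuotientGroup.eq_one_iff g).2 hg
  have e1 : π x * π x * π x * π x = 1 := by rw [← map_mul, ← map_mul, ← map_mul]; exact hk _ h1
  have e2 : π y * π y * (π x * π x) = 1 := by rw [← map_mul, ← map_mul, ← map_mul]; exact hk _ h2
  have e3 : π y * π x * (π y)⁻¹ * π x = 1 := by
    rw [← map_inv, ← map_mul, ← map_mul, ← map_mul]; exact hk _ h3
  have hsq : π x * π x * (π x * π x) = 1 := by rw [← mul_assoc]; exact e1
  obtain ⟨φ, -, -, hφa, -⟩ := LinearGroup.exists_quaternion_hom (n := 2) (π x) (π y)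
    (by rw [show 2 * 2 = 4 from rfl, pow_succ, pow_succ, pow_two, e1])
    (by rw [pow_two]; exact (eq_inv_of_mul_eq_one_left e2).trans (inv_eq_of_mul_eq_one_right hsq))
    (by
      have := eq_inv_of_mul_eq_one_left e3
      exact mul_inv_eq_iff_eq_mul.1 this)
  refine ⟨φ, hom_injective φ fun e => h4 ?_⟩
  rw [hφa, show ((2 : ZMod (2 * 2)).val) = 2 from rfl, pow_two, ← map_mul] at e
  exact (QuotientGroup.eq_one_iff _).1 e

variable {F : Type*} [Field F] [Fintype F] (hF : Fintype.card F = 4)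

include hF

theorem exists_ringHom : ∃ φ : R →+* F, Function.Injective φ ∧ ∀ r, φ r ^ 2 = φ (r * r) := by
  classical
  have hF' : Fintype.card F = 2 ^ 2 := hF
  obtain ⟨p, k, hp, hk, hchar, hpk⟩ := Unitary.exists_prime_pow hF'
  obtain rfl : p = 2 := (Nat.prime_dvd_prime_iff_eq hp Nat.prime_two).1 (hpk ▸ dvd_pow_self p hk.ne')
  haveI := hchar
  letI : Algebra (ZMod 2) F := ZMod.algebra F 2
  obtain ⟨ω, hω0, hω1⟩ : ∃ ω : F, ω ≠ 0 ∧ ω ≠ 1 := by
    by_contra hcon
    push Not at hcon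
    have : (Finset.univ : Finset F) ⊆ {0, 1} := fun x _ => by
      by_cases hx : x = 0
      · simp [hx]
      · simp [hcon x hx]
    have := Finset.card_le_card this
    rw [Finset.card_univ, hF] at this
    exact absurd (this.trans Finset.card_le_two) (by norm_num)
  have h3 : ω ^ 3 = 1 := by
    have := FiniteField.pow_card_sub_one_eq_one ω hω0
    rwa [hF] at this
  have hw : ω * ω = 1 + ω := by
    have h : (ω - 1) * (ω * ω + ω + 1) = 0 := by linear_combination h3
    have h' := (mul_eq_zero.1 h).resolve_left (sub_ne_zero.2 hω1)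
    have h2 : (2 : F) = 0 := CharTwo.two_eq_zero
    linear_combination h' - (ω + 1) * h2
  let φ : R →ₐ[ZMod 2] F := QuadraticAlgebra.lift ⟨ω, by rw [one_smul, one_smul]; exact hw⟩
  refine ⟨φ.toRingHom, ?_, fun r => by rw [map_mul]; ring⟩
  rw [injective_iff_map_eq_zero]
  rintro ⟨r, i⟩ h
  change r • (1 : F) + i • ω = 0 at h
  have h01 : ∀ t : ZMod 2, t = 0 ∨ t = 1 := by decide
  rcases h01 r with rfl | rfl <;> rcases h01 i with rfl | rfl
  · rfl
  · simp [hω0] at h
  · simp at h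
  · simp at h
    exact absurd (by linear_combination h - (CharTwo.two_eq_zero : (2 : F) = 0)) hω1

theorem exists_structure : ∃ (E : Subgroup (Cfsg.SU 3 F 2)) (_ : E.Normal),
    Nat.card E = 27 ∧ Subgroup.center (Cfsg.SU 3 F 2) ≤ E ∧
    (∀ x ∈ E, x ^ 3 ∈ Subgroup.center (Cfsg.SU 3 F 2)) ∧
    Nonempty (Cfsg.SU 3 F 2 ⧸ E ≃* QuaternionGroup 2) := by
  classical
  have hF' : Fintype.card F = 2 ^ 2 := hF
  obtain ⟨φ, hφ, hsq⟩ := exists_ringHom hF
  set Φ : Matrix (Fin 3) (Fin 3) R →+* Matrix (Fin 3) (Fin 3) F := φ.mapMatrix with hΦdef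
  have hΦ : Function.Injective Φ := fun x y h => by
    ext i j
    all_goals first
      | exact congrArg QuadraticAlgebra.re (hφ (congrFun (congrFun h i) j))
      | exact congrArg QuadraticAlgebra.im (hφ (congrFun (congrFun h i) j))
  let mat : Cfsg.SU 3 F 2 → Matrix (Fin 3) (Fin 3) F := fun g =>
    ((g : Matrix.SpecialLinearGroup (Fin 3) F) : Matrix (Fin 3) (Fin 3) F)
  have hmat : Function.Injective mat := fun g h e => Subtype.ext (Subtype.ext e)
  have hmm : ∀ g h, mat (g * h) = mat g * mat h := fun g h => rfl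
  have hm1 : mat 1 = 1 := rfl
  have hex : ∀ M ∈ A :: B :: L, ∃ g : Cfsg.SU 3 F 2, mat g = Φ M := by
    intro M hM
    obtain ⟨hu, hd⟩ := good M hM
    have hu' : Mᵀ * M.map (fun x => x * x) = 1 := of_decide_eq_true hu
    have h1 : (Φ M)ᵀ * (Φ M).map (fun x => x ^ 2) = 1 := by
      have h2 : (Φ M).map (fun x => x ^ 2) = Φ (M.map fun x => x * x) := by
        ext i j; exact hsq _
      have h3 : (Φ M)ᵀ = Φ Mᵀ := rfl
      rw [h2, h3, ← map_mul, hu', map_one]
    have hd' : (Φ M).det = 1 := by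
      rw [hΦdef, ← RingHom.map_det]
      have : M.det = 1 := by rw [Matrix.det_fin_three]; exact hd
      rw [this, map_one]
    refine ⟨⟨⟨Φ M, hd'⟩, fun u v => ?_⟩, rfl⟩
    show Cfsg.hermForm 3 F 2 (Φ M *ᵥ u) (Φ M *ᵥ v) = Cfsg.hermForm 3 F 2 u v
    have hconj : (fun x => (Φ M *ᵥ v) x ^ 2) = (Φ M).map (fun x => x ^ 2) *ᵥ fun x => v x ^ 2 := by
      funext x
      simp only [Matrix.mulVec, dotProduct, Matrix.map_apply, Unitary.sum_pow_q hF', mul_pow]
    show (Φ M *ᵥ u) ⬝ᵥ (fun x => (Φ M *ᵥ v) x ^ 2) = u ⬝ᵥ fun x => v x ^ 2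
    rw [hconj, Matrix.dotProduct_mulVec, Matrix.vecMul_mulVec, h1, Matrix.vecMul_one]
  have hinvmem : ∀ g : Cfsg.SU 3 F 2, ∀ x ∈ L, mat g = Φ x → ∃ y ∈ L, mat g⁻¹ = Φ y := by
    intro g x hx hg
    obtain ⟨y, hy, hxy⟩ := inv_mem x hx
    obtain ⟨h, hh⟩ := hex y (List.mem_cons_of_mem _ (List.mem_cons_of_mem _ hy))
    have : g * h = 1 := hmat (by rw [hmm, hg, hh, ← map_mul, hxy, map_one, hm1])
    exact ⟨y, hy, by rw [inv_eq_of_mul_eq_one_right this, hh]⟩
  let E : Subgroup (Cfsg.SU 3 F 2) :=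
    { carrier := {g | ∃ x ∈ L, mat g = Φ x}
      one_mem' := ⟨1, one_mem, by rw [hm1, map_one]⟩
      mul_mem' := by
        rintro g h ⟨x, hx, hg⟩ ⟨y, hy, hh⟩
        exact ⟨x * y, mul_mem x hx y hy, by rw [hmm, hg, hh, map_mul]⟩
      inv_mem' := by rintro g ⟨x, hx, hg⟩; exact hinvmem g x hx hg }
  have hcE : Nat.card E = 27 := by
    choose f hf using fun x : L.toFinset => hex x.1
      (List.mem_cons_of_mem _ (List.mem_cons_of_mem _ (List.mem_toFinset.1 x.2)))
    rw [← nodup.2, ← List.toFinset_card_of_nodup nodup.1, ← Nat.card_eq_finsetCard L.toFinset]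
    refine (Nat.card_congr (Equiv.ofBijective
      (fun x => (⟨f x, x.1, List.mem_toFinset.1 x.2, hf x⟩ : E)) ⟨fun x y h => ?_, ?_⟩)).symm
    · exact Subtype.ext (hΦ ((hf x).symm.trans ((congrArg (fun z : E => mat z.1) h).trans (hf y))))
    · rintro ⟨g, x, hx, hg⟩
      exact ⟨⟨x, List.mem_toFinset.2 hx⟩, Subtype.ext (hmat (by rw [hf, hg]))⟩
  obtain ⟨gA, hA⟩ := hex A List.mem_cons_self
  obtain ⟨gB, hB⟩ := hex B (List.mem_cons_of_mem _ List.mem_cons_self)
  have hA4 : gA * gA * gA * gA = 1 := hmat (by simp only [hmm, hA, ← map_mul, rels.1, map_one, hm1])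
  have hB4 : gB * gB * gB * gB = 1 := hmat (by simp only [hmm, hB, ← map_mul, rels.2.1, map_one, hm1])
  have hAi : gA⁻¹ = gA * gA * gA := inv_eq_of_mul_eq_one_left hA4
  have hBi : gB⁻¹ = gB * gB * gB := inv_eq_of_mul_eq_one_left hB4
  have hnA : gA ∈ Subgroup.normalizer (E : Set (Cfsg.SU 3 F 2)) := by
    rw [Subgroup.mem_normalizer_iff]
    intro g
    constructor
    · rintro ⟨x, hx, hg⟩
      exact ⟨_, (normA x hx).1, by simp only [hmm, hAi, hA, hg, map_mul]⟩
    · rintro ⟨x, hx, hg⟩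
      refine ⟨_, (normA x hx).2, ?_⟩
      rw [show g = gA⁻¹ * (gA * g * gA⁻¹) * gA by group, hmm, hmm, hg, hAi]
      simp only [hmm, hA, map_mul]
  have hnB : gB ∈ Subgroup.normalizer (E : Set (Cfsg.SU 3 F 2)) := by
    rw [Subgroup.mem_normalizer_iff]
    intro g
    constructor
    · rintro ⟨x, hx, hg⟩
      exact ⟨_, (normB x hx).1, by simp only [hmm, hBi, hB, hg, map_mul]⟩
    · rintro ⟨x, hx, hg⟩
      refine ⟨_, (normB x hx).2, ?_⟩
      rw [show g = gB⁻¹ * (gB * g * gB⁻¹) * gB by group, hmm, hmm, hg, hBi]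
      simp only [hmm, hB, map_mul]
  have r1 : gA * gA * gA * gA ∈ E := by rw [hA4]; exact E.one_mem
  have r2 : gB * gB * (gA * gA) ∈ E := ⟨_, rels.2.2.2.1, by simp only [hmm, hA, hB, map_mul]⟩
  have r3 : gB * gA * gB⁻¹ * gA ∈ E :=
    ⟨_, rels.2.2.2.2, by simp only [hmm, hBi, hA, hB, map_mul]⟩
  have r4 : gA * gA ∉ E := by
    rintro ⟨x, hx, h⟩
    rw [hmm, hA, ← map_mul] at h
    exact rels.2.2.1 (hΦ h ▸ hx)
  set N := Subgroup.normalizer (E : Set (Cfsg.SU 3 F 2))
  have hEN : E ≤ N := Subgroup.le_normalizer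
  have hcard : Nat.card (Cfsg.SU 3 F 2) = 216 := by
    have h := Unitary.card_SU_mul hF' (n := 3) (by norm_num)
    rw [Unitary.card_GU hF'] at h
    simp [Finset.prod_range_succ, Nat.even_iff, -Nat.card_eq_fintype_card] at h
    omega
  haveI : (E.subgroupOf N).Normal := Subgroup.normal_in_normalizer
  obtain ⟨ψ, hψ⟩ := quat_embed (E.subgroupOf N) (⟨gA, hnA⟩ : N) ⟨gB, hnB⟩ r1 r2 r3 r4
  have h8 : Nat.card (QuaternionGroup 2) = 8 := by
    rw [Nat.card_eq_fintype_card, QuaternionGroup.card]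
  have hN : N = ⊤ := by
    apply Subgroup.eq_top_of_le_card
    rw [Subgroup.card_eq_card_quotient_mul_card_subgroup (E.subgroupOf N),
      Nat.card_congr (Subgroup.subgroupOfEquivOfLe hEN).toEquiv, hcE, hcard]
    have := Nat.card_le_card_of_injective ψ hψ
    omega
  haveI hnormal : E.Normal := Subgroup.normalizer_eq_top_iff.1 hN
  obtain ⟨χ, hχ⟩ := quat_embed E gA gB r1 r2 r3 r4
  have hq : Nat.card (Cfsg.SU 3 F 2 ⧸ E) = 8 := by
    have h := Subgroup.card_eq_card_quotient_mul_card_subgroup E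
    rw [hcE, hcard] at h
    omega
  have hbij : Function.Bijective χ :=
    (Nat.bijective_iff_injective_and_card χ).2 ⟨hχ, by rw [h8, hq]⟩
  have hscal : ∀ g : Cfsg.SU 3 F 2, ∀ z ∈ Z, mat g = Φ z → g ∈ Subgroup.center (Cfsg.SU 3 F 2) := by
    intro g z hz hg
    obtain ⟨c, -, rfl⟩ := List.mem_map.1 hz
    refine (Unitary.mem_center_iff hF' (by norm_num : 2 ≤ 3)).2 ⟨φ c, fun x => ?_⟩
    show mat g *ᵥ x = _
    rw [hg, show dia c c c = Matrix.diagonal (fun _ => c) by
      ext i j <;> fin_cases i <;> fin_cases j <;> simp [dia], hΦdef, RingHom.mapMatrix_apply,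
      Matrix.diagonal_map (map_zero φ)]
    funext i
    simp [Matrix.mulVec_diagonal]
  refine ⟨E, hnormal, hcE, ?_, ?_, ⟨(MulEquiv.ofBijective χ hbij).symm⟩⟩
  · intro g hg
    obtain ⟨r, hr⟩ := (Unitary.mem_center_iff hF' (by norm_num : 2 ≤ 3)).1 hg
    have hr3 : r ^ 3 = 1 := by
      have h := Unitary.herm_smul_SU g (Unitary.eI 0 : Fin 3 → F) (Unitary.eI 0)
      rw [hr, Unitary.herm_smul_left, Unitary.herm_smul_right hF', Unitary.herm_eI_eI hF', if_pos rfl,
        mul_one] at h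
      rw [pow_succ']
      exact h
    obtain ⟨c, hc, rfl⟩ : ∃ c ∈ wp, r = φ c := by
      have hw3 : w * w * w = 1 := by decide +kernel
      have hw1 : φ w ≠ 1 := fun e => absurd (hφ (e.trans (map_one φ).symm)) (by decide +kernel)
      have hsum : φ w * φ w = 1 + φ w := by rw [← map_mul, wp_mul, map_add, map_one]
      obtain ⟨p, k, hp, hk, hchar, hpk⟩ := Unitary.exists_prime_pow hF'
      obtain rfl : p = 2 :=
        (Nat.prime_dvd_prime_iff_eq hp Nat.prime_two).1 (hpk ▸ dvd_pow_self p hk.ne')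
      haveI := hchar
      have h2 : (2 : F) = 0 := CharTwo.two_eq_zero
      have hfac : (r - 1) * (r - φ w) * (r - φ (w * w)) = 0 := by
        rw [map_mul, hsum]
        have hw3' : φ w * φ w * φ w = 1 := by rw [← map_mul, ← map_mul, hw3, map_one]
        linear_combination hr3 + (-r ^ 2 * (1 + φ w) + r * (1 + 2 * φ w) - φ w) * h2 + (r - 1) * hsum
      rcases mul_eq_zero.1 hfac with h | h
      · rcases mul_eq_zero.1 h with h | h
        · exact ⟨1, by simp [wp], by rw [map_one]; exact sub_eq_zero.1 h⟩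
        · exact ⟨w, by simp [wp], sub_eq_zero.1 h⟩
      · exact ⟨w * w, by simp [wp], sub_eq_zero.1 h⟩
    refine ⟨dia c c c, scalars_mem.1 _ (List.mem_map.2 ⟨c, hc, rfl⟩), ?_⟩
    refine Matrix.ext_of_mulVec_single fun i => ?_
    show mat g *ᵥ Pi.single i 1 = _
    rw [show mat g *ᵥ Pi.single i (1 : F) = φ c • Pi.single i 1 from hr _,
      show dia c c c = Matrix.diagonal (fun _ => c) by
      ext i j <;> fin_cases i <;> fin_cases j <;> simp [dia], hΦdef, RingHom.mapMatrix_apply,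
      Matrix.diagonal_map (map_zero φ)]
    funext j
    simp [Matrix.mulVec_diagonal]
  · rintro g ⟨x, hx, hg⟩
    refine hscal _ _ (scalars_mem.2 x hx) ?_
    simp only [pow_succ, pow_zero, one_mul, hmm, hg, map_mul]

theorem exists_normal_nine : ∃ (N : Subgroup (Cfsg.PSU 3 F 2)) (_ : N.Normal), Nat.card N = 9 ∧
    (∀ x ∈ N, x ^ 3 = 1) ∧ Nonempty (Cfsg.PSU 3 F 2 ⧸ N ≃* QuaternionGroup 2) := by
  have hF' : Fintype.card F = 2 ^ 2 := hF
  obtain ⟨E, hE, hcE, hZE, hE3, ⟨e⟩⟩ := exists_structure hF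
  set π := QuotientGroup.mk' (Subgroup.center (Cfsg.SU 3 F 2))
  haveI := hE
  have hN : (E.map π).Normal := Subgroup.Normal.map hE π (QuotientGroup.mk'_surjective _)
  refine ⟨E.map π, hN, ?_, ?_, ?_⟩
  · have h := Subgroup.card_eq_card_quotient_mul_card_subgroup ((Subgroup.center _).subgroupOf E)
    rw [hcE, Nat.card_congr (Subgroup.subgroupOfEquivOfLe hZE).toEquiv,
      Unitary.card_center hF' (by norm_num : 2 ≤ 3)] at h
    have h' : Nat.card (E.map π) = Nat.card (E ⧸ (Subgroup.center _).subgroupOf E) := by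
      have hr : (π.comp E.subtype).range = E.map π := by
        rw [MonoidHom.range_comp, Subgroup.range_subtype]
      rw [← hr, ← Nat.card_congr (QuotientGroup.quotientKerEquivRange _).toEquiv]
      refine Nat.card_congr (QuotientGroup.quotientMulEquivOfEq ?_).toEquiv
      ext x
      simp [Subgroup.mem_subgroupOf, π]
    rw [h']
    have hg : Nat.gcd 3 (2 + 1) = 3 := rfl
    rw [hg] at h
    omega
  · rintro _ ⟨g, hg, rfl⟩
    rw [← map_pow]
    exact (QuotientGroup.eq_one_iff _).2 (hE3 g hg)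
  · haveI := hN
    exact ⟨(QuotientGroup.quotientQuotientEquivQuotient _ E hZE).trans e⟩

theorem not_complementedLattice : ¬ ComplementedLattice (Subgroup (Cfsg.PSU 3 F 2)) := by
  intro h
  obtain ⟨N, hN, -, -, ⟨e⟩⟩ := exists_normal_nine hF
  haveI := hN
  let π : Cfsg.PSU 3 F 2 →* QuaternionGroup 2 := e.toMonoidHom.comp (QuotientGroup.mk' N)
  have hπ : Function.Surjective π := e.surjective.comp (QuotientGroup.mk'_surjective N)
  set Zq : Subgroup (QuaternionGroup 2) := Subgroup.zpowers (a 2)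
  obtain ⟨X, hX⟩ := h.exists_isCompl (Zq.comap π)
  have hz : ∀ g, g ∈ Zq → g = 1 ∨ g = a 2 := by
    intro g hg
    obtain ⟨k, rfl⟩ := hg
    have h2 : (a 2 : QuaternionGroup 2) ^ (2 : ℤ) = 1 := by decide
    rcases Int.even_or_odd' k with ⟨j, rfl | rfl⟩
    · exact Or.inl (by show (a 2 : QuaternionGroup 2) ^ (2 * j) = 1; rw [_root_.zpow_mul, h2, _root_.one_zpow])
    · exact Or.inr (by
        show (a 2 : QuaternionGroup 2) ^ (2 * j + 1) = a 2
        rw [_root_.zpow_add, _root_.zpow_mul, h2, _root_.one_zpow, one_mul, _root_.zpow_one])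
  have hsup : X.map π ⊔ Zq = ⊤ := by
    have := congrArg (Subgroup.map π) hX.sup_eq_top
    rwa [Subgroup.map_sup, Subgroup.map_comap_eq_self_of_surjective hπ, ← MonoidHom.range_eq_map,
      MonoidHom.range_eq_top.2 hπ, sup_comm] at this
  have hsq : ∀ g : QuaternionGroup 2, ∃ y ∈ X.map π, g * g = y * y := by
    intro g
    haveI : Zq.Normal := ⟨fun y hy c => by
      have hc : ∀ c : QuaternionGroup 2, c * a 2 * c⁻¹ = a 2 := by decide
      rcases hz y hy with rfl | rfl
      · simp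
      · rw [hc]; exact Subgroup.mem_zpowers _⟩
    have hg : g ∈ X.map π ⊔ Zq := by rw [hsup]; trivial
    obtain ⟨y, hy, z, hzz, rfl⟩ := Subgroup.mem_sup_of_normal_right.1 hg
    refine ⟨y, hy, ?_⟩
    have key : ∀ y : QuaternionGroup 2, y * a 2 * (y * a 2) = y * y := by decide
    rcases hz z hzz with rfl | rfl
    · rw [mul_one]
    · exact key y
  obtain ⟨y, hy, hy2⟩ := hsq (a 1)
  have hzX : (a 2 : QuaternionGroup 2) ∈ X.map π := by
    rw [show (a 2 : QuaternionGroup 2) = a 1 * a 1 by decide, hy2]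
    exact (X.map π).mul_mem hy hy
  obtain ⟨x, hx, hxz⟩ := hzX
  have hmem : x ∈ Zq.comap π ⊓ X := ⟨by show π x ∈ Zq; rw [hxz]; exact Subgroup.mem_zpowers _, hx⟩
  rw [hX.inf_eq_bot, Subgroup.mem_bot] at hmem
  rw [hmem, map_one] at hxz
  exact absurd hxz (by decide)

end Cfsg.Agent.U32
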