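import Mathlib

/-!
Kernel certificate for the structure of `SU₃(2)`: matrices over `F₄` given as
`QuadraticAlgebra (ZMod 2) 1 1` (helper10).
-/

set_option autoImplicit false

namespace Cfsg.Agent.U32

open Matrix

/-- The field with four elements. -/
abbrev R := QuadraticAlgebra (ZMod 2) 1 1

/-- A primitive cube root of unity. -/
def w : R := ⟨0, 1⟩

/-- `1, w, w²`. -/
def wp : List R := [1, w, w * w]

/-- A diagonal matrix. -/
def dia (a b c : R) : Matrix (Fin 3) (Fin 3) R := !![a, 0, 0; 0, b, 0; 0, 0, c]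

/-- The cyclic permutations. -/
def cyc : List (Matrix (Fin 3) (Fin 3) R) :=
  [!![1, 0, 0; 0, 1, 0; 0, 0, 1], !![0, 1, 0; 0, 0, 1; 1, 0, 0], !![0, 0, 1; 1, 0, 0; 0, 1, 0]]

/-- The extraspecial group of order 27. -/
def L : List (Matrix (Fin 3) (Fin 3) R) :=
  wp.flatMap fun a => wp.flatMap fun b => cyc.map fun c => dia a b ((a * b) * (a * b)) * c

/-- The scalars in `SU₃(2)`. -/
def Z : List (Matrix (Fin 3) (Fin 3) R) := wp.map fun a => dia a a a

/-- The Fourier matrix. -/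
def A : Matrix (Fin 3) (Fin 3) R := !![1, 1, 1; 1, w, w * w; 1, w * w, w]

/-- A second element of order four. -/
def B : Matrix (Fin 3) (Fin 3) R := dia 1 1 w * A * dia 1 1 (w * w)

/-- `Mᵀ * conj(M) = 1`. -/
def isU (M : Matrix (Fin 3) (Fin 3) R) : Bool := decide (Mᵀ * M.map (fun x => x * x) = 1)

/-- The determinant of a `3 × 3` matrix. -/
def det3 (M : Matrix (Fin 3) (Fin 3) R) : R :=
  M 0 0 * M 1 1 * M 2 2 - M 0 0 * M 1 2 * M 2 1 - M 0 1 * M 1 0 * M 2 2 +
    M 0 1 * M 1 2 * M 2 0 + M 0 2 * M 1 0 * M 2 1 - M 0 2 * M 1 1 * M 2 0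

theorem good : ∀ M ∈ A :: B :: L, isU M = true ∧ det3 M = 1 := by decide +kernel

theorem one_mem : (1 : Matrix (Fin 3) (Fin 3) R) ∈ L := by decide +kernel

theorem mul_mem : ∀ x ∈ L, ∀ y ∈ L, x * y ∈ L := by decide +kernel

theorem inv_mem : ∀ x ∈ L, ∃ y ∈ L, x * y = 1 := by decide +kernel

theorem normA : ∀ x ∈ L, A * x * (A * A * A) ∈ L ∧ A * A * A * x * A ∈ L := by decide +kernel

theorem normB : ∀ x ∈ L, B * x * (B * B * B) ∈ L ∧ B * B * B * x * B ∈ L := by decide +kernel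

theorem rels : A * A * A * A = 1 ∧ B * B * B * B = 1 ∧ A * A ∉ L ∧ B * B * (A * A) ∈ L ∧
    B * A * (B * B * B) * A ∈ L := by decide +kernel

theorem scalars_mem : (∀ z ∈ Z, z ∈ L) ∧ ∀ x ∈ L, x * x * x ∈ Z := by decide +kernel

theorem nodup : L.Nodup ∧ L.length = 27 := by decide +kernel

theorem wp_mul : w * w = 1 + w := by decide +kernel

end Cfsg.Agent.U32
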